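import Mathlib
import Cfsg.Prelude.Def_SporadicB
set_option linter.all false

set_option autoImplicit false

/-!
Lifting a class of 3-transpositions of `U` to a perfect central extension `C` of `U` by a group of
order two.
-/

namespace Cfsg.Agent.R01.Lifts

open Cfsg
open scoped commutatorElement

theorem mem_cof {G : Type*} [Group G] {a b : G} : a ∈ conjugatesOf b ↔ IsConj b a := Iff.rfl

variable {C U : Type*} [Group C] [Group U]

section basic

variable (π : C →* U) (z : C)

/-- The data of a central extension with kernel `{1, z}`. -/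
structure Ext : Prop where
  surj : Function.Surjective π
  zz : z * z = 1
  zne : z ≠ 1
  ker : ∀ c, π c = 1 ↔ c = 1 ∨ c = z
  comm : ∀ c, c * z = z * c

variable {π z}

theorem Ext.mapz (h : Ext π z) : π z = 1 := (h.ker z).2 (Or.inr rfl)

theorem Ext.map_eq (h : Ext π z) {a b : C} : π a = π b ↔ a = b ∨ a = b * z := by
  constructor
  · intro hab
    have : π (b⁻¹ * a) = 1 := by rw [map_mul, map_inv, hab, inv_mul_cancel]
    rcases (h.ker _).1 this with h1 | h1
    · left; exact (inv_mul_eq_one.1 h1).symm
    · right; rw [← h1]; group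
  · rintro (rfl | rfl)
    · rfl
    · rw [map_mul, h.mapz, mul_one]

theorem Ext.ne_mul (h : Ext π z) (a : C) : a ≠ a * z := by
  intro ha
  exact h.zne (by simpa using ha.symm)

theorem Ext.mul_z_mul_z (h : Ext π z) (a : C) : a * z * z = a := by
  rw [mul_assoc, h.zz, mul_one]

/-- If the images commute then the conjugate of `a` by `g` is `a` or `a z`. -/
theorem Ext.conj_of_commute (h : Ext π z) {g a : C} (hc : Commute (π g) (π a)) :
    g * a * g⁻¹ = a ∨ g * a * g⁻¹ = a * z := by
  apply h.map_eq.1
  rw [map_mul, map_mul, map_inv, hc.eq, mul_inv_cancel_right]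

end basic

theorem conj_prod {z b : C} (hz : ∀ c : C, c * z = z * c) (l : List C)
    (hl : ∀ x ∈ l, b * x * b⁻¹ = x * z) : b * l.prod * b⁻¹ = l.prod * z ^ l.length := by
  induction l with
  | nil => simp
  | cons x l ih =>
    have h1 := hl x List.mem_cons_self
    have h2 := ih fun y hy => hl y (List.mem_cons_of_mem _ hy)
    rw [List.prod_cons, List.length_cons, pow_succ']
    calc b * (x * l.prod) * b⁻¹ = (b * x * b⁻¹) * (b * l.prod * b⁻¹) := by group
      _ = x * z * (l.prod * z ^ l.length) := by rw [h1, h2]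
      _ = x * (z * l.prod) * z ^ l.length := by group
      _ = x * (l.prod * z) * z ^ l.length := by rw [hz]
      _ = x * l.prod * (z * z ^ l.length) := by group

theorem sq_prod (z : C) (l : List C) (hc : l.Pairwise Commute)
    (hl : ∀ x ∈ l, x * x = z) (hz : ∀ c : C, c * z = z * c) :
    l.prod * l.prod = z ^ l.length := by
  induction l with
  | nil => simp
  | cons x l ih =>
    have h1 := hl x List.mem_cons_self
    rw [List.pairwise_cons] at hc
    have h2 := ih hc.2 fun y hy => hl y (List.mem_cons_of_mem _ hy)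
    have h3 : Commute x l.prod := Commute.list_prod_right _ _ hc.1
    rw [List.prod_cons, List.length_cons, pow_succ']
    calc x * l.prod * (x * l.prod) = x * (l.prod * x) * l.prod := by group
      _ = x * (x * l.prod) * l.prod := by rw [h3.eq]
      _ = (x * x) * (l.prod * l.prod) := by group
      _ = z * z ^ l.length := by rw [h1, h2]

theorem pow_odd_of_sq {z : C} (hzz : z * z = 1) {n : ℕ} (hn : Odd n) : z ^ n = z := by
  obtain ⟨k, rfl⟩ := hn
  rw [pow_succ, pow_mul, pow_two, hzz, one_pow, one_mul]

/-- The main lifting theorem: `C` a perfect central extension by `⟨z⟩` of order two of `U`, `T` a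
class of 3-transpositions of `U` such that `U` is transitive on the commuting pairs of different
elements of `T`, there is an odd number of pairwise commuting elements of `T` with product one and a
further element of `T` commuting with all of them, and centralisers of elements of `T` are generated
by elements of `T`. -/
theorem liftsOdd {π : C →* U} {z : C} (h : Ext π z) (hperf : commutator C = ⊤) {T : Set U}
    (hT : IsThreeTranspositionClass T)
    (h2 : ∀ a ∈ T, ∀ b ∈ T, ∀ a' ∈ T, ∀ b' ∈ T, a ≠ b → a' ≠ b' → Commute a b → Commute a' b' →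
      ∃ g : U, g * a * g⁻¹ = a' ∧ g * b * g⁻¹ = b')
    (h3 : ∃ l : List U, Odd l.length ∧ (∀ x ∈ l, x ∈ T) ∧ l.Pairwise Commute ∧ l.prod = 1 ∧
      ∃ r ∈ T, ∀ x ∈ l, r ≠ x ∧ Commute r x)
    (h4 : ∀ t ∈ T, Subgroup.centralizer {t} ≤ Subgroup.closure (T ∩ {u | Commute t u})) :
    ∃ D : Set C, IsThreeTranspositionClass D ∧ Set.BijOn π D T ∧
      (∀ c, π c ∈ T → c ∈ D ∨ c * z ∈ D) ∧ (∀ c ∈ D, c * z ∉ D) ∧
      (∀ a b, π a ∈ T → π b ∈ T → Commute (π a) (π b) → Commute a b) ∧
      (∀ a, π a ∈ T → orderOf a = 2) ∧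
      (∀ a g, π a ∈ T → Commute (π g) (π a) → Commute g a) := by
  obtain ⟨l, hlodd, hlT, hlc, hlp, r, hrT, hr⟩ := h3
  obtain ⟨⟨hord, hprod⟩, ⟨t0, ht0, hTconj⟩, hgen⟩ := hT
  have sq1 : ∀ u ∈ T, u * u = 1 := fun u hu => by
    have := pow_orderOf_eq_one u
    rw [hord u hu, pow_two] at this
    exact this
  have ne1 : ∀ u ∈ T, u ≠ 1 := fun u hu h1 => by
    have := hord u hu
    rw [h1, orderOf_one] at this
    exact absurd this (by norm_num)
  -- conjugates stay in `T`
  have conjT : ∀ u ∈ T, ∀ g : U, g * u * g⁻¹ ∈ T := by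
    intro u hu g
    rw [hTconj] at hu ⊢
    rw [mem_cof] at hu ⊢
    exact hu.trans (isConj_iff.2 ⟨g, rfl⟩)
  have transT : ∀ u ∈ T, ∀ v ∈ T, ∃ g : U, g * u * g⁻¹ = v := by
    intro u hu v hv
    rw [hTconj] at hu hv
    rw [mem_cof] at hu hv
    exact isConj_iff.1 (hu.symm.trans hv)
  -- lifts of the special configuration
  choose σ hσ using h.surj
  have hmapσ : (l.map σ).map π = l := by
    rw [List.map_map]
    conv_rhs => rw [← List.map_id l]
    exact List.map_congr_left fun x _ => hσ x
  have hlne : l ≠ [] := by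
    rintro rfl
    simp at hlodd
  obtain ⟨t, htl⟩ := List.exists_mem_of_ne_nil l hlne
  have hp : π (l.map σ).prod = 1 := by rw [map_list_prod, hmapσ, hlp]
  have key1 : ∀ x ∈ l, Commute (σ r) (σ x) := by
    by_contra hcon
    push Not at hcon
    obtain ⟨i, hil, hi⟩ := hcon
    -- then every commuting pair of lifts anticommutes
    have anti : ∀ j ∈ l, σ r * σ j * (σ r)⁻¹ = σ j * z := by
      intro j hj
      obtain ⟨g, hg1, hg2⟩ := h2 r hrT i (hlT i hil) r hrT j (hlT j hj) (hr i hil).1 (hr j hj).1
        (hr i hil).2 (hr j hj).2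
      obtain ⟨c, rfl⟩ := h.surj g
      rcases h.conj_of_commute (g := σ r) (a := σ j) (by rw [hσ, hσ]; exact (hr j hj).2) with h5 | h5
      · exfalso
        apply hi
        -- conjugate back
        have e1 : c * σ r * c⁻¹ = σ r ∨ c * σ r * c⁻¹ = σ r * z := by
          apply h.map_eq.1
          simp only [map_mul, map_inv, hσ, hg1]
        have e2 : c * σ i * c⁻¹ = σ j ∨ c * σ i * c⁻¹ = σ j * z := by
          apply h.map_eq.1
          simp only [map_mul, map_inv, hσ, hg2]
        have hbj : Commute (σ r) (σ j) := by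
          have := congrArg (· * σ r) h5
          simp only [inv_mul_cancel_right] at this
          exact this
        have hzc : ∀ x : C, Commute x z := h.comm
        have hcc : Commute (c * σ r * c⁻¹) (c * σ i * c⁻¹) := by
          rcases e1 with e1 | e1 <;> rcases e2 with e2 | e2 <;> rw [e1, e2]
          · exact hbj
          · exact hbj.mul_right (hzc _)
          · exact hbj.mul_left (hzc _).symm
          · exact (hbj.mul_left (hzc _).symm).mul_right (hzc _)
        exact (Commute.conj_iff c).1 hcc
      · exact h5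
    -- the product of the lifts is central
    have hcen : ∀ x : C, x * (l.map σ).prod * x⁻¹ = (l.map σ).prod := by
      intro x
      rcases (h.ker _).1 hp with h5 | h5
      · rw [h5]; group
      · rw [h5, h.comm x, mul_inv_cancel_right]
    have e := hcen (σ r)
    rw [conj_prod h.comm (l.map σ) (fun x hx => by
      obtain ⟨j, hj, rfl⟩ := List.mem_map.1 hx
      exact anti j hj), List.length_map, pow_odd_of_sq h.zz hlodd] at e
    exact h.zne (by simpa using e)
  -- hence all lifts of commuting pairs commute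
  have hcomm : ∀ x y, π x ∈ T → π y ∈ T → Commute (π x) (π y) → Commute x y := by
    intro x y hx hy hxy
    by_cases hne : π x = π y
    · rcases h.map_eq.1 hne with rfl | rfl
      · exact Commute.refl _
      · exact (Commute.refl y).mul_left (h.comm y).symm
    · obtain ⟨g, hg1, hg2⟩ := h2 (π x) hx (π y) hy r hrT t (hlT t htl) hne (hr t htl).1 hxy
        (hr t htl).2
      obtain ⟨c, rfl⟩ := h.surj g
      have e1 : c * x * c⁻¹ = σ r ∨ c * x * c⁻¹ = σ r * z := by
        apply h.map_eq.1
        simp only [map_mul, map_inv, hσ, hg1]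
      have e2 : c * y * c⁻¹ = σ t ∨ c * y * c⁻¹ = σ t * z := by
        apply h.map_eq.1
        simp only [map_mul, map_inv, hσ, hg2]
      have hzc : ∀ x : C, Commute x z := h.comm
      have hbj := key1 t htl
      have hcc : Commute (c * x * c⁻¹) (c * y * c⁻¹) := by
        rcases e1 with e1 | e1 <;> rcases e2 with e2 | e2 <;> rw [e1, e2]
        · exact hbj
        · exact hbj.mul_right (hzc _)
        · exact hbj.mul_left (hzc _).symm
        · exact (hbj.mul_left (hzc _).symm).mul_right (hzc _)
      exact (Commute.conj_iff c).1 hcc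
  -- the centraliser of a lift
  have hcent : ∀ x g, π x ∈ T → Commute (π g) (π x) → Commute g x := by
    intro x g hx hg
    have hmem : π g ∈ Subgroup.closure (T ∩ {u | Commute (π x) u}) := by
      apply h4 _ hx
      rw [Subgroup.mem_centralizer_singleton_iff]
      exact hg.eq
    -- all preimages of elements of the closure commute with `x`
    have : ∀ u ∈ Subgroup.closure (T ∩ {u | Commute (π x) u}), ∀ y, π y = u → Commute y x := by
      intro u hu
      refine Subgroup.closure_induction (p := fun u _ => ∀ y, π y = u → Commute y x) ?_ ?_ ?_ ?_ hu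
      · rintro v ⟨hv1, hv2⟩ y rfl
        exact hcomm y x hv1 hx (Commute.symm hv2)
      · intro y hy
        rcases (h.ker y).1 hy with rfl | rfl
        · exact Commute.one_left _
        · exact (h.comm x).symm
      · intro v w _ _ hv hw y hy
        obtain ⟨y1, hy1⟩ := h.surj v
        have h5 := hv y1 hy1
        have h6 : Commute (y1⁻¹ * y) x := hw _ (by rw [map_mul, map_inv, hy, hy1]; group)
        have h7 := h5.mul_left h6
        rwa [mul_inv_cancel_left] at h7
      · intro v _ hv y hy
        have := hv y⁻¹ (by rw [map_inv, hy, inv_inv])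
        simpa using this.inv_left
    exact this _ hmem g rfl
  -- lifts are involutions
  have hsq : ∀ x, π x ∈ T → x * x = 1 := by
    -- for the `a i`
    have hsqε : ∀ x, π x ∈ T → x * x = 1 ∨ x * x = z := fun x hx =>
      (h.ker _).1 (by rw [map_mul, sq1 _ hx])
    have hsame : ∀ x y, π x ∈ T → π y ∈ T → x * x = y * y := by
      intro x y hx hy
      obtain ⟨g, hg⟩ := transT _ hx _ hy
      obtain ⟨c, rfl⟩ := h.surj g
      have e1 : c * x * c⁻¹ = y ∨ c * x * c⁻¹ = y * z := by
        apply h.map_eq.1
        simp only [map_mul, map_inv, hg]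
      have e3 : c * (x * x) * c⁻¹ = (c * x * c⁻¹) * (c * x * c⁻¹) := by group
      have e4 : c * (x * x) * c⁻¹ = x * x := by
        rcases hsqε x hx with h5 | h5
        · rw [h5]; group
        · rw [h5, h.comm c, mul_inv_cancel_right]
      rcases e1 with e1 | e1
      · rw [← e4, e3, e1]
      · rw [← e4, e3, e1]
        calc y * z * (y * z) = y * (z * y) * z := by group
          _ = y * (y * z) * z := by rw [h.comm y]
          _ = y * y * (z * z) := by group
          _ = y * y := by rw [h.zz, mul_one]
    have hpp : (l.map σ).prod * (l.map σ).prod = 1 := by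
      rcases (h.ker _).1 hp with h5 | h5
      · rw [h5, one_mul]
      · rw [h5, h.zz]
    have hac : (l.map σ).Pairwise Commute := by
      rw [List.pairwise_map]
      refine List.Pairwise.imp_of_mem ?_ hlc
      intro x y hx hy hxy
      exact hcomm _ _ (by rw [hσ]; exact hlT x hx) (by rw [hσ]; exact hlT y hy)
        (by rw [hσ, hσ]; exact hxy)
    intro x hx
    rcases hsqε x hx with h5 | h5
    · exact h5
    · exfalso
      rw [sq_prod z (l.map σ) hac (fun y hy => by
        obtain ⟨j, hj, rfl⟩ := List.mem_map.1 hy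
        rw [← h5]; exact hsame _ _ (by rw [hσ]; exact hlT j hj) hx) h.comm, List.length_map,
        pow_odd_of_sq h.zz hlodd] at hpp
      exact h.zne hpp
  have hord2 : ∀ x, π x ∈ T → orderOf x = 2 := by
    intro x hx
    apply orderOf_eq_prime
    · rw [pow_two]; exact hsq x hx
    · intro h1
      apply ne1 _ hx
      rw [h1, map_one]
  -- the class
  obtain ⟨x0, hx0⟩ := h.surj t0
  have hx0T : π x0 ∈ T := by rw [hx0]; exact ht0
  set D : Set C := conjugatesOf x0 with hD
  have hDT : ∀ x ∈ D, π x ∈ T := by
    intro x hx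
    rw [hD, mem_cof, isConj_iff] at hx
    obtain ⟨c, rfl⟩ := hx
    rw [map_mul, map_mul, map_inv]
    exact conjT _ hx0T _
  have hDc : ∀ x ∈ D, ∀ c : C, c * x * c⁻¹ ∈ D := by
    intro x hx c
    rw [hD, mem_cof] at hx ⊢
    exact hx.trans (isConj_iff.2 ⟨c, rfl⟩)
  have hDz : ∀ x ∈ D, x * z ∉ D := by
    intro x hx hxz
    rw [hD, mem_cof] at hx hxz
    obtain ⟨c, hc⟩ := isConj_iff.1 (hx.symm.trans hxz)
    have hcx : Commute c x := by
      apply hcent x c (hDT x (by rw [hD, mem_cof]; exact hx))
      have := congrArg π hc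
      rw [map_mul, map_mul, map_inv, map_mul, h.mapz, mul_one] at this
      have h6 := congrArg (· * π c) this
      simp only [inv_mul_cancel_right] at h6
      exact h6
    rw [hcx.eq, mul_inv_cancel_right] at hc
    exact h.ne_mul x hc
  have hinj : Set.InjOn π D := by
    intro x hx y hy hxy
    rcases h.map_eq.1 hxy with h5 | h5
    · exact h5
    · exfalso
      apply hDz y hy
      rw [← h5]; exact hx
  have hsurjD : Set.SurjOn π D T := by
    intro u hu
    obtain ⟨g, hg⟩ := transT _ hx0T _ hu
    obtain ⟨c, rfl⟩ := h.surj g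
    exact ⟨c * x0 * c⁻¹, hDc x0 (mem_cof.2 (IsConj.refl x0)) c, by simpa using hg⟩
  have hcover : ∀ c, π c ∈ T → c ∈ D ∨ c * z ∈ D := by
    intro c hc
    obtain ⟨x, hx, hxc⟩ := hsurjD hc
    rcases h.map_eq.1 hxc with h5 | h5
    · left; rwa [← h5]
    · right; rwa [← h5]
  refine ⟨D, ⟨⟨fun x hx => hord2 x (hDT x hx), ?_⟩, ⟨x0, mem_cof.2 (IsConj.refl x0),
    hD⟩, ?_⟩, ⟨fun x hx => hDT x hx, hinj, hsurjD⟩, hcover, hDz, hcomm, hord2, hcent⟩
  · -- products
    intro x hx y hy
    rcases hprod _ (hDT x hx) _ (hDT y hy) with h5 | h5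
    · left
      have hc : Commute (π x) (π y) := by
        have hxx := sq1 _ (hDT x hx)
        have hyy := sq1 _ (hDT y hy)
        have e : π x * π y * (π x * π y) = 1 := by rw [← pow_two]; exact h5
        show π x * π y = π y * π x
        calc π x * π y = π x * π y * 1 := by rw [mul_one]
          _ = π x * π y * ((π x * π x) ) := by rw [hxx]
          _ = π x * π y * (π x * (π y * π y) * π x) := by rw [hyy, mul_one]
          _ = (π x * π y * (π x * π y)) * (π y * π x) := by group
          _ = π y * π x := by rw [e, one_mul]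
      have := hcomm x y (hDT x hx) (hDT y hy) hc
      rw [this.mul_pow, pow_two, pow_two, hsq x (hDT x hx), hsq y (hDT y hy), one_mul]
    · right
      have hxx := hsq _ (hDT x hx)
      have hyy := hsq _ (hDT y hy)
      have hxi : x⁻¹ = x := inv_eq_of_mul_eq_one_left hxx
      have hyi : y⁻¹ = y := inv_eq_of_mul_eq_one_left hyy
      have e1 : x * y * x ∈ D := by
        have := hDc y hy x
        rwa [hxi] at this
      have e2 : y * x * y ∈ D := by
        have := hDc x hx y
        rwa [hyi] at this
      have e3 : π (x * y * x) = π (y * x * y) := by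
        have hxx' := sq1 _ (hDT x hx)
        have hyy' := sq1 _ (hDT y hy)
        have e : π x * π y * π x * (π y * π x * π y) = 1 := by
          rw [← h5, pow_succ, pow_two]; group
        simp only [map_mul]
        have e6 : (π y * π x * π y) * (π y * π x * π y) = 1 := by
          calc (π y * π x * π y) * (π y * π x * π y) = π y * π x * (π y * π y) * π x * π y := by
                group
            _ = π y * (π x * π x) * π y := by rw [hyy']; group
            _ = 1 := by rw [hxx', mul_one, hyy']
        exact mul_right_cancel (b := π y * π x * π y) (by rw [e, e6])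
      have e4 := hinj e1 e2 e3
      calc (x * y) ^ 3 = (x * y * x) * (y * x * y) := by rw [pow_succ, pow_two]; group
        _ = (y * x * y) * (y * x * y) := by rw [e4]
        _ = y * x * (y * y) * x * y := by group
        _ = y * (x * x) * y := by rw [hyy]; group
        _ = 1 := by rw [hxx, mul_one, hyy]
  · -- generation
    have hnorm : (Subgroup.closure D).Normal := by
      refine ⟨fun x hx g => ?_⟩
      refine Subgroup.closure_induction (p := fun x _ => g * x * g⁻¹ ∈ Subgroup.closure D)
        ?_ ?_ ?_ ?_ hx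
      · intro y hy; exact Subgroup.subset_closure (hDc y hy g)
      · simp
      · intro u v _ _ hu hv
        have : g * (u * v) * g⁻¹ = (g * u * g⁻¹) * (g * v * g⁻¹) := by group
        rw [this]; exact mul_mem hu hv
      · intro u _ hu
        have : g * u⁻¹ * g⁻¹ = (g * u * g⁻¹)⁻¹ := by group
        rw [this]; exact inv_mem hu
    -- every element is in closure D up to z
    have hall : ∀ c : C, c ∈ Subgroup.closure D ∨ c * z ∈ Subgroup.closure D := by
      have hT' : ∀ u ∈ Subgroup.closure T, ∃ c ∈ Subgroup.closure D, π c = u := by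
        intro u hu
        refine Subgroup.closure_induction (p := fun u _ => ∃ c ∈ Subgroup.closure D, π c = u)
          ?_ ?_ ?_ ?_ hu
        · intro v hv
          obtain ⟨x, hx, hxv⟩ := hsurjD hv
          exact ⟨x, Subgroup.subset_closure hx, hxv⟩
        · exact ⟨1, one_mem _, map_one _⟩
        · rintro v w _ _ ⟨c, hc, rfl⟩ ⟨c', hc', rfl⟩
          exact ⟨c * c', mul_mem hc hc', map_mul _ _ _⟩
        · rintro v _ ⟨c, hc, rfl⟩
          exact ⟨c⁻¹, inv_mem hc, map_inv _ _⟩
      intro c
      obtain ⟨c', hc', hcc⟩ := hT' (π c) (by rw [hgen]; trivial)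
      rcases h.map_eq.1 hcc with h5 | h5
      · left; rwa [← h5]
      · right; rwa [← h5]
    rw [eq_top_iff, ← hperf, commutator_def, Subgroup.commutator_le]
    intro x _ y _
    -- the commutator of x, y is unchanged by multiplication with z
    have hz : ∀ u : C, z * u = u * z := fun u => (h.comm u).symm
    have hzi : z⁻¹ = z := inv_eq_of_mul_eq_one_left h.zz
    have r1 : ∀ u v : C, ⁅u * z, v⁆ = ⁅u, v⁆ := by
      intro u v
      rw [commutatorElement_def, commutatorElement_def, mul_inv_rev, hzi]
      calc u * z * v * (z * u⁻¹) * v⁻¹ = u * (z * v) * z * u⁻¹ * v⁻¹ := by group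
        _ = u * (v * z) * z * u⁻¹ * v⁻¹ := by rw [hz]
        _ = u * v * (z * z) * u⁻¹ * v⁻¹ := by group
        _ = u * v * u⁻¹ * v⁻¹ := by rw [h.zz, mul_one]
    have r2 : ∀ u v : C, ⁅u, v * z⁆ = ⁅u, v⁆ := by
      intro u v
      rw [← commutatorElement_inv, r1, commutatorElement_inv]
    have r3 : ∀ u ∈ Subgroup.closure D, ∀ v ∈ Subgroup.closure D, ⁅u, v⁆ ∈ Subgroup.closure D := by
      intro u hu v hv
      rw [commutatorElement_def]
      exact mul_mem (mul_mem (mul_mem hu hv) (inv_mem hu)) (inv_mem hv)
    rcases hall x with hx | hx <;> rcases hall y with hy | hy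
    · exact r3 _ hx _ hy
    · rw [← r2]; exact r3 _ hx _ hy
    · rw [← r1]; exact r3 _ hx _ hy
    · rw [← r1, ← r2]; exact r3 _ hx _ hy

/-- The case of a line of five commuting transvections. -/
theorem lifts {π : C →* U} {z : C} (h : Ext π z) (hperf : commutator C = ⊤) {T : Set U}
    (hT : IsThreeTranspositionClass T)
    (h2 : ∀ a ∈ T, ∀ b ∈ T, ∀ a' ∈ T, ∀ b' ∈ T, a ≠ b → a' ≠ b' → Commute a b → Commute a' b' →
      ∃ g : U, g * a * g⁻¹ = a' ∧ g * b * g⁻¹ = b')
    (h3 : ∃ t : Fin 5 → U, (∀ i, t i ∈ T) ∧ Function.Injective t ∧ (∀ i j, Commute (t i) (t j)) ∧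
      t 0 * t 1 * t 2 * t 3 * t 4 = 1 ∧ ∃ r ∈ T, ∀ i, r ≠ t i ∧ Commute r (t i))
    (h4 : ∀ t ∈ T, Subgroup.centralizer {t} ≤ Subgroup.closure (T ∩ {u | Commute t u})) :
    ∃ D : Set C, IsThreeTranspositionClass D ∧ Set.BijOn π D T ∧
      (∀ c, π c ∈ T → c ∈ D ∨ c * z ∈ D) ∧ (∀ c ∈ D, c * z ∉ D) ∧
      (∀ a b, π a ∈ T → π b ∈ T → Commute (π a) (π b) → Commute a b) ∧
      (∀ a, π a ∈ T → orderOf a = 2) ∧
      (∀ a g, π a ∈ T → Commute (π g) (π a) → Commute g a) := by
  obtain ⟨t, htT, -, htc, htp, r, hrT, hr⟩ := h3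
  refine liftsOdd h hperf hT h2 ⟨List.ofFn t, by rw [List.length_ofFn]; decide, ?_, ?_, ?_, r, hrT,
    ?_⟩ h4
  · intro x hx
    obtain ⟨i, rfl⟩ := (List.mem_ofFn' _ _).1 hx
    exact htT i
  · rw [List.pairwise_ofFn]
    intro i j _
    exact htc i j
  · simp only [List.ofFn_succ, List.prod_cons, List.ofFn_zero, List.prod_nil, mul_one]
    rw [← htp]
    simp only [← mul_assoc]
    rfl
  · intro x hx
    obtain ⟨i, rfl⟩ := (List.mem_ofFn' _ _).1 hx
    exact hr i

end Cfsg.Agent.R01.Lifts
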