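import Mathlib
import Cfsg.Agent.Lib.CoprimeHyperplane
set_option linter.all false

/-!
# Closing argument for the Fischer groups Fi22, Fi23

`D` is a conjugacy class of involutions of a finite group `G`, `A` an elementary abelian 2-subgroup which is
weakly closed in 2-subgroups containing it.  Under local hypotheses the commuting graph on `D` is connected.
-/

set_option autoImplicit false

namespace Cfsg.Agent.R01.Closing

universe u

variable {G : Type u} [Group G]

/-- Adjacency in the commuting graph on `D`. -/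
def Adj (D : Set G) (a b : G) : Prop := a ∈ D ∧ b ∈ D ∧ a * b = b * a

/-- Connectedness in the commuting graph on `D`. -/
def Conn (D : Set G) (a b : G) : Prop := Relation.ReflTransGen (Adj D) a b

theorem Adj.symm {D : Set G} {a b : G} (h : Adj D a b) : Adj D b a := ⟨h.2.1, h.1, h.2.2.symm⟩

theorem Conn.refl (D : Set G) (a : G) : Conn D a a := Relation.ReflTransGen.refl

theorem Conn.symm {D : Set G} {a b : G} (h : Conn D a b) : Conn D b a := by
  induction h with
  | refl => exact Relation.ReflTransGen.refl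
  | tail _ hbc ih => exact Relation.ReflTransGen.head hbc.symm ih

theorem Conn.trans {D : Set G} {a b c : G} (h : Conn D a b) (h' : Conn D b c) : Conn D a c :=
  Relation.ReflTransGen.trans h h'

theorem Conn.of_comm {D : Set G} {a b : G} (ha : a ∈ D) (hb : b ∈ D) (h : a * b = b * a) :
    Conn D a b := Relation.ReflTransGen.single ⟨ha, hb, h⟩

theorem Conn.conj {D : Set G} (hD : ∀ g : G, ∀ a ∈ D, g * a * g⁻¹ ∈ D) {a b : G} (h : Conn D a b)
    (g : G) : Conn D (g * a * g⁻¹) (g * b * g⁻¹) := by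
  induction h with
  | refl => exact Conn.refl D _
  | tail _ hbc ih =>
    refine Conn.trans ih (Relation.ReflTransGen.single ⟨hD g _ hbc.1, hD g _ hbc.2.1, ?_⟩)
    have := hbc.2.2
    simp only [mul_assoc, inv_mul_cancel_left]
    rw [← mul_assoc _ _ g⁻¹, this, mul_assoc]

theorem Conn.mem {D : Set G} {a b : G} (h : Conn D a b) (ha : a ∈ D) : b ∈ D := by
  induction h with
  | refl => exact ha
  | tail _ hbc _ => exact hbc.2.1

/-- The stabiliser of the component of `a`. -/
def M (D : Set G) (hD : ∀ g : G, ∀ a ∈ D, g * a * g⁻¹ ∈ D) (a : G) : Subgroup G where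
  carrier := {g | Conn D a (g * a * g⁻¹)}
  mul_mem' := by
    intro x y hx hy
    have h1 := Conn.conj hD hy x
    have h2 : Conn D a (x * (y * a * y⁻¹) * x⁻¹) := Conn.trans hx h1
    simpa [mul_assoc] using h2
  one_mem' := by simpa using Conn.refl D a
  inv_mem' := by
    intro x hx
    have h1 := Conn.conj hD hx x⁻¹
    have h2 : Conn D (x⁻¹ * a * x⁻¹⁻¹) a := by
      have : x⁻¹ * (x * a * x⁻¹) * x⁻¹⁻¹ = a := by group
      rw [this] at h1
      exact h1
    exact h2.symm

theorem mem_M {D : Set G} (hD : ∀ g : G, ∀ a ∈ D, g * a * g⁻¹ ∈ D) {a g : G} :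
    g ∈ M D hD a ↔ Conn D a (g * a * g⁻¹) := Iff.rfl

theorem mem_M_of_comm {D : Set G} (hD : ∀ g : G, ∀ a ∈ D, g * a * g⁻¹ ∈ D) {a g : G}
    (h : g * a = a * g) : g ∈ M D hD a := by
  rw [mem_M, h, mul_inv_cancel_right]
  exact Conn.refl D a

theorem M_eq_of_conn {D : Set G} (hD : ∀ g : G, ∀ a ∈ D, g * a * g⁻¹ ∈ D) {a b : G}
    (h : Conn D a b) : M D hD a = M D hD b := by
  ext g
  rw [mem_M, mem_M]
  constructor
  · intro h1
    exact h.symm.trans (h1.trans (h.conj hD g))
  · intro h1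
    exact h.trans (h1.trans (h.symm.conj hD g))

theorem mem_M_conj {D : Set G} (hD : ∀ g : G, ∀ a ∈ D, g * a * g⁻¹ ∈ D) {a g : G} (k : G) :
    g ∈ M D hD (k * a * k⁻¹) ↔ k⁻¹ * g * k ∈ M D hD a := by
  rw [mem_M, mem_M]
  constructor
  · intro h
    have h1 := h.conj hD k⁻¹
    have e1 : k⁻¹ * (k * a * k⁻¹) * k⁻¹⁻¹ = a := by group
    have e2 : k⁻¹ * (g * (k * a * k⁻¹) * g⁻¹) * k⁻¹⁻¹ = k⁻¹ * g * k * a * (k⁻¹ * g * k)⁻¹ := by group
    rw [e1, e2] at h1
    exact h1
  · intro h
    have h1 := h.conj hD k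
    have e2 : k * (k⁻¹ * g * k * a * (k⁻¹ * g * k)⁻¹) * k⁻¹ = g * (k * a * k⁻¹) * g⁻¹ := by group
    rw [e2] at h1
    exact h1

/-- If `g` sends one member of the component of `a` into the component of `a`, then `g` is in `M`. -/
theorem mem_M_of_conj_eq {D : Set G} (hD : ∀ g : G, ∀ a ∈ D, g * a * g⁻¹ ∈ D) {a x y g : G}
    (hx : Conn D a x) (hy : Conn D a y) (h : g * x * g⁻¹ = y) : g ∈ M D hD a := by
  rw [M_eq_of_conn hD hx, mem_M, h]
  exact hx.symm.trans hy

/-- The hypotheses of the closing argument. -/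
structure Hyp (D : Set G) (A : Subgroup G) : Prop where
  sq : ∀ a ∈ D, a * a = 1
  ne : ∀ a ∈ D, a ≠ 1
  conj : ∀ g : G, ∀ a ∈ D, g * a * g⁻¹ ∈ D
  trans : ∀ a ∈ D, ∀ b ∈ D, ∃ g : G, g * a * g⁻¹ = b
  /-- products of two commuting members of `D` are not in `D` -/
  notMem : ∀ a ∈ D, ∀ b ∈ D, a ≠ b → a * b = b * a → a * b ∉ D
  /-- two connected members of `D` commute or have product of order 3 -/
  three : ∀ a ∈ D, ∀ b ∈ D, Conn D a b → a * b = b * a ∨ (a * b) ^ 3 = 1
  comm : ∀ a ∈ A, ∀ b ∈ A, a * b = b * a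
  sqA : ∀ a ∈ A, a * a = 1
  /-- `A` is weakly closed in every 2-subgroup containing it -/
  weak : ∀ S : Subgroup G, IsPGroup 2 S → A ≤ S → ∀ g : G, (∀ a ∈ A, g * a * g⁻¹ ∈ S) →
    ∀ a ∈ A, g * a * g⁻¹ ∈ A
  /-- `D ∩ N_G(A) ⊆ A` -/
  normD : ∀ x ∈ D, (∀ a ∈ A, x * a * x⁻¹ ∈ A) → x ∈ A
  /-- every subgroup of index 2 in `A` meets `D` -/
  hyper : ∀ B : Subgroup G, B ≤ A → B.relIndex A = 2 → ∃ x ∈ B, x ∈ D
  /-- a product of two members of `D ∩ A` determines the pair -/
  pair : ∀ x ∈ D, x ∈ A → ∀ y ∈ D, y ∈ A → x ≠ y → ∀ x' ∈ D, x' ∈ A → ∀ y' ∈ D, y' ∈ A →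
    x * y = x' * y' → x' = x ∨ x' = y
  /-- an involution normalising `A` centralises a member of `D ∩ A` -/
  fix : ∀ t : G, t * t = 1 → (∀ a ∈ A, t * a * t⁻¹ ∈ A) → ∃ x ∈ D, x ∈ A ∧ t * x = x * t
  /-- an involution centralising `x ∈ D ∩ A` is conjugate in `C_G(x)` to an element of `A` -/
  into : ∀ x ∈ D, x ∈ A → ∀ t : G, t * t = 1 → t * x = x * t →
    ∃ c : G, c * x = x * c ∧ c * t * c⁻¹ ∈ A
  /-- every element of `A` is a product of at most three members of `D ∩ A` -/
  gen3 : ∀ t ∈ A, t ≠ 1 → ∃ x ∈ D, x ∈ A ∧ ∃ y ∈ D, y ∈ A ∧ ∃ z ∈ D, z ∈ A ∧ x ≠ y ∧ x ≠ z ∧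
    y ≠ z ∧ (t = x ∨ t = x * y ∨ t = x * y * z)
  /-- three members of `D ∩ A` commute with two non-commuting members of `D` -/
  noncomm : ∀ x ∈ D, x ∈ A → ∀ y ∈ D, y ∈ A → ∀ z ∈ D, z ∈ A → ∃ e ∈ D, ∃ f ∈ D, e * f ≠ f * e ∧
    e * x = x * e ∧ e * y = y * e ∧ e * z = z * e ∧ f * x = x * f ∧ f * y = y * f ∧ f * z = z * f

section basic

theorem mem_cent {b c : G} : c ∈ Subgroup.centralizer ({b} : Set G) ↔ c * b = b * c :=
  Subgroup.mem_centralizer_singleton_iff

/-- braid form of `(a * e) ^ 3 = 1` for involutions -/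
theorem braid {a e : G} (ha : a * a = 1) (he : e * e = 1) (h : (a * e) ^ 3 = 1) :
    e * a * e = a * e * a := by
  have h1 : a * e * a * e * a * e = 1 := by
    have : (a * e) ^ 3 = a * e * a * e * a * e := by
      simp only [pow_succ, pow_zero, one_mul, mul_assoc]
    rw [← this, h]
  have hai : a⁻¹ = a := inv_eq_of_mul_eq_one_left ha
  have hei : e⁻¹ = e := inv_eq_of_mul_eq_one_left he
  have h2 : (a * e * a) * (e * a * e) = 1 := by rw [← h1]; group
  have h3 : e * a * e = (a * e * a)⁻¹ := (inv_eq_of_mul_eq_one_right h2).symm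
  rw [h3]
  simp only [mul_inv_rev, hai, hei, mul_assoc]

/-- `e` commutes with `x * y` but `x ≠ y`: then `e` commutes with `x` (3-transpositions). -/
theorem comm_of_comm_two {x y e : G} (hx : x * x = 1) (hy : y * y = 1) (he : e * e = 1)
    (hxy : x * y = y * x) (hne : x ≠ y) (hex : e * x = x * e ∨ (x * e) ^ 3 = 1)
    (hey : e * y = y * e ∨ (y * e) ^ 3 = 1) (h : e * (x * y) = (x * y) * e) :
    e * x = x * e := by
  rcases hex with hex | hex
  · exact hex
  rcases hey with hey | hey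
  · -- e commutes with y and x*y
    have h1 : e * (x * y) * y = (x * y) * e * y := by rw [h]
    have h2 : e * x * (y * y) = x * (y * (e * y)) := by
      calc e * x * (y * y) = e * (x * y) * y := by group
        _ = (x * y) * e * y := h1
        _ = x * (y * (e * y)) := by group
    rw [hy, hey, ← mul_assoc y y e, hy, mul_one, one_mul] at h2
    exact h2
  · exfalso
    have b1 := braid hx he hex
    have b2 := braid hy he hey
    have h1 : e * (x * y) * e = x * y := by rw [h, mul_assoc, he, mul_one]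
    have h2 : e * (x * y) * e = (e * x * e) * (e * y * e) := by
      calc e * (x * y) * e = e * x * 1 * y * e := by group
        _ = e * x * (e * e) * y * e := by rw [he]
        _ = (e * x * e) * (e * y * e) := by group
    rw [h1, b1, b2] at h2
    -- x * y = x * e * x * (y * e * y)
    have h3 : e * (x * y) * e = 1 := by
      have : x * y = x * (e * (x * y) * e) * y := by
        calc x * y = x * e * x * (y * e * y) := h2
          _ = x * (e * (x * y) * e) * y := by group
      have h4 : x * (1 : G) * y = x * (e * (x * y) * e) * y := by rw [← this]; group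
      have h5 := mul_left_cancel (mul_right_cancel h4)
      exact h5.symm
    rw [h1] at h3
    apply hne
    have : x = y⁻¹ := eq_inv_of_mul_eq_one_left h3
    rw [this]
    exact inv_eq_of_mul_eq_one_left hy

/-- The case of three commuting factors. -/
theorem not_three {x y z e : G} (hx : x * x = 1) (hy : y * y = 1) (hz : z * z = 1) (he : e * e = 1)
    (hxy : x * y = y * x) (hyz : y * z = z * y) (hxz : x * z = z * x)
    (hex : (x * e) ^ 3 = 1) (hey : (y * e) ^ 3 = 1) (hez : (z * e) ^ 3 = 1)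
    (h : e * (x * y * z) = (x * y * z) * e) : e = y := by
  have bx := braid hx he hex
  have bY := braid hy he hey
  have bz := braid hz he hez
  have hxi : x⁻¹ = x := inv_eq_of_mul_eq_one_left hx
  have hyi : y⁻¹ = y := inv_eq_of_mul_eq_one_left hy
  have hzi : z⁻¹ = z := inv_eq_of_mul_eq_one_left hz
  have hei : e⁻¹ = e := inv_eq_of_mul_eq_one_left he
  have h1 : e * (x * y * z) * e = x * y * z := by rw [h, mul_assoc, he, mul_one]
  -- first relation
  have r1 : e * (x * y) * e * (y * z) * e = y := by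
    have h2 : e * (x * y * z) * e = (e * x * e) * (e * y * e) * (e * z * e) := by
      calc e * (x * y * z) * e = e * x * 1 * y * 1 * z * e := by group
        _ = e * x * (e * e) * y * (e * e) * z * e := by rw [he]
        _ = (e * x * e) * (e * y * e) * (e * z * e) := by group
    rw [h1, bx, bY, bz] at h2
    have h3 : x * y * z = x * (e * (x * y) * e * (y * z) * e) * z := by rw [h2]; group
    exact (mul_left_cancel (mul_right_cancel h3)).symm
  have r2 : e * (x * z) * e * (y * z) * e = z := by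
    have h1' : e * (x * z * y) * e = x * z * y := by
      have : x * z * y = x * y * z := by rw [mul_assoc, ← hyz, ← mul_assoc]
      rw [this]; exact h1
    have h2 : e * (x * z * y) * e = (e * x * e) * (e * z * e) * (e * y * e) := by
      calc e * (x * z * y) * e = e * x * 1 * z * 1 * y * e := by group
        _ = e * x * (e * e) * z * (e * e) * y * e := by rw [he]
        _ = (e * x * e) * (e * z * e) * (e * y * e) := by group
    rw [h1', bx, bY, bz] at h2
    have h3 : x * z * y = x * (e * (x * z) * e * (z * y) * e) * y := by rw [h2]; group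
    rw [hyz]
    exact (mul_left_cancel (mul_right_cancel h3)).symm
  obtain ⟨q, hq⟩ : ∃ q, q = y * z := ⟨_, rfl⟩
  have hqq : q * q = 1 := by
    rw [hq]
    calc y * z * (y * z) = y * (z * y) * z := by group
      _ = y * (y * z) * z := by rw [hyz]
      _ = (y * y) * (z * z) := by group
      _ = 1 := by rw [hy, hz, one_mul]
  rw [← hq] at r1 r2
  have s1 : e * (x * y) * e = y * e * q := by
    have : e * (x * y) * e = (e * (x * y) * e * q * e) * e * q := by
      calc e * (x * y) * e = e * (x * y) * e * 1 := by rw [mul_one]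
        _ = e * (x * y) * e * (q * q) := by rw [hqq]
        _ = e * (x * y) * e * q * 1 * q := by group
        _ = e * (x * y) * e * q * (e * e) * q := by rw [he]
        _ = (e * (x * y) * e * q * e) * e * q := by group
    rw [this, r1]
  have s2 : e * (x * z) * e = z * e * q := by
    have : e * (x * z) * e = (e * (x * z) * e * q * e) * e * q := by
      calc e * (x * z) * e = e * (x * z) * e * 1 := by rw [mul_one]
        _ = e * (x * z) * e * (q * q) := by rw [hqq]
        _ = e * (x * z) * e * q * 1 * q := by group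
        _ = e * (x * z) * e * q * (e * e) * q := by rw [he]
        _ = (e * (x * z) * e * q * e) * e * q := by group
    rw [this, r2]
  have s3 : (e * (x * y) * e) * (e * (x * z) * e) = e * q * e := by
    calc (e * (x * y) * e) * (e * (x * z) * e) = e * (x * y) * (e * e) * (x * z) * e := by group
      _ = e * (x * y) * 1 * (x * z) * e := by rw [he]
      _ = e * ((x * y) * x) * z * e := by group
      _ = e * ((y * x) * x) * z * e := by rw [hxy]
      _ = e * y * (x * x) * z * e := by group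
      _ = e * y * 1 * z * e := by rw [hx]
      _ = e * q * e := by rw [hq]; group
  rw [s1, s2] at s3
  have s4 : q * z = y := by
    rw [hq, mul_assoc, hz, mul_one]
  have s5 : y * e * q * (z * e * q) = (y * e * y * e) * q := by
    calc y * e * q * (z * e * q) = y * e * (q * z) * e * q := by group
      _ = (y * e * y * e) * q := by rw [s4]
  have s6 : y * e * y * e = e * y := by
    have : (y * e) ^ 3 = (y * e * y * e) * (y * e) := by
      simp only [pow_succ, pow_zero, one_mul, mul_assoc]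
    rw [this] at hey
    have h7 := eq_inv_of_mul_eq_one_left hey
    rw [h7, mul_inv_rev, hei, hyi]
  rw [s5, s6] at s3
  -- e * y * q = e * q * e
  have s7 : y * q = q * e := by
    have : e * (y * q) = e * (q * e) := by rw [← mul_assoc, s3, mul_assoc]
    exact mul_left_cancel this
  have s8 : y * q = q * y := by
    rw [hq]
    calc y * (y * z) = y * (z * y) := by rw [← hyz]
      _ = y * z * y := by group
  rw [s8] at s7
  exact (mul_left_cancel s7).symm

end basic

section dihedral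

/-- An even order product of two involutions gives a central involution `z`, and `a * z` is conjugate to
`a` or `f`. -/
theorem exists_of_even {a f : G} (ha : a * a = 1) (hf : f * f = 1) (h : Even (orderOf (a * f)))
    (h0 : orderOf (a * f) ≠ 0) :
    ∃ z : G, z ≠ 1 ∧ z * z = 1 ∧ z * a = a * z ∧ z * f = f * z ∧
      ((∃ g, a * z = g * a * g⁻¹) ∨ (∃ g, a * z = g * f * g⁻¹)) := by
  obtain ⟨k, hk⟩ := h
  have hai : a⁻¹ = a := inv_eq_of_mul_eq_one_left ha
  have hfi : f⁻¹ = f := inv_eq_of_mul_eq_one_left hf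
  have hinv : (a * f)⁻¹ = f * a := by rw [mul_inv_rev, hai, hfi]
  set r := a * f with hr
  have hkpos : 0 < k := by
    rcases Nat.eq_zero_or_pos k with h | h
    · subst h; exact absurd hk h0
    · exact h
  have hz1 : r ^ k ≠ 1 := by
    intro h1
    have := orderOf_dvd_of_pow_eq_one h1
    have := Nat.le_of_dvd hkpos this
    omega
  have hzz : r ^ k * r ^ k = 1 := by
    rw [← pow_add, ← hk, pow_orderOf_eq_one]
  have hzi : (r ^ k)⁻¹ = r ^ k := inv_eq_of_mul_eq_one_left hzz
  have hara : a * r * a⁻¹ = r⁻¹ := by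
    rw [hinv, hr, hai]
    calc a * (a * f) * a = (a * a) * f * a := by group
      _ = f * a := by rw [ha, one_mul]
  have hfrf : f * r * f⁻¹ = r⁻¹ := by
    rw [hinv, hr, hfi]
    calc f * (a * f) * f = f * a * (f * f) := by group
      _ = f * a := by rw [hf, mul_one]
  have c1 : r ^ k * a = a * r ^ k := by
    have h1 : a * r ^ k * a⁻¹ = r ^ k := by
      rw [← conj_pow, hara, inv_pow, hzi]
    have h2 : a * r ^ k = r ^ k * a := mul_inv_eq_iff_eq_mul.mp h1
    exact h2.symm
  have c2 : r ^ k * f = f * r ^ k := by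
    have h1 : f * r ^ k * f⁻¹ = r ^ k := by
      rw [← conj_pow, hfrf, inv_pow, hzi]
    have h2 : f * r ^ k = r ^ k * f := mul_inv_eq_iff_eq_mul.mp h1
    exact h2.symm
  refine ⟨r ^ k, hz1, hzz, c1, c2, ?_⟩
  have key : ∀ j : ℕ, a * r ^ j = (r ^ j)⁻¹ * a := by
    intro j
    have h1 : a * r ^ j * a⁻¹ = (r ^ j)⁻¹ := by rw [← conj_pow, hara, inv_pow]
    exact mul_inv_eq_iff_eq_mul.mp h1
  rcases Nat.even_or_odd' k with ⟨j, hj | hj⟩
  · left
    refine ⟨(r ^ j)⁻¹, ?_⟩
    rw [hj, two_mul, pow_add, ← mul_assoc, key j, inv_inv]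
  · right
    refine ⟨(r ^ j)⁻¹, ?_⟩
    have haf : a * r = f := by
      rw [hr, ← mul_assoc, ha, one_mul]
    rw [hj, show 2 * j + 1 = j + 1 + j by ring, pow_add, pow_add, pow_one, inv_inv, ← mul_assoc,
      ← mul_assoc, key j, mul_assoc (r ^ j)⁻¹ a r, haf]

/-- An odd order product of two involutions: the two involutions are conjugate by an element which
commutes with everything that commutes with both. -/
theorem exists_of_odd {a f : G} (ha : a * a = 1) (hf : f * f = 1) (h : Odd (orderOf (a * f))) :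
    ∃ g : G, g * a * g⁻¹ = f ∧ ∀ t : G, t * a = a * t → t * f = f * t → t * g = g * t := by
  obtain ⟨k, hk⟩ := h
  have hai : a⁻¹ = a := inv_eq_of_mul_eq_one_left ha
  have hfi : f⁻¹ = f := inv_eq_of_mul_eq_one_left hf
  have hinv : (a * f)⁻¹ = f * a := by rw [mul_inv_rev, hai, hfi]
  set r := a * f with hr
  have hara : a * r * a⁻¹ = r⁻¹ := by
    rw [hinv, hr, hai]
    calc a * (a * f) * a = (a * a) * f * a := by group
      _ = f * a := by rw [ha, one_mul]
  have key : ∀ j : ℕ, a * r ^ j = (r ^ j)⁻¹ * a := by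
    intro j
    have h1 : a * r ^ j * a⁻¹ = (r ^ j)⁻¹ := by rw [← conj_pow, hara, inv_pow]
    exact mul_inv_eq_iff_eq_mul.mp h1
  -- f = a * r = a * r^(2k+2) ... use r^(2k+1) = 1, r = r^(2(k+1))
  have hr1 : r ^ (2 * k + 1) = 1 := by rw [← hk, pow_orderOf_eq_one]
  refine ⟨(r ^ (k + 1))⁻¹, ?_, ?_⟩
  · rw [inv_inv]
    have h1 : (r ^ (k + 1))⁻¹ * a = a * r ^ (k + 1) := (key (k + 1)).symm
    rw [h1, mul_assoc, ← pow_add, show k + 1 + (k + 1) = (2 * k + 1) + 1 by ring, pow_succ, hr1,
      one_mul, hr, ← mul_assoc, ha, one_mul]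
  · intro t hta htf
    have htr : t * r = r * t := by
      rw [hr, ← mul_assoc, hta, mul_assoc, htf, mul_assoc]
    have : Commute t (r ^ (k + 1))⁻¹ := (Commute.pow_right htr (k + 1)).inv_right
    exact this

end dihedral

section zstar

/-- Glauberman's Z*-theorem in the universe `v`. -/
def ZStar.{v} : Prop := ∀ (K : Type v) [Group K] [Finite K] (P : Sylow 2 K) (u : K), orderOf u = 2 →
  u ∈ P → (∀ g : K, g * u * g⁻¹ ∈ P → g * u * g⁻¹ = u) →
  ∃ N : Subgroup K, N.Normal ∧ Odd (Nat.card N) ∧ ∀ g : K, (u * g * u⁻¹ * g⁻¹) ∈ N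

theorem pow_card_of_mem {G : Type*} [Group G] (S : Subgroup G) {x : G} (hx : x ∈ S) :
    x ^ Nat.card S = 1 := by
  have h := pow_card_eq_one' (x := (⟨x, hx⟩ : S))
  exact congrArg Subtype.val h

/-- A normal subgroup `N` containing a central subgroup `Z = {1, z}` of order 2 with `N/Z` of odd order is
`Z × O` with `O` of odd order. -/
theorem exists_odd_factor {K : Type u} [Group K] [Finite K] (z : K) (hz : orderOf z = 2)
    (hzc : ∀ g : K, g * z = z * g) [hZn : (Subgroup.zpowers z).Normal]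
    (N : Subgroup (K ⧸ Subgroup.zpowers z)) [hN : N.Normal] (hodd : Odd (Nat.card N)) :
    ∃ O : Subgroup K, O.Normal ∧ (∀ n : K, n ∈ O → n ^ Nat.card N = 1) ∧ Nat.card O = Nat.card N ∧
      ∀ n : K, (n : K ⧸ Subgroup.zpowers z) ∈ N → n ∈ O ∨ z * n ∈ O := by
  classical
  set Z : Subgroup K := Subgroup.zpowers z with hZ
  set L : Subgroup K := N.comap (QuotientGroup.mk' Z) with hL
  have hZL : Z ≤ L := by
    intro y hy
    rw [hL, Subgroup.mem_comap]
    have : (QuotientGroup.mk' Z) y = 1 := by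
      rw [QuotientGroup.mk'_apply, QuotientGroup.eq_one_iff]; exact hy
    rw [this]; exact N.one_mem
  have hcZ : Nat.card Z = 2 := by rw [hZ, Nat.card_zpowers, hz]
  -- index of Z in L
  have hcL : Nat.card L = 2 * Nat.card N := by
    have h1 : L.index = N.index :=
      Subgroup.index_comap_of_surjective N (QuotientGroup.mk'_surjective Z)
    have h2 := Subgroup.card_mul_index L
    have h3 := Subgroup.card_mul_index N
    have h4 := Subgroup.card_eq_card_quotient_mul_card_subgroup Z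
    rw [h4, ← h3, h1, hcZ] at h2
    have h5 : 0 < N.index := Nat.pos_of_ne_zero Subgroup.index_ne_zero_of_finite
    have h6 : Nat.card L * N.index = (2 * Nat.card N) * N.index := by rw [h2]; ring
    exact Nat.eq_of_mul_eq_mul_right h5 h6
  have : (Z.subgroupOf L).Normal := inferInstance
  have hcZL : Nat.card (Z.subgroupOf L) = 2 := by
    rw [Nat.card_congr (Subgroup.subgroupOfEquivOfLe hZL).toEquiv, hcZ]
  have hidx : (Z.subgroupOf L).index = Nat.card N := by
    have := Subgroup.card_mul_index (Z.subgroupOf L)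
    rw [hcZL, hcL] at this
    exact Nat.eq_of_mul_eq_mul_left (by norm_num) this
  have hcop : (Nat.card (Z.subgroupOf L)).Coprime (Z.subgroupOf L).index := by
    rw [hcZL, hidx, Nat.coprime_two_left]; exact hodd
  obtain ⟨H, hH⟩ := Subgroup.exists_right_complement'_of_coprime hcop
  have hcH : Nat.card H = Nat.card N := by
    have := hH.card_mul_card
    rw [hcZL, hcL] at this
    exact Nat.eq_of_mul_eq_mul_left (by norm_num) this
  set m := Nat.card N with hm
  -- characterisation of H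
  have hchar : ∀ n : L, n ∈ H ↔ n ^ m = 1 := by
    intro n
    constructor
    · intro hn
      rw [← hcH]
      exact pow_card_of_mem H hn
    · intro hn
      obtain ⟨⟨y, h⟩, hyh⟩ := hH.2 n
      simp only at hyh
      have hy : (y : L) ∈ Z.subgroupOf L := y.2
      have hyc : ∀ g : L, g * (y : L) = (y : L) * g := by
        intro g
        rw [Subgroup.mem_subgroupOf] at hy
        obtain ⟨i, hi⟩ := Subgroup.mem_zpowers_iff.mp hy
        apply Subtype.ext
        simp only [Subgroup.coe_mul]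
        rw [← hi]
        have : Commute (g : K) z := hzc g
        exact (this.zpow_right i).eq
      have hhm : (h : L) ^ m = 1 := by
        rw [← hcH]
        exact pow_card_of_mem H h.2
      have hym : (y : L) ^ m = 1 := by
        have h1 : ((y : L) * (h : L)) ^ m = (y : L) ^ m * (h : L) ^ m :=
          Commute.mul_pow (hyc h).symm m
        rw [hyh, hn, hhm, mul_one] at h1
        exact h1.symm
      have hy2 : (y : L) ^ 2 = 1 := by
        have := pow_card_of_mem (Z.subgroupOf L) hy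
        rwa [hcZL] at this
      have hy1 : (y : L) = 1 := by
        have h1 : orderOf (y : L) ∣ Nat.gcd 2 m :=
          Nat.dvd_gcd (orderOf_dvd_of_pow_eq_one hy2) (orderOf_dvd_of_pow_eq_one hym)
        rw [Nat.coprime_two_left.mpr hodd] at h1
        exact orderOf_eq_one_iff.mp (Nat.dvd_one.mp h1)
      rw [← hyh, hy1, one_mul]
      exact h.2
  refine ⟨H.map L.subtype, ⟨?_⟩, ?_, ?_, ?_⟩
  · rintro n ⟨h, hh, rfl⟩ g
    have hgL : g * (h : K) * g⁻¹ ∈ L := by
      have : L.Normal := by rw [hL]; infer_instance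
      exact this.conj_mem _ h.2 g
    refine ⟨⟨g * (h : K) * g⁻¹, hgL⟩, ?_, rfl⟩
    rw [SetLike.mem_coe, hchar]
    apply Subtype.ext
    have h1 := (hchar h).mp hh
    have h2 : (h : K) ^ m = 1 := by exact_mod_cast congrArg Subtype.val h1
    simp only [Subgroup.coe_pow, Subgroup.coe_one]
    rw [conj_pow, h2, mul_one, mul_inv_cancel]
  · rintro n ⟨h, hh, rfl⟩
    have h1 := (hchar h).mp hh
    have h2 : (h : K) ^ m = 1 := by exact_mod_cast congrArg Subtype.val h1
    exact h2
  · rw [← hcH]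
    exact (Nat.card_congr (Subgroup.equivMapOfInjective H L.subtype
      (Subgroup.subtype_injective L)).toEquiv).symm
  · intro n hn
    have hnL : n ∈ L := by rw [hL, Subgroup.mem_comap]; exact hn
    obtain ⟨⟨y, h⟩, hyh⟩ := hH.2 (⟨n, hnL⟩ : L)
    simp only at hyh
    have hy : (y : L) ∈ Z.subgroupOf L := y.2
    rw [Subgroup.mem_subgroupOf] at hy
    have hzz : z * z = 1 := by
      have := pow_orderOf_eq_one z
      rw [hz, pow_two] at this; exact this
    have hy' : ((y : L) : K) = 1 ∨ ((y : L) : K) = z := by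
      obtain ⟨i, hi⟩ := Subgroup.mem_zpowers_iff.mp hy
      rcases Int.even_or_odd' i with ⟨j, hj | hj⟩
      · left
        rw [← hi, hj, zpow_mul]
        have : z ^ (2 : ℤ) = 1 := by
          rw [show (2 : ℤ) = ((2 : ℕ) : ℤ) from rfl, zpow_natCast, pow_two]; exact hzz
        rw [this, one_zpow]
      · right
        rw [← hi, hj, zpow_add, zpow_mul]
        have : z ^ (2 : ℤ) = 1 := by
          rw [show (2 : ℤ) = ((2 : ℕ) : ℤ) from rfl, zpow_natCast, pow_two]; exact hzz
        rw [this, one_zpow, one_mul, zpow_one]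
    have hn' : n = ((y : L) : K) * ((h : L) : K) := by
      have := congrArg Subtype.val hyh
      simpa using this.symm
    rcases hy' with hy1 | hy1
    · left
      refine ⟨(h : L), h.2, ?_⟩
      rw [hn', hy1, one_mul]; rfl
    · right
      refine ⟨(h : L), h.2, ?_⟩
      rw [hn', hy1, ← mul_assoc, hzz, one_mul]; rfl

/-- Application of the Z*-theorem modulo a central involution. -/
theorem exists_core (hZ : ZStar.{u}) {K : Type u} [Group K] [Finite K] (z x : K)
    (hz : orderOf z = 2) (hzc : ∀ g : K, g * z = z * g) (hx : x * x = 1) (hx1 : x ≠ 1) (hxz : x ≠ z)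
    (T : Sylow 2 K) (hxT : x ∈ T) (hzT : z ∈ T)
    (hT : ∀ g : K, g * x * g⁻¹ ∈ T → g * x * g⁻¹ = x ∨ g * x * g⁻¹ = z * x) :
    ∃ O : Subgroup K, O.Normal ∧ Odd (Nat.card O) ∧
      ∀ g : K, ∃ r ∈ O, r * (g * x * g⁻¹) * r⁻¹ = x ∨ r * (g * x * g⁻¹) * r⁻¹ = z * x := by
  classical
  have hZn : (Subgroup.zpowers z).Normal := by
    constructor
    intro n hn g
    obtain ⟨i, rfl⟩ := Subgroup.mem_zpowers_iff.mp hn
    have : Commute g z := hzc g
    rw [(this.zpow_right i).eq, mul_inv_cancel_right]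
    exact hn
  set Z : Subgroup K := Subgroup.zpowers z with hZdef
  have hsurj : Function.Surjective (QuotientGroup.mk' Z) := QuotientGroup.mk'_surjective Z
  have hzz : z * z = 1 := by
    have := pow_orderOf_eq_one z
    rw [hz, pow_two] at this; exact this
  have hmemZ : ∀ y ∈ Z, y = 1 ∨ y = z := by
    intro y hy
    obtain ⟨i, hi⟩ := Subgroup.mem_zpowers_iff.mp hy
    rcases Int.even_or_odd' i with ⟨j, hj | hj⟩
    · left
      rw [← hi, hj, zpow_mul]
      have : z ^ (2 : ℤ) = 1 := by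
        rw [show (2 : ℤ) = ((2 : ℕ) : ℤ) from rfl, zpow_natCast, pow_two]; exact hzz
      rw [this, one_zpow]
    · right
      rw [← hi, hj, zpow_add, zpow_mul]
      have : z ^ (2 : ℤ) = 1 := by
        rw [show (2 : ℤ) = ((2 : ℕ) : ℤ) from rfl, zpow_natCast, pow_two]; exact hzz
      rw [this, one_zpow, one_mul, zpow_one]
  obtain ⟨N, hNn, hNodd, hN⟩ := hZ (K ⧸ Z) (T.mapSurjective hsurj) (x : K ⧸ Z) (by
      rw [orderOf_eq_prime_iff]
      constructor
      · rw [← QuotientGroup.mk_pow, pow_two, hx]; rfl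
      · intro h
        have := (QuotientGroup.eq_one_iff x).mp h
        rcases hmemZ x this with h | h
        · exact hx1 h
        · exact hxz h) (by
      have : (x : K ⧸ Z) ∈ (T.mapSurjective hsurj : Subgroup (K ⧸ Z)) := by
        rw [Sylow.coe_mapSurjective]
        exact ⟨x, hxT, rfl⟩
      exact this) (by
      intro g
      obtain ⟨g, rfl⟩ := QuotientGroup.mk_surjective g
      intro hg
      have hg' : (g : K ⧸ Z) * (x : K ⧸ Z) * (g : K ⧸ Z)⁻¹ ∈
          (T.mapSurjective hsurj : Subgroup (K ⧸ Z)) := hg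
      rw [Sylow.coe_mapSurjective] at hg'
      obtain ⟨t, ht, hgt⟩ := hg'
      have h1 : ((g * x * g⁻¹ : K) : K ⧸ Z) = (t : K ⧸ Z) := by
        rw [QuotientGroup.mk'_apply] at hgt
        rw [hgt]; rfl
      have h2 : g * x * g⁻¹ ∈ T := by
        rw [eq_comm, QuotientGroup.eq] at h1
        have h3 : g * x * g⁻¹ = t * (t⁻¹ * (g * x * g⁻¹)) := by group
        rw [h3]
        refine mul_mem ht ?_
        rcases hmemZ _ h1 with h | h
        · rw [h]; exact one_mem _
        · rw [h]; exact hzT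
      have h4 : (g : K ⧸ Z) * (x : K ⧸ Z) * (g : K ⧸ Z)⁻¹ = ((g * x * g⁻¹ : K) : K ⧸ Z) := rfl
      rw [h4]
      rcases hT g h2 with h | h
      · rw [h]
      · rw [h, QuotientGroup.mk_mul]
        have : (z : K ⧸ Z) = 1 := (QuotientGroup.eq_one_iff z).mpr (Subgroup.mem_zpowers z)
        rw [this, one_mul])
  have := hNn
  obtain ⟨O, hOn, hOpow, hOcard, hO⟩ := exists_odd_factor z hz hzc N hNodd
  refine ⟨O, hOn, hOcard ▸ hNodd, ?_⟩
  intro g
  obtain ⟨k, hk⟩ := hNodd
  set m := Nat.card N with hm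
  -- n = x * (g x g⁻¹)
  set n : K := x * (g * x * g⁻¹) with hn
  have hxi : x⁻¹ = x := inv_eq_of_mul_eq_one_left hx
  have hnN : ((n : K) : K ⧸ Z) ∈ N := by
    have h1 := hN (g : K ⧸ Z)
    have h2 : (x : K ⧸ Z) * (g : K ⧸ Z) * (x : K ⧸ Z)⁻¹ * (g : K ⧸ Z)⁻¹ = ((n : K) : K ⧸ Z) := by
      have : n = x * g * x⁻¹ * g⁻¹ := by rw [hn, hxi]; group
      rw [this]; rfl
    rw [h2] at h1
    exact h1
  have hgx : g * x * g⁻¹ = x * n := by
    rw [hn, ← mul_assoc, hx, one_mul]
  have hinv : (x * n) * (x * n) = 1 := by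
    rw [← hgx]
    calc g * x * g⁻¹ * (g * x * g⁻¹) = g * (x * x) * g⁻¹ := by group
      _ = 1 := by rw [hx]; group
  -- common computation for an odd factor o with x o x = o⁻¹
  have hcomp : ∀ o ∈ O, x * o * x = o⁻¹ → ∃ r ∈ O, r * (x * o) * r⁻¹ = x := by
    intro o ho hxo
    have hom : o ^ m = 1 := hOpow o ho
    refine ⟨o ^ (k + 1), O.pow_mem ho _, ?_⟩
    have h1 : o ^ (k + 1) * o ^ (k + 1) = o := by
      rw [← pow_add, show k + 1 + (k + 1) = m + 1 by omega, pow_succ, hom, one_mul]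
    have h2 : x * o ^ (k + 1) * x = (o ^ (k + 1))⁻¹ := by
      have : x * o ^ (k + 1) * x⁻¹ = (x * o * x⁻¹) ^ (k + 1) := (conj_pow).symm
      rw [hxi] at this
      rw [this, hxo, inv_pow]
    have h3 : o ^ (k + 1) * x = x * (o ^ (k + 1))⁻¹ := by
      rw [← h2, ← mul_assoc, ← mul_assoc, hx, one_mul]
    calc o ^ (k + 1) * (x * o) * (o ^ (k + 1))⁻¹
        = (o ^ (k + 1) * x) * (o * (o ^ (k + 1))⁻¹) := by group
      _ = x * (o ^ (k + 1))⁻¹ * (o * (o ^ (k + 1))⁻¹) := by rw [h3]
      _ = x * (o ^ (k + 1))⁻¹ * ((o ^ (k + 1) * o ^ (k + 1)) * (o ^ (k + 1))⁻¹) := by rw [h1]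
      _ = x := by group
  have hzi : z⁻¹ = z := inv_eq_of_mul_eq_one_left hzz
  rcases hO n hnN with ho | ho
  · have hxo : x * n * x = n⁻¹ := by
      have : x * n * x * n = 1 := by rw [← hinv]; group
      exact eq_inv_of_mul_eq_one_left this
    obtain ⟨r, hr, hr2⟩ := hcomp n ho hxo
    exact ⟨r, hr, Or.inl (by rw [hgx, hr2])⟩
  · have hzn : z * n = n * z := (hzc n).symm
    have hzx : z * x = x * z := (hzc x).symm
    have hxo : x * (z * n) * x = (z * n)⁻¹ := by
      have h1 : x * (z * n) * x * (z * n) = 1 := by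
        calc x * (z * n) * x * (z * n) = (x * z) * n * (x * z) * n := by group
          _ = (z * x) * n * (z * x) * n := by rw [hzx]
          _ = z * (x * (n * z)) * x * n := by group
          _ = z * (x * (z * n)) * x * n := by rw [hzn]
          _ = z * ((x * z) * n) * x * n := by group
          _ = z * ((z * x) * n) * x * n := by rw [hzx]
          _ = (z * z) * ((x * n) * (x * n)) := by group
          _ = 1 := by rw [hzz, hinv, one_mul]
      exact eq_inv_of_mul_eq_one_left h1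
    obtain ⟨r, hr, hr2⟩ := hcomp (z * n) ho hxo
    refine ⟨r, hr, Or.inr ?_⟩
    rw [hgx]
    have hzr : z * r = r * z := (hzc r).symm
    calc r * (x * n) * r⁻¹ = r * (1 * x * n) * r⁻¹ := by rw [one_mul]
      _ = r * ((z * z) * x * n) * r⁻¹ := by rw [hzz]
      _ = (r * z) * ((z * x) * n) * r⁻¹ := by group
      _ = (z * r) * ((x * z) * n) * r⁻¹ := by rw [hzr, hzx]
      _ = z * (r * (x * (z * n)) * r⁻¹) := by group
      _ = z * x := by rw [hr2]

end zstar

section main

theorem sylow_conj_mem {K : Type*} [Group K] {Q T : Sylow 2 K} {c q : K} (hc : c • Q = T)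
    (hq : q ∈ Q) : c * q * c⁻¹ ∈ T := by
  rw [← hc]
  have h1 : c * q * c⁻¹ ∈ ((c • Q : Sylow 2 K) : Subgroup K) := by
    rw [Sylow.coe_subgroup_smul]
    exact Subgroup.smul_mem_pointwise_smul q (MulAut.conj c) (Q : Subgroup K) hq
  exact h1

variable {D : Set G} {A : Subgroup G}

theorem Hyp.isPGroup (h : Hyp D A) : IsPGroup 2 A := fun a => ⟨1, by
  apply Subtype.ext
  have := h.sqA a a.2
  simpa [pow_two] using this⟩

/-- A Sylow 2-subgroup of `K ≥ A` containing `A`, as a subgroup of `G`; it normalises `A`. -/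
theorem Hyp.exists_sylow [Finite G] (h : Hyp D A) (K : Subgroup G) (hAK : A ≤ K) :
    ∃ T : Sylow 2 K, (∀ a : K, (a : G) ∈ A → a ∈ T) ∧
      ∀ t : K, t ∈ T → ∀ a ∈ A, (t : G) * a * (t : G)⁻¹ ∈ A := by
  have h1 : IsPGroup 2 (A.subgroupOf K) :=
    (h.isPGroup).of_equiv (Subgroup.subgroupOfEquivOfLe hAK).symm
  obtain ⟨T, hT⟩ := h1.exists_le_sylow
  refine ⟨T, fun a ha => hT (Subgroup.mem_subgroupOf.mpr ha), fun t ht a ha => ?_⟩
  have h2 : IsPGroup 2 ((T : Subgroup K).map K.subtype) := T.2.map K.subtype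
  have h3 : A ≤ (T : Subgroup K).map K.subtype := by
    intro b hb
    exact ⟨⟨b, hAK hb⟩, hT (Subgroup.mem_subgroupOf.mpr hb), rfl⟩
  refine h.weak _ h2 h3 t (fun b hb => ?_) a ha
  refine mul_mem (mul_mem ⟨t, ht, rfl⟩ (h3 hb)) (inv_mem ⟨t, ht, rfl⟩)

/-- `A` is abelian and weakly closed, so its normaliser controls fusion of its elements. -/
theorem Hyp.exists_normalizing [Finite G] (h : Hyp D A) (K : Subgroup G) (hAK : A ≤ K) {a b k : G}
    (ha : a ∈ A) (hb : b ∈ A) (hk : k ∈ K) (hab : k * a * k⁻¹ = b) :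
    ∃ n ∈ K, (∀ c ∈ A, n * c * n⁻¹ ∈ A) ∧ n * a * n⁻¹ = b := by
  classical
  set C : Subgroup G := K ⊓ Subgroup.centralizer ({b} : Set G) with hC
  have hAC : A ≤ C := by
    intro c hc
    exact ⟨hAK hc, mem_cent.mpr (h.comm c hc b hb)⟩
  set B : Subgroup G := A.map (MulAut.conj k).toMonoidHom with hB
  have hBC : B ≤ C := by
    rintro _ ⟨c, hc, rfl⟩
    simp only [MulEquiv.coe_toMonoidHom, MulAut.conj_apply]
    refine ⟨K.mul_mem (K.mul_mem hk (hAK hc)) (K.inv_mem hk), mem_cent.mpr ?_⟩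
    rw [← hab]
    have h1 := h.comm c hc a ha
    calc k * c * k⁻¹ * (k * a * k⁻¹) = k * (c * a) * k⁻¹ := by group
      _ = k * (a * c) * k⁻¹ := by rw [h1]
      _ = k * a * k⁻¹ * (k * c * k⁻¹) := by group
  have hBp : IsPGroup 2 B := h.isPGroup.map _
  have h1 : IsPGroup 2 (A.subgroupOf C) :=
    (h.isPGroup).of_equiv (Subgroup.subgroupOfEquivOfLe hAC).symm
  have h2 : IsPGroup 2 (B.subgroupOf C) := hBp.of_equiv (Subgroup.subgroupOfEquivOfLe hBC).symm
  obtain ⟨T, hT⟩ := h1.exists_le_sylow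
  obtain ⟨Q, hQ⟩ := h2.exists_le_sylow
  obtain ⟨c, hc⟩ := MulAction.exists_smul_eq C Q T
  have h4 : IsPGroup 2 ((T : Subgroup C).map C.subtype) := T.2.map C.subtype
  have h5 : A ≤ (T : Subgroup C).map C.subtype := by
    intro b hb
    exact ⟨⟨b, hAC hb⟩, hT (Subgroup.mem_subgroupOf.mpr hb), rfl⟩
  have hcC : (c : G) ∈ C := c.2
  refine ⟨c * k, K.mul_mem hcC.1 hk, ?_, ?_⟩
  · refine h.weak _ h4 h5 _ (fun x hx => ?_)
    have h6 : k * x * k⁻¹ ∈ B := ⟨x, hx, rfl⟩
    have h7 : (⟨k * x * k⁻¹, hBC h6⟩ : C) ∈ Q := hQ (Subgroup.mem_subgroupOf.mpr h6)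
    have h8 : c * (⟨k * x * k⁻¹, hBC h6⟩ : C) * c⁻¹ ∈ T := sylow_conj_mem hc h7
    refine ⟨_, h8, ?_⟩
    simp only [Subgroup.coe_subtype, Subgroup.coe_mul, Subgroup.coe_inv]
    group
  · have h9 := mem_cent.mp hcC.2
    calc (c : G) * k * a * ((c : G) * k)⁻¹ = c * (k * a * k⁻¹) * (c : G)⁻¹ := by group
      _ = (c : G) * b * (c : G)⁻¹ := by rw [hab]
      _ = b := by rw [h9]; group

theorem Hyp.exists_mem (h : Hyp D A) : ∃ d ∈ D, d ∈ A := by
  obtain ⟨x, hx, hxA, _⟩ := h.fix 1 (by simp) (by intro a ha; simpa using ha)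
  exact ⟨x, hx, hxA⟩

theorem Hyp.le_M (h : Hyp D A) {d : G} (hdA : d ∈ A) : A ≤ M D h.conj d :=
  fun a ha => mem_M_of_comm h.conj (h.comm a ha d hdA)

theorem Hyp.conn_of_mem (h : Hyp D A) {x y : G} (hx : x ∈ D) (hxA : x ∈ A) (hy : y ∈ D)
    (hyA : y ∈ A) : Conn D x y := Conn.of_comm hx hy (h.comm x hxA y hyA)

/-- An involution of `M(d)` centralises some member of the component of `d`. -/
theorem Hyp.exists_comm₀ [Finite G] (h : Hyp D A) {d : G} (hd : d ∈ D) (hdA : d ∈ A) {t : G}
    (ht : t * t = 1) (htM : t ∈ M D h.conj d) : ∃ b ∈ D, Conn D d b ∧ t * b = b * t := by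
  obtain ⟨T, _, hT2⟩ := h.exists_sylow (M D h.conj d) (h.le_M hdA)
  have h1 : IsPGroup 2 (Subgroup.zpowers (⟨t, htM⟩ : M D h.conj d)) := by
    refine IsPGroup.of_card (n := if orderOf (⟨t, htM⟩ : M D h.conj d) = 1 then 0 else 1) ?_
    rw [Nat.card_zpowers]
    split_ifs with h0
    · rw [h0, pow_zero]
    · rw [pow_one]
      have h2 : orderOf (⟨t, htM⟩ : M D h.conj d) ∣ 2 := by
        apply orderOf_dvd_of_pow_eq_one
        rw [pow_two]
        exact Subtype.ext ht
      rcases (Nat.dvd_prime Nat.prime_two).mp h2 with h3 | h3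
      · exact absurd h3 h0
      · exact h3
  obtain ⟨Q, hQ⟩ := h1.exists_le_sylow
  obtain ⟨c, hc⟩ := MulAction.exists_smul_eq (M D h.conj d) Q T
  have h2 : (⟨t, htM⟩ : M D h.conj d) ∈ Q :=
    hQ (Subgroup.mem_zpowers (⟨t, htM⟩ : M D h.conj d))
  have h3 : c * (⟨t, htM⟩ : M D h.conj d) * c⁻¹ ∈ T := sylow_conj_mem hc h2
  have h4 : (c : G) * t * (c : G)⁻¹ * ((c : G) * t * (c : G)⁻¹) = 1 := by
    calc (c : G) * t * (c : G)⁻¹ * ((c : G) * t * (c : G)⁻¹) = c * (t * t) * (c : G)⁻¹ := by group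
      _ = 1 := by rw [ht]; group
  obtain ⟨x, hx, hxA, hxt⟩ := h.fix _ h4 (hT2 _ h3)
  refine ⟨(c : G)⁻¹ * x * c, ?_, ?_, ?_⟩
  · have := h.conj (c : G)⁻¹ x hx
    rwa [inv_inv] at this
  · have h5 : Conn D d ((c : G)⁻¹ * d * ((c : G)⁻¹)⁻¹) := (M D h.conj d).inv_mem c.2
    have h6 := (h.conn_of_mem hd hdA hx hxA).conj h.conj (c : G)⁻¹
    rw [inv_inv] at h5 h6
    exact h5.trans h6
  · have h7 : (c : G) * t * (c : G)⁻¹ * x = x * ((c : G) * t * (c : G)⁻¹) := hxt
    calc t * ((c : G)⁻¹ * x * c) = (c : G)⁻¹ * ((c : G) * t * (c : G)⁻¹ * x) * c := by group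
      _ = (c : G)⁻¹ * (x * ((c : G) * t * (c : G)⁻¹)) * c := by rw [h7]
      _ = (c : G)⁻¹ * x * c * t := by group

/-- An involution of `M(a)` centralises some member of the component of `a`. -/
theorem Hyp.exists_comm [Finite G] (h : Hyp D A) {a : G} (ha : a ∈ D) {t : G}
    (ht : t * t = 1) (htM : t ∈ M D h.conj a) : ∃ b ∈ D, Conn D a b ∧ t * b = b * t := by
  obtain ⟨d, hd, hdA⟩ := h.exists_mem
  obtain ⟨k, hk⟩ := h.trans d hd a ha
  rw [← hk, mem_M_conj] at htM
  obtain ⟨b, hb, hdb, htb⟩ := h.exists_comm₀ hd hdA (t := k⁻¹ * t * k) (by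
    calc k⁻¹ * t * k * (k⁻¹ * t * k) = k⁻¹ * (t * t) * k := by group
      _ = 1 := by rw [ht]; group) htM
  refine ⟨k * b * k⁻¹, h.conj k b hb, hk ▸ hdb.conj h.conj k, ?_⟩
  calc t * (k * b * k⁻¹) = k * (k⁻¹ * t * k * b) * k⁻¹ := by group
    _ = k * (b * (k⁻¹ * t * k)) * k⁻¹ := by rw [htb]
    _ = k * b * k⁻¹ * t := by group

/-- `D ∩ M(a)` is the component of `a`. -/
theorem Hyp.conn_of_mem_M [Finite G] (h : Hyp D A) {a f : G} (ha : a ∈ D) (hf : f ∈ D)
    (hfM : f ∈ M D h.conj a) : Conn D a f := by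
  obtain ⟨b, hb, hab, hfb⟩ := h.exists_comm ha (h.sq f hf) hfM
  exact hab.trans (Conn.of_comm hb hf hfb.symm)

/-- Centralisers of `x * y`, `x ≠ y` in `D ∩ A`. -/
theorem Hyp.mem_M_of_comm_mul₀ [Finite G] (hZ : ZStar.{u}) (h : Hyp D A) {x y : G} (hx : x ∈ D)
    (hxA : x ∈ A) (hy : y ∈ D) (hyA : y ∈ A) (hxy : x ≠ y) {g : G}
    (hg : g * (x * y) = x * y * g) : g ∈ M D h.conj x := by
  classical
  set K : Subgroup G := Subgroup.centralizer ({x * y} : Set G) with hK
  have hAK : A ≤ K := by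
    intro c hc
    rw [hK, Subgroup.mem_centralizer_singleton_iff]
    exact h.comm c hc _ (A.mul_mem hxA hyA)
  have hgK : g ∈ K := by rw [hK, Subgroup.mem_centralizer_singleton_iff]; exact hg
  obtain ⟨T, hT1, hT2⟩ := h.exists_sylow K hAK
  have hxx := h.sq x hx
  have hyy := h.sq y hy
  have hcxy := h.comm x hxA y hyA
  have hzz : (x * y) * (x * y) = 1 := h.sqA _ (A.mul_mem hxA hyA)
  have hz1 : x * y ≠ 1 := by
    intro h1
    exact hxy ((eq_inv_of_mul_eq_one_left h1).trans (inv_eq_of_mul_eq_one_left hyy))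
  -- the members of `D ∩ T` conjugate to `x` in `K`
  have hfus : ∀ k : K, (k : G) * x * (k : G)⁻¹ ∈ A →
      (k : G) * x * (k : G)⁻¹ = x ∨ (k : G) * x * (k : G)⁻¹ = y := by
    intro k hk
    obtain ⟨n, hnK, hnA, hnx⟩ := h.exists_normalizing K hAK hxA hk k.2 rfl
    rw [← hnx]
    have hnz : n * (x * y) * n⁻¹ = x * y := by
      rw [hK, Subgroup.mem_centralizer_singleton_iff] at hnK
      rw [hnK]; group
    have e1 : x * y = (n * x * n⁻¹) * (n * y * n⁻¹) := by
      rw [← hnz]; group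
    exact h.pair x hx hxA y hy hyA hxy _ (h.conj n x hx) (hnA x hxA) _ (h.conj n y hy) (hnA y hyA)
      e1
  obtain ⟨O, hOn, hOodd, hO⟩ := exists_core hZ (K := K) ⟨x * y, hAK (A.mul_mem hxA hyA)⟩
    ⟨x, hAK hxA⟩ (by
      rw [orderOf_eq_prime_iff]
      constructor
      · rw [pow_two]; exact Subtype.ext hzz
      · intro h1
        exact hz1 (congrArg Subtype.val h1)) (by
      intro k
      exact Subtype.ext (mem_cent.mp k.2)) (Subtype.ext hxx) (by
      intro h1
      exact h.ne x hx (congrArg Subtype.val h1)) (by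
      intro h1
      have h2 : x = x * y := congrArg Subtype.val h1
      exact h.ne y hy (mul_eq_left.mp h2.symm)) T
      (hT1 _ hxA) (hT1 _ (A.mul_mem hxA hyA)) (by
      intro k hk
      have h1 : (k : G) * x * (k : G)⁻¹ ∈ A :=
        h.normD _ (h.conj _ x hx) (fun a ha => by
          have := hT2 _ hk a ha
          simpa using this)
      rcases hfus k h1 with h2 | h2
      · left; exact Subtype.ext h2
      · right
        apply Subtype.ext
        change (k : G) * x * (k : G)⁻¹ = x * y * x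
        rw [h2, hcxy, mul_assoc, hxx, mul_one])
  -- O ≤ M(x)
  have hOM : O.map K.subtype ≤ M D h.conj x := by
    set Q : Subgroup G := O.map K.subtype with hQ
    have hQodd : ¬ 2 ∣ Nat.card Q := by
      have e1 : Nat.card Q = Nat.card O :=
        (Nat.card_congr (Subgroup.equivMapOfInjective O K.subtype
          (Subgroup.subtype_injective K)).toEquiv).symm
      rw [e1]
      intro h2
      exact (Nat.not_even_iff_odd.mpr hOodd) (even_iff_two_dvd.mpr h2)
    have hAQ : A ≤ Subgroup.normalizer (Q : Set G) := by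
      intro a ha
      rw [Subgroup.mem_normalizer_iff]
      intro q
      constructor
      · rintro ⟨o, ho, rfl⟩
        exact ⟨⟨a, hAK ha⟩ * o * ⟨a, hAK ha⟩⁻¹, hOn.conj_mem o ho _, rfl⟩
      · rintro ⟨o, ho, ho2⟩
        refine ⟨⟨a, hAK ha⟩⁻¹ * o * ⟨a, hAK ha⟩, ?_, ?_⟩
        · have := hOn.conj_mem o ho (⟨a, hAK ha⟩⁻¹)
          rwa [inv_inv] at this
        · have ho3 : (o : G) = a * q * a⁻¹ := ho2
          change a⁻¹ * (o : G) * a = q
          rw [ho3]; group
    have hAe : Cfsg.IsElementaryAbelian 2 A := by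
      constructor
      · exact ⟨⟨fun a b => Subtype.ext (h.comm a a.2 b b.2)⟩⟩
      · intro a ha
        rw [pow_two]; exact h.sqA a ha
    have hA1 : A ≠ ⊥ := by
      intro h1
      rw [h1, Subgroup.mem_bot] at hxA
      exact h.ne x hx hxA
    have := Cfsg.Agent.Lib.CoprimeHyperplane.iSup_centralizer_hyperplane (p := 2) hAe hA1 hQodd hAQ
    rw [← this]
    refine iSup_le fun B => ?_
    obtain ⟨B, hBA, hBi⟩ := B
    obtain ⟨w, hwB, hwD⟩ := h.hyper B hBA hBi
    intro q hq
    have h1 : q * w = w * q := (Subgroup.mem_centralizer_iff.mp hq.2 w hwB).symm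
    rw [M_eq_of_conn h.conj (h.conn_of_mem hx hxA hwD (hBA hwB))]
    exact mem_M_of_comm h.conj h1
  obtain ⟨r, hr, hr2⟩ := hO ⟨g, hgK⟩
  have hrM : (r : G) ∈ M D h.conj x := hOM ⟨r, hr, rfl⟩
  have hrg : (r : G) * g ∈ M D h.conj x := by
    rcases hr2 with h1 | h1
    · have h2 : (r : G) * (g * x * g⁻¹) * (r : G)⁻¹ = x := congrArg Subtype.val h1
      refine mem_M_of_conj_eq h.conj (Conn.refl D x) (Conn.refl D x) ?_
      calc (r : G) * g * x * ((r : G) * g)⁻¹ = (r : G) * (g * x * g⁻¹) * (r : G)⁻¹ := by group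
        _ = x := h2
    · have h2 : (r : G) * (g * x * g⁻¹) * (r : G)⁻¹ = (x * y) * x := congrArg Subtype.val h1
      have h3 : (x * y) * x = y := by rw [hcxy, mul_assoc, hxx, mul_one]
      rw [h3] at h2
      refine mem_M_of_conj_eq h.conj (Conn.refl D x) (h.conn_of_mem hx hxA hy hyA) ?_
      calc (r : G) * g * x * ((r : G) * g)⁻¹ = (r : G) * (g * x * g⁻¹) * (r : G)⁻¹ := by group
        _ = y := h2
  have := (M D h.conj x).mul_mem ((M D h.conj x).inv_mem hrM) hrg
  simpa using this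

/-- Every commuting pair of distinct members of `D` is conjugate into `A`. -/
theorem Hyp.exists_conj_pair (h : Hyp D A) {a b : G} (ha : a ∈ D) (hb : b ∈ D)
    (hab : a * b = b * a) : ∃ k x y : G, x ∈ D ∧ x ∈ A ∧ y ∈ D ∧ y ∈ A ∧
      k * x * k⁻¹ = a ∧ k * y * k⁻¹ = b := by
  obtain ⟨d, hd, hdA⟩ := h.exists_mem
  obtain ⟨k, hk⟩ := h.trans d hd a ha
  have hb' : k⁻¹ * b * k ∈ D := by
    have := h.conj k⁻¹ b hb
    rwa [inv_inv] at this
  have h1 : k⁻¹ * b * k * d = d * (k⁻¹ * b * k) := by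
    have hd' : d = k⁻¹ * a * k := by rw [← hk]; group
    rw [hd']
    calc k⁻¹ * b * k * (k⁻¹ * a * k) = k⁻¹ * (b * a) * k := by group
      _ = k⁻¹ * (a * b) * k := by rw [hab]
      _ = k⁻¹ * a * k * (k⁻¹ * b * k) := by group
  obtain ⟨c, hcd, hcA⟩ := h.into d hd hdA _ (h.sq _ hb') h1
  refine ⟨k * c⁻¹, d, c * (k⁻¹ * b * k) * c⁻¹, hd, hdA, h.conj c _ hb', hcA, ?_, ?_⟩
  · have h2 : c⁻¹ * d * c = d := by rw [mul_assoc, ← hcd]; group
    calc k * c⁻¹ * d * (k * c⁻¹)⁻¹ = k * (c⁻¹ * d * c) * k⁻¹ := by group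
      _ = a := by rw [h2, hk]
  · group

theorem Hyp.mem_M_of_comm_mul [Finite G] (hZ : ZStar.{u}) (h : Hyp D A) {a b : G} (ha : a ∈ D)
    (hb : b ∈ D) (hab : a * b = b * a) (hne : a ≠ b) {g : G}
    (hg : g * (a * b) = a * b * g) : g ∈ M D h.conj a := by
  obtain ⟨k, x, y, hx, hxA, hy, hyA, rfl, rfl⟩ := h.exists_conj_pair ha hb hab
  rw [mem_M_conj]
  refine h.mem_M_of_comm_mul₀ hZ hx hxA hy hyA (fun h1 => hne (by rw [h1])) ?_
  have e1 : k * x * k⁻¹ * (k * y * k⁻¹) = k * (x * y) * k⁻¹ := by group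
  rw [e1] at hg
  calc k⁻¹ * g * k * (x * y) = k⁻¹ * (g * (k * (x * y) * k⁻¹)) * k := by group
    _ = k⁻¹ * (k * (x * y) * k⁻¹ * g) * k := by rw [hg]
    _ = x * y * (k⁻¹ * g * k) := by group

/-- Members of different components have a product of odd order. -/
theorem Hyp.odd_of_not_conn [Finite G] (hZ : ZStar.{u}) (h : Hyp D A) {a f : G} (ha : a ∈ D)
    (hf : f ∈ D) (hn : ¬ Conn D a f) : Odd (orderOf (a * f)) := by
  by_contra hodd
  rw [Nat.not_odd_iff_even] at hodd
  obtain ⟨z, hz1, hzz, hza, hzf, hcl⟩ := exists_of_even (h.sq a ha) (h.sq f hf) hodd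
    (orderOf_pos (a * f)).ne'
  have hazD : a * z ∈ D := by
    rcases hcl with ⟨g, hg⟩ | ⟨g, hg⟩
    · rw [hg]; exact h.conj g a ha
    · rw [hg]; exact h.conj g f hf
  have haa := h.sq a ha
  have h1 : a * (a * z) = z := by rw [← mul_assoc, haa, one_mul]
  have h2 : a * (a * z) = a * z * a := by rw [mul_assoc a z a, hza]
  have h3 : f ∈ M D h.conj a := by
    refine h.mem_M_of_comm_mul hZ ha hazD h2 (fun h4 => hz1 ?_) (g := f) (by rw [h1, hzf])
    have := congrArg (fun w => a * w) h4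
    simp only [h1, haa] at this
    exact this.symm
  exact hn (h.conn_of_mem_M ha hf h3)

/-- In the component, everything commuting with an involution `t` commutes with some fixed member `x`. -/
theorem Hyp.exists_universal [Finite G] (h : Hyp D A) {a t : G} (ha : a ∈ D) (ht : t * t = 1)
    (ht1 : t ≠ 1) (htM : t ∈ M D h.conj a) :
    ∃ x ∈ D, Conn D a x ∧ t * x = x * t ∧
      (∀ e ∈ D, Conn D a e → e * t = t * e → e * x = x * e) ∧
      ∃ e ∈ D, ∃ f ∈ D, Conn D a e ∧ Conn D a f ∧ e * t = t * e ∧ f * t = t * f ∧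
        e * f ≠ f * e := by
  obtain ⟨b, hb, hab, htb⟩ := h.exists_comm ha ht htM
  obtain ⟨d, hd, hdA⟩ := h.exists_mem
  obtain ⟨k, hk⟩ := h.trans d hd b hb
  obtain ⟨c, hcd, hcA⟩ := h.into d hd hdA (k⁻¹ * t * k) (by
    calc k⁻¹ * t * k * (k⁻¹ * t * k) = k⁻¹ * (t * t) * k := by group
      _ = 1 := by rw [ht]; group) (by
    have hd' : d = k⁻¹ * b * k := by rw [← hk]; group
    rw [hd']
    calc k⁻¹ * t * k * (k⁻¹ * b * k) = k⁻¹ * (t * b) * k := by group
      _ = k⁻¹ * (b * t) * k := by rw [htb]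
      _ = k⁻¹ * b * k * (k⁻¹ * t * k) := by group)
  -- k' = k * c⁻¹ maps d to b, and k'⁻¹ t k' ∈ A
  obtain ⟨k', hk'⟩ : ∃ k', k' = k * c⁻¹ := ⟨_, rfl⟩
  have hkd : k' * d * k'⁻¹ = b := by
    have h2 : c⁻¹ * d * c = d := by rw [mul_assoc, ← hcd]; group
    calc k' * d * k'⁻¹ = k * (c⁻¹ * d * c) * k⁻¹ := by rw [hk']; group
      _ = b := by rw [h2, hk]
  have hkt : k'⁻¹ * t * k' ∈ A := by
    have : k'⁻¹ * t * k' = c * (k⁻¹ * t * k) * c⁻¹ := by rw [hk']; group
    rw [this]; exact hcA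
  obtain ⟨s, hs⟩ : ∃ s, s = k'⁻¹ * t * k' := ⟨_, rfl⟩
  rw [← hs] at hkt
  have hts : t = k' * s * k'⁻¹ := by rw [hs]; group
  have hs1 : s ≠ 1 := by
    intro h1
    apply ht1
    rw [hts, h1]; group
  obtain ⟨x, hx, hxA, y, hy, hyA, z, hz, hzA, hxy, hxz, _, hxyz⟩ := h.gen3 s hkt hs1
  obtain ⟨e, he, f, hf, hef, hex, hey, hez, hfx, hfy, hfz⟩ := h.noncomm x hx hxA y hy hyA z hz hzA
  -- everything lies in the component of `b`
  have hbx : ∀ w ∈ D, Conn D d w → Conn D a (k' * w * k'⁻¹) := by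
    intro w _ hdw
    have := hdw.conj h.conj k'
    rw [hkd] at this
    exact hab.trans this
  have hdx : Conn D d x := h.conn_of_mem hd hdA hx hxA
  have hde : Conn D d e := hdx.trans (Conn.of_comm hx he hex.symm)
  have hdf : Conn D d f := hdx.trans (Conn.of_comm hx hf hfx.symm)
  have hcomm : ∀ w v : G, w * v = v * w →
      (k' * w * k'⁻¹) * (k' * v * k'⁻¹) = (k' * v * k'⁻¹) * (k' * w * k'⁻¹) := by
    intro w v hwv
    calc (k' * w * k'⁻¹) * (k' * v * k'⁻¹) = k' * (w * v) * k'⁻¹ := by group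
      _ = k' * (v * w) * k'⁻¹ := by rw [hwv]
      _ = (k' * v * k'⁻¹) * (k' * w * k'⁻¹) := by group
  have hes : e * s = s * e := by
    have hc1 : Commute e x := hex
    have hc2 : Commute e y := hey
    have hc3 : Commute e z := hez
    rcases hxyz with h1 | h1 | h1
    · rw [h1]; exact hc1
    · rw [h1]; exact hc1.mul_right hc2
    · rw [h1]; exact (hc1.mul_right hc2).mul_right hc3
  have hfs : f * s = s * f := by
    have hc1 : Commute f x := hfx
    have hc2 : Commute f y := hfy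
    have hc3 : Commute f z := hfz
    rcases hxyz with h1 | h1 | h1
    · rw [h1]; exact hc1
    · rw [h1]; exact hc1.mul_right hc2
    · rw [h1]; exact (hc1.mul_right hc2).mul_right hc3
  refine ⟨k' * x * k'⁻¹, h.conj k' x hx, hbx x hx hdx, ?_, ?_, k' * e * k'⁻¹, h.conj k' e he,
    k' * f * k'⁻¹, h.conj k' f hf, hbx e he hde, hbx f hf hdf, ?_, ?_, ?_⟩
  · rw [hts]; exact hcomm s x (h.comm s hkt x hxA)
  · intro w hw haw hwt
    -- pull back to `w' = k'⁻¹ w k'`
    obtain ⟨v, hv⟩ : ∃ v, v = k'⁻¹ * w * k' := ⟨_, rfl⟩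
    have hwv : w = k' * v * k'⁻¹ := by rw [hv]; group
    have hvD : v ∈ D := by
      have := h.conj k'⁻¹ w hw
      rw [inv_inv] at this
      rw [hv]; exact this
    have hvs : v * s = s * v := by
      rw [hv, hs]
      calc k'⁻¹ * w * k' * (k'⁻¹ * t * k') = k'⁻¹ * (w * t) * k' := by group
        _ = k'⁻¹ * (t * w) * k' := by rw [hwt]
        _ = k'⁻¹ * t * k' * (k'⁻¹ * w * k') := by group
    have hdv : Conn D d v := by
      have h1 : Conn D b w := hab.symm.trans haw
      have h2 := h1.conj h.conj k'⁻¹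
      have e1 : k'⁻¹ * b * k'⁻¹⁻¹ = d := by rw [← hkd]; group
      have e2 : k'⁻¹ * w * k'⁻¹⁻¹ = v := by rw [hv, inv_inv]
      rw [e1, e2] at h2
      exact h2
    have t1 : ∀ w' ∈ D, w' ∈ A → v * w' = w' * v ∨ (w' * v) ^ 3 = 1 := by
      intro w' hw' hw'A
      rcases h.three w' hw' v hvD ((h.conn_of_mem hw' hw'A hd hdA).trans hdv) with h1 | h1
      · left; exact h1.symm
      · right; exact h1
    rw [hwv]
    refine hcomm v x ?_
    have hxx := h.sq x hx
    have hyy := h.sq y hy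
    have hzz := h.sq z hz
    have hvv := h.sq v hvD
    have cxy := h.comm x hxA y hyA
    have cyz := h.comm y hyA z hzA
    have cxz := h.comm x hxA z hzA
    rcases hxyz with h1 | h1 | h1
    · rw [← h1]; exact hvs
    · rw [h1] at hvs
      exact comm_of_comm_two hxx hyy hvv cxy hxy (t1 x hx hxA) (t1 y hy hyA) hvs
    · rw [h1] at hvs
      -- v commutes with x*y*z
      rcases t1 z hz hzA with hvz | hvz
      · -- v commutes with z hence with x * y
        have h2 : v * (x * y) = x * y * v := by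
          have h3 : v * (x * y) * z = x * y * v * z := by
            calc v * (x * y) * z = v * (x * y * z) := by group
              _ = x * y * z * v := hvs
              _ = x * y * (z * v) := by group
              _ = x * y * (v * z) := by rw [hvz]
              _ = x * y * v * z := by group
          exact mul_right_cancel h3
        exact comm_of_comm_two hxx hyy hvv cxy hxy (t1 x hx hxA) (t1 y hy hyA) h2
      · rcases t1 x hx hxA with hvx | hvx
        · exact hvx
        · rcases t1 y hy hyA with hvy | hvy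
          · -- v commutes with y, hence with x * z; if x ≠ z done, otherwise t = y
            have h2 : v * (x * z) = x * z * v := by
              have h3 : v * (x * z) * y = x * z * v * y := by
                calc v * (x * z) * y = v * (x * (z * y)) := by group
                  _ = v * (x * (y * z)) := by rw [cyz]
                  _ = v * (x * y * z) := by group
                  _ = x * y * z * v := hvs
                  _ = x * (y * z) * v := by group
                  _ = x * (z * y) * v := by rw [cyz]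
                  _ = x * z * (y * v) := by group
                  _ = x * z * (v * y) := by rw [hvy]
                  _ = x * z * v * y := by group
              exact mul_right_cancel h3
            exact comm_of_comm_two hxx hzz hvv cxz hxz (t1 x hx hxA) (t1 z hz hzA) h2
          · -- none
            have := not_three hxx hyy hzz hvv cxy cyz cxz hvx hvy hvz hvs
            rw [this]; exact cxy.symm
  · rw [hts]; exact hcomm e s hes
  · rw [hts]; exact hcomm f s hfs
  · intro h1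
    apply hef
    have h2 : k' * (e * f) * k'⁻¹ = k' * (f * e) * k'⁻¹ := by
      calc k' * (e * f) * k'⁻¹ = (k' * e * k'⁻¹) * (k' * f * k'⁻¹) := by group
        _ = (k' * f * k'⁻¹) * (k' * e * k'⁻¹) := h1
        _ = k' * (f * e) * k'⁻¹ := by group
    exact mul_left_cancel (mul_right_cancel h2)

/-- No involution normalises two different components. -/
theorem Hyp.not_both [Finite G] (hZ : ZStar.{u}) (h : Hyp D A) {a a' t : G} (ha : a ∈ D)
    (ha' : a' ∈ D) (hn : ¬ Conn D a a') (ht : t * t = 1) (ht1 : t ≠ 1) (htM : t ∈ M D h.conj a)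
    (htM' : t ∈ M D h.conj a') : False := by
  obtain ⟨x, hx, hax, htx, huniv, e, he, f, hf, hae, haf, het, hft, hef⟩ :=
    h.exists_universal ha ht ht1 htM
  obtain ⟨b, hb, hab, htb⟩ := h.exists_comm ha' ht htM'
  have hxb : ¬ Conn D x b := fun h1 => hn (hax.trans (h1.trans hab.symm))
  have heb : ¬ Conn D e b := fun h1 => hn (hae.trans (h1.trans hab.symm))
  obtain ⟨g, hg, hg2⟩ := exists_of_odd (h.sq x hx) (h.sq b hb) (h.odd_of_not_conn hZ hx hb hxb)
  obtain ⟨g', hg', hg2'⟩ := exists_of_odd (h.sq e he) (h.sq b hb) (h.odd_of_not_conn hZ he hb heb)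
  have ctg : t * g = g * t := hg2 t htx htb
  have ctg' : t * g' = g' * t := hg2' t het.symm htb
  -- k = g'⁻¹ g maps x to e and commutes with t
  obtain ⟨k, hk⟩ : ∃ k, k = g'⁻¹ * g := ⟨_, rfl⟩
  have hkx : k * x * k⁻¹ = e := by
    rw [hk]
    calc g'⁻¹ * g * x * (g'⁻¹ * g)⁻¹ = g'⁻¹ * (g * x * g⁻¹) * g' := by group
      _ = g'⁻¹ * (g' * e * g'⁻¹) * g' := by rw [hg, hg']
      _ = e := by group
  have ckt : Commute t k := by
    rw [hk]
    exact (Commute.inv_right (show Commute t g' from ctg')).mul_right (show Commute t g from ctg)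
  have hkM : k ∈ M D h.conj a := mem_M_of_conj_eq h.conj hax hae hkx
  -- f' = k⁻¹ f k commutes with t and lies in the component, so commutes with x; so f commutes with e
  have hf'D : k⁻¹ * f * k ∈ D := by
    have := h.conj k⁻¹ f hf
    rwa [inv_inv] at this
  have hf'a : Conn D a (k⁻¹ * f * k) := by
    have h1 : Conn D a (k⁻¹ * a * k⁻¹⁻¹) := (M D h.conj a).inv_mem hkM
    have h2 := haf.conj h.conj k⁻¹
    have h3 := h1.trans h2
    rwa [inv_inv] at h3
  have hf't : k⁻¹ * f * k * t = t * (k⁻¹ * f * k) := by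
    have h1 : Commute (k⁻¹ * f * k) t :=
      ((ckt.symm.inv_left).mul_left (show Commute f t from hft)).mul_left ckt.symm
    exact h1
  have h4 := huniv _ hf'D hf'a hf't
  apply hef
  have h5 : k * (k⁻¹ * f * k * x) * k⁻¹ = k * (x * (k⁻¹ * f * k)) * k⁻¹ := by rw [h4]
  have h6 : k * (k⁻¹ * f * k * x) * k⁻¹ = f * (k * x * k⁻¹) := by group
  have h7 : k * (x * (k⁻¹ * f * k)) * k⁻¹ = (k * x * k⁻¹) * f := by group
  rw [h6, h7, hkx] at h5
  exact h5.symm

/-- **The closing theorem**: the commuting graph on `D` is connected. -/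
theorem Hyp.conn [Finite G] (hZ : ZStar.{u}) (h : Hyp D A) (hA : ∃ x ∈ D, x ∈ A ∧ ∃ y ∈ D, y ∈ A ∧ x ≠ y)
    {a b : G} (ha : a ∈ D) (hb : b ∈ D) : Conn D a b := by
  obtain ⟨x, hx, hxA, y, hy, hyA, hxy⟩ := hA
  -- it is enough to connect everything with `x`
  have key : ∀ v ∈ D, Conn D x v := by
    intro v hv
    by_contra hn
    have hcxy := h.comm x hxA y hyA
    have hzM : x * y ∈ M D h.conj x := h.le_M hxA (A.mul_mem hxA hyA)
    have hzz : (x * y) * (x * y) = 1 := h.sqA _ (A.mul_mem hxA hyA)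
    have hvv := h.sq v hv
    have hzD : x * y ∉ D := h.notMem x hx y hy hxy hcxy
    rcases Nat.even_or_odd (orderOf (x * y * v)) with he | ho
    · obtain ⟨w, hw1, hww, hwz, hwv, _⟩ := exists_of_even hzz hvv he (orderOf_pos _).ne'
      have h1 : w ∈ M D h.conj x := h.mem_M_of_comm_mul hZ hx hy hcxy hxy hwz
      have h2 : w ∈ M D h.conj v := mem_M_of_comm h.conj hwv
      exact h.not_both hZ hx hv hn hww hw1 h1 h2
    · obtain ⟨g, hg, _⟩ := exists_of_odd hzz hvv ho
      apply hzD
      have h1 : x * y = g⁻¹ * v * g⁻¹⁻¹ := by rw [← hg]; group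
      rw [h1]
      exact h.conj g⁻¹ v hv
  exact (key a ha).symm.trans (key b hb)

theorem Hyp.M_eq_top [Finite G] (hZ : ZStar.{u}) (h : Hyp D A)
    (hA : ∃ x ∈ D, x ∈ A ∧ ∃ y ∈ D, y ∈ A ∧ x ≠ y) {a : G} (ha : a ∈ D) : M D h.conj a = ⊤ := by
  rw [eq_top_iff]
  intro g _
  rw [mem_M]
  exact h.conn hZ hA ha (h.conj g a ha)

end main

end Cfsg.Agent.R01.Closing
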