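import Cfsg.Agent.R01.Label
import Cfsg.Agent.R01.Start
import Cfsg.Agent.R01.Loc
import Cfsg.Agent.R01.InvForm
import Cfsg.Agent.R01.Squares
import Cfsg.Agent.R01.Closing2
set_option linter.all false

/-!
# From the labelling of the centralisers to the hypotheses of the closing theorem (S1713)
-/

set_option autoImplicit false
set_option linter.unusedSectionVars false

namespace Cfsg.Agent.R01.AllOfLab

open Cfsg Cfsg.Agent.LieClassical.HermBasic Cfsg.Agent.ClassicalGeometry.UnitTransv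
open Cfsg.Agent.SporadicStructure.UnitTwo
open Cfsg.Agent.R01.Lifts Cfsg.Agent.R01.PSUSix Cfsg.Agent.R01.Label Cfsg.Agent.R01.Start
open Cfsg.Agent.R01.Closing Cfsg.Agent.R01.Closing2 Cfsg.Agent.R01.InvForm

section Field

variable {F : Type*} [Field F] [Fintype F]

theorem herm6 (a0 a1 a2 a3 a4 a5 b0 b1 b2 b3 b4 b5 : F) :
    hermForm 6 F 2 ![a0, a1, a2, a3, a4, a5] ![b0, b1, b2, b3, b4, b5] =
      a0 * b0 ^ 2 + a1 * b1 ^ 2 + a2 * b2 ^ 2 + a3 * b3 ^ 2 + a4 * b4 ^ 2 + a5 * b5 ^ 2 := by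
  simp only [hermForm, Fin.sum_univ_six]
  rfl

theorem two_eq_zero' (hF : Fintype.card F = 2 ^ 2) : (2 : F) = 0 := by
  have h1 : ((Fintype.card F : ℕ) : F) = 0 := Nat.cast_card_eq_zero F
  rw [hF] at h1
  have h2 : (2 : F) * 2 = 0 := by
    have : ((2 ^ 2 : ℕ) : F) = 2 * 2 := by norm_num
    rw [← this]; exact h1
  rcases mul_eq_zero.mp h2 with h | h <;> exact h

end Field

section CLevel

variable {C : Type*} [Group C] {F : Type*} [Field F] [Fintype F]
  {hF : Fintype.card F = 2 ^ 2} {π : C →* PSU 6 F 2} {z ε : C} {lift : (Fin 6 → F) → C}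

/-- Explicit configurations around a commuting pair. -/
theorem config (L : Lab hF π z ε lift) {b c : C} (hb : b ∈ Dset lift) (hc : c ∈ Dset lift)
    (hne : b ≠ c) (hbc : Commute b c) :
    (∃ x ∈ Dset lift, ¬ Commute x b ∧ Commute x c) ∧
    (∃ x ∈ Dset lift, ¬ Commute x b ∧ ¬ Commute x c) ∧
    (∃ e ∈ Dset lift, ∃ f ∈ Dset lift, ¬ Commute e f ∧ Commute e b ∧ Commute e c ∧ Commute f b ∧
      Commute f c) := by
  obtain ⟨ω, hω⟩ := exists_omega hF
  have h2 := two_eq_zero' hF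
  have hω0 : ω ≠ 0 := by
    rintro rfl
    simp at hω
  have hω1 : 1 + ω ≠ 0 := by
    intro h
    have : ω ^ 2 = 0 := by linear_combination hω - h
    exact hω0 (pow_eq_zero_iff (two_ne_zero) |>.mp this)
  have hω3 : ω * ω ^ 2 = 1 := by linear_combination (ω - 1) * hω
  set v : Fin 6 → F := ![1, 1, 0, 0, 0, 0] with hv
  set w : Fin 6 → F := ![0, 0, 1, 1, 0, 0] with hw
  set x1 : Fin 6 → F := ![1, ω, 0, 0, 0, 0] with hx1
  set x2 : Fin 6 → F := ![1, ω, 1, ω, 0, 0] with hx2
  set e : Fin 6 → F := ![0, 0, 0, 0, 1, 1] with he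
  set f : Fin 6 → F := ![0, 0, 0, 0, 1, ω] with hf
  have v0 : v ≠ 0 := fun h => one_ne_zero (congrFun h 0)
  have w0 : w ≠ 0 := fun h => one_ne_zero (congrFun h 2)
  have x10 : x1 ≠ 0 := fun h => one_ne_zero (congrFun h 0)
  have x20 : x2 ≠ 0 := fun h => one_ne_zero (congrFun h 0)
  have e0 : e ≠ 0 := fun h => one_ne_zero (congrFun h 4)
  have f0 : f ≠ 0 := fun h => one_ne_zero (congrFun h 4)
  have vv : hermForm 6 F 2 v v = 0 := by rw [hv, herm6]; linear_combination h2
  have ww : hermForm 6 F 2 w w = 0 := by rw [hw, herm6]; linear_combination h2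
  have vw : hermForm 6 F 2 v w = 0 := by rw [hv, hw, herm6]; ring
  have x1x1 : hermForm 6 F 2 x1 x1 = 0 := by rw [hx1, herm6]; linear_combination h2 + hω3
  have x2x2 : hermForm 6 F 2 x2 x2 = 0 := by rw [hx2, herm6]; linear_combination 2 * h2 + 2 * hω3
  have ee : hermForm 6 F 2 e e = 0 := by rw [he, herm6]; linear_combination h2
  have ff : hermForm 6 F 2 f f = 0 := by rw [hf, herm6]; linear_combination h2 + hω3
  have x1v : hermForm 6 F 2 x1 v ≠ 0 := by
    rw [hx1, hv, herm6]; intro h; apply hω1; linear_combination h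
  have x1w : hermForm 6 F 2 x1 w = 0 := by rw [hx1, hw, herm6]; ring
  have x2v : hermForm 6 F 2 x2 v ≠ 0 := by
    rw [hx2, hv, herm6]; intro h; apply hω1; linear_combination h
  have x2w : hermForm 6 F 2 x2 w ≠ 0 := by
    rw [hx2, hw, herm6]; intro h; apply hω1; linear_combination h
  have ef : hermForm 6 F 2 e f ≠ 0 := by
    rw [he, hf, herm6]; intro h; apply hω0; linear_combination hω - h
  have ev : hermForm 6 F 2 e v = 0 := by rw [he, hv, herm6]; ring
  have ew : hermForm 6 F 2 e w = 0 := by rw [he, hw, herm6]; ring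
  have fv : hermForm 6 F 2 f v = 0 := by rw [hf, hv, herm6]; ring
  have fw : hermForm 6 F 2 f w = 0 := by rw [hf, hw, herm6]; ring
  have hvw : lift v ≠ lift w := by
    intro h
    rw [L.lift_eq_iff vv ww v0 w0] at h
    obtain ⟨c, _, hc⟩ := h
    have := congrFun hc 2
    simp [hv, hw] at this
  obtain ⟨g, hgb, hgc⟩ := L.trans_commuting (lift v) (Lab.mem_D v0 vv) (lift w) (Lab.mem_D w0 ww) b hb c hc
    hvw hne ((L.commute_iff vv ww v0 w0).mpr vw) hbc
  have key : ∀ a a' : C, Commute (g * a * g⁻¹) (g * a' * g⁻¹) ↔ Commute a a' := by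
    intro a a'
    constructor
    · intro h
      have h1 : (g * a * g⁻¹) * (g * a' * g⁻¹) = (g * a' * g⁻¹) * (g * a * g⁻¹) := h
      have h2 : g * (a * a') * g⁻¹ = g * (a' * a) * g⁻¹ := by
        calc g * (a * a') * g⁻¹ = (g * a * g⁻¹) * (g * a' * g⁻¹) := by group
          _ = (g * a' * g⁻¹) * (g * a * g⁻¹) := h1
          _ = g * (a' * a) * g⁻¹ := by group
      exact mul_left_cancel (mul_right_cancel h2)
    · intro h
      have h1 : a * a' = a' * a := h
      change (g * a * g⁻¹) * (g * a' * g⁻¹) = (g * a' * g⁻¹) * (g * a * g⁻¹)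
      calc (g * a * g⁻¹) * (g * a' * g⁻¹) = g * (a * a') * g⁻¹ := by group
        _ = g * (a' * a) * g⁻¹ := by rw [h1]
        _ = (g * a' * g⁻¹) * (g * a * g⁻¹) := by group
  rw [← hgb, ← hgc]
  refine ⟨⟨g * lift x1 * g⁻¹, L.conj_mem (Lab.mem_D x10 x1x1) g, ?_, ?_⟩,
    ⟨g * lift x2 * g⁻¹, L.conj_mem (Lab.mem_D x20 x2x2) g, ?_, ?_⟩,
    ⟨g * lift e * g⁻¹, L.conj_mem (Lab.mem_D e0 ee) g, g * lift f * g⁻¹,
      L.conj_mem (Lab.mem_D f0 ff) g, ?_, ?_, ?_, ?_, ?_⟩⟩
  · rw [key, L.commute_iff x1x1 vv x10 v0]; exact x1v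
  · rw [key, L.commute_iff x1x1 ww x10 w0]; exact x1w
  · rw [key, L.commute_iff x2x2 vv x20 v0]; exact x2v
  · rw [key, L.commute_iff x2x2 ww x20 w0]; exact x2w
  · rw [key, L.commute_iff ee ff e0 f0]; exact ef
  · rw [key, L.commute_iff ee vv e0 v0]; exact ev
  · rw [key, L.commute_iff ee ww e0 w0]; exact ew
  · rw [key, L.commute_iff ff vv f0 v0]; exact fv
  · rw [key, L.commute_iff ff ww f0 w0]; exact fw

/-- A member has a different commuting member. -/
theorem exists_commuting (L : Lab hF π z ε lift) {b : C} (hb : b ∈ Dset lift) :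
    ∃ c ∈ Dset lift, c ≠ b ∧ Commute b c := by
  have h2 := two_eq_zero' hF
  set v : Fin 6 → F := ![1, 1, 0, 0, 0, 0] with hv
  set w : Fin 6 → F := ![0, 0, 1, 1, 0, 0] with hw
  have v0 : v ≠ 0 := fun h => one_ne_zero (congrFun h 0)
  have w0 : w ≠ 0 := fun h => one_ne_zero (congrFun h 2)
  have vv : hermForm 6 F 2 v v = 0 := by rw [hv, herm6]; linear_combination h2
  have ww : hermForm 6 F 2 w w = 0 := by rw [hw, herm6]; linear_combination h2
  have vw : hermForm 6 F 2 v w = 0 := by rw [hv, hw, herm6]; ring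
  have hvw : lift v ≠ lift w := by
    intro h
    rw [L.lift_eq_iff vv ww v0 w0] at h
    obtain ⟨c, _, hc⟩ := h
    have := congrFun hc 2
    simp [hv, hw] at this
  obtain ⟨v', v'0, vv', rfl⟩ := hb
  obtain ⟨g, hg⟩ := L.trans vv vv' v0 v'0
  refine ⟨g * lift w * g⁻¹, L.conj_mem (Lab.mem_D w0 ww) g, ?_, ?_⟩
  · rw [← hg]
    intro h
    exact hvw (mul_left_cancel (mul_right_cancel h)).symm
  · rw [← hg]
    have h1 : lift v * lift w = lift w * lift v := (L.commute_iff vv ww v0 w0).mpr vw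
    change g * lift v * g⁻¹ * (g * lift w * g⁻¹) = g * lift w * g⁻¹ * (g * lift v * g⁻¹)
    calc g * lift v * g⁻¹ * (g * lift w * g⁻¹) = g * (lift v * lift w) * g⁻¹ := by group
      _ = g * (lift w * lift v) * g⁻¹ := by rw [h1]
      _ = g * lift w * g⁻¹ * (g * lift v * g⁻¹) := by group

/-- `Dset` is not empty. -/
theorem exists_mem (_ : Lab hF π z ε lift) : ∃ b, b ∈ Dset lift := by
  have h2 := two_eq_zero' hF
  refine ⟨lift ![1, 1, 0, 0, 0, 0], Lab.mem_D (fun h => one_ne_zero (congrFun h 0)) ?_⟩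
  rw [herm6]; linear_combination h2

/-- The Baer relation: the seven lifts over some Baer subplane of a t.i. plane have product one. -/
def HasBaer {C : Type*} [Group C] (lift : (Fin 6 → F) → C) : Prop :=
  ∃ u v w : Fin 6 → F, Fr3 u v w ∧
    lift u * lift v * lift w * lift (u + v) * lift (u + w) * lift (v + w) * lift (u + v + w) = 1

/-- The seven nonzero combinations of three vectors over the prime field. -/
def seven (u v w : Fin 6 → F) : List (Fin 6 → F) :=
  [u, v, w, u + v, u + w, v + w, u + v + w]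

theorem seven_ne_zero {u v w : Fin 6 → F} (h : Fr3 u v w) : ∀ x ∈ seven u v w, x ≠ 0 := by
  have key : ∀ a b c : F, a • u + b • v + c • w = 0 → a = 0 ∧ b = 0 ∧ c = 0 := h.ind
  intro x hx h0
  simp only [seven, List.mem_cons, List.not_mem_nil, or_false] at hx
  rcases hx with rfl | rfl | rfl | rfl | rfl | rfl | rfl
  · exact one_ne_zero (key 1 0 0 (by rw [h0]; simp)).1
  · exact one_ne_zero (key 0 1 0 (by rw [h0]; simp)).2.1
  · exact one_ne_zero (key 0 0 1 (by rw [h0]; simp)).2.2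
  · exact one_ne_zero (key 1 1 0 (by rw [← h0]; simp)).1
  · exact one_ne_zero (key 1 0 1 (by rw [← h0]; simp)).1
  · exact one_ne_zero (key 0 1 1 (by rw [← h0]; simp)).2.1
  · exact one_ne_zero (key 1 1 1 (by rw [← h0]; simp)).1

theorem seven_perp (hF : Fintype.card F = 2 ^ 2) {u v w : Fin 6 → F} (h : Fr3 u v w) :
    ∀ x ∈ seven u v w, ∀ y ∈ seven u v w, hermForm 6 F 2 x y = 0 := by
  have h1 := h.rot hF
  have h2 := h1.rot hF
  have huu := h.uu
  have hvv := h.vv
  have hww := h.ww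
  have huv := h.uv
  have huw := h.uw
  have hvw := h.vw
  have hvu := h1.uw
  have hwv := h2.uw
  have hwu := h1.vw
  intro x hx y hy
  simp only [seven, List.mem_cons, List.not_mem_nil, or_false] at hx hy
  rcases hx with rfl | rfl | rfl | rfl | rfl | rfl | rfl <;>
  rcases hy with rfl | rfl | rfl | rfl | rfl | rfl | rfl <;>
  simp [herm_add_left, herm_add_right hF, huu, hvv, hww, huv, huw, hvw, hvu, hwu, hwv]

/-- The odd relation, conjugated so that it contains a given member. -/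
theorem exists_odd_list (L : Lab hF π z ε lift) (hB : HasBaer lift) {b : C}
    (hb : b ∈ Dset lift) : ∃ l : List C, Odd l.length ∧ (∀ x ∈ l, x ∈ Dset lift) ∧
      (∀ x ∈ l, ∀ y ∈ l, x * y = y * x) ∧ (∀ x ∈ l, x * b = b * x) ∧ l.prod = 1 := by
  obtain ⟨u, v, w, hfr, hprod⟩ := hB
  obtain ⟨v', v'0, vv', rfl⟩ := hb
  obtain ⟨g, hg⟩ := L.trans hfr.uu vv' hfr.u_ne v'0
  have hmem : ∀ x ∈ seven u v w, hermForm 6 F 2 x x = 0 := fun x hx =>
    seven_perp hF hfr x hx x hx
  have hu : u ∈ seven u v w := by simp [seven]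
  have hcomm : ∀ x ∈ seven u v w, ∀ y ∈ seven u v w,
      g * lift x * g⁻¹ * (g * lift y * g⁻¹) = g * lift y * g⁻¹ * (g * lift x * g⁻¹) := by
    intro x hx y hy
    have h1 : lift x * lift y = lift y * lift x :=
      (L.commute_iff (hmem x hx) (hmem y hy) (seven_ne_zero hfr x hx)
        (seven_ne_zero hfr y hy)).mpr (seven_perp hF hfr x hx y hy)
    calc g * lift x * g⁻¹ * (g * lift y * g⁻¹) = g * (lift x * lift y) * g⁻¹ := by group
      _ = g * (lift y * lift x) * g⁻¹ := by rw [h1]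
      _ = g * lift y * g⁻¹ * (g * lift x * g⁻¹) := by group
  refine ⟨(seven u v w).map (fun x => g * lift x * g⁻¹), ?_, ?_, ?_, ?_, ?_⟩
  · rw [List.length_map]
    exact ⟨3, rfl⟩
  · intro x hx
    rw [List.mem_map] at hx
    obtain ⟨y, hy, rfl⟩ := hx
    exact L.conj_mem (Lab.mem_D (seven_ne_zero hfr y hy) (hmem y hy)) g
  · intro x hx y hy
    rw [List.mem_map] at hx hy
    obtain ⟨x, hx, rfl⟩ := hx
    obtain ⟨y, hy, rfl⟩ := hy
    exact hcomm x hx y hy
  · intro x hx
    rw [List.mem_map] at hx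
    obtain ⟨x, hx, rfl⟩ := hx
    rw [← hg]
    exact hcomm x hx u hu
  · simp only [seven, List.map_cons, List.map_nil, List.prod_cons, List.prod_nil, mul_one]
    calc g * lift u * g⁻¹ * (g * lift v * g⁻¹ * (g * lift w * g⁻¹ * (g * lift (u + v) * g⁻¹ *
          (g * lift (u + w) * g⁻¹ * (g * lift (v + w) * g⁻¹ * (g * lift (u + v + w) * g⁻¹))))))
        = g * (lift u * lift v * lift w * lift (u + v) * lift (u + w) * lift (v + w) *
          lift (u + v + w)) * g⁻¹ := by group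
      _ = 1 := by rw [hprod]; group

theorem Fr3.comb (hF : Fintype.card F = 2 ^ 2) {u v w : Fin 6 → F} (h : Fr3 u v w)
    (a b c a' b' c' : F) :
    hermForm 6 F 2 (a • u + b • v + c • w) (a' • u + b' • v + c' • w) = 0 := by
  have h1 := h.rot hF
  have h2 := h1.rot hF
  simp [herm_add_left, herm_add_right hF, herm_smul_left, herm_smul_right, h.uu, h.vv, h.ww, h.uv,
    h.uw, h.vw, h1.uw, h2.uw, h1.vw]

/-- The two frames in a Baer subplane relation. -/
theorem frames (hF : Fintype.card F = 2 ^ 2) {u v w : Fin 6 → F} (h : Fr3 u v w) {ω : F}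
    (hω : ω ^ 2 + ω + 1 = 0) :
    Fr3 u v (u + w) ∧ Fr3 (v + w) (ω • (u + v) + w) (ω ^ 2 • (u + v) + w) := by
  have h2 := two_eq_zero' hF
  have e1 : u = (1 : F) • u + (0 : F) • v + (0 : F) • w := by module
  have e2 : v = (0 : F) • u + (1 : F) • v + (0 : F) • w := by module
  have e3 : u + w = (1 : F) • u + (0 : F) • v + (1 : F) • w := by module
  have e4 : v + w = (0 : F) • u + (1 : F) • v + (1 : F) • w := by module
  have e5 : ω • (u + v) + w = ω • u + ω • v + (1 : F) • w := by module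
  have e6 : ω ^ 2 • (u + v) + w = ω ^ 2 • u + ω ^ 2 • v + (1 : F) • w := by module
  have h6 : ω ≠ 0 := by
    rintro rfl
    simp at hω
  constructor
  · refine ⟨h.uu, h.vv, ?_, h.uv, ?_, ?_, fun a b c habc => ?_⟩
    · have := Fr3.comb hF h 1 0 1 1 0 1
      rwa [← e3] at this
    · have := Fr3.comb hF h 1 0 0 1 0 1
      rwa [← e3, ← e1] at this
    · have := Fr3.comb hF h 0 1 0 1 0 1
      rwa [← e3, ← e2] at this
    · have := h.ind (a + c) b c (by rw [← habc]; module)
      refine ⟨?_, this.2.1, this.2.2⟩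
      linear_combination this.1 - this.2.2
  · refine ⟨?_, ?_, ?_, ?_, ?_, ?_, fun a b c habc => ?_⟩
    · have := Fr3.comb hF h 0 1 1 0 1 1
      rwa [← e4] at this
    · have := Fr3.comb hF h ω ω 1 ω ω 1
      rwa [← e5] at this
    · have := Fr3.comb hF h (ω ^ 2) (ω ^ 2) 1 (ω ^ 2) (ω ^ 2) 1
      rwa [← e6] at this
    · have := Fr3.comb hF h 0 1 1 ω ω 1
      rwa [← e4, ← e5] at this
    · have := Fr3.comb hF h 0 1 1 (ω ^ 2) (ω ^ 2) 1
      rwa [← e4, ← e6] at this
    · have := Fr3.comb hF h ω ω 1 (ω ^ 2) (ω ^ 2) 1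
      rwa [← e5, ← e6] at this
    · obtain ⟨k1, k2, k3⟩ := h.ind (b * ω + c * ω ^ 2) (a + b * ω + c * ω ^ 2) (a + b + c)
        (by rw [← habc]; module)
      have ha : a = 0 := by linear_combination k2 - k1
      have hb : b = c := by linear_combination k3 - ha - c * h2
      have hc : c = 0 := by
        rw [hb] at k1
        linear_combination c * hω - k1
      exact ⟨ha, by rw [hb, hc], hc⟩

theorem Fr3.lift_ne (L : Lab hF π z ε lift) {u v w : Fin 6 → F} (h : Fr3 u v w) :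
    lift u ≠ lift v ∧ lift u ≠ lift w ∧ lift v ≠ lift w := by
  refine ⟨?_, ?_, ?_⟩
  · intro h1
    rw [L.lift_eq_iff h.uu h.vv h.u_ne h.v_ne] at h1
    obtain ⟨c, hc, hcv⟩ := h1
    have := h.ind c 1 0 (by rw [hcv]; have := two_eq_zero' hF; linear_combination (norm := module) this • (c • u))
    exact hc this.1
  · intro h1
    rw [L.lift_eq_iff h.uu h.ww h.u_ne h.w_ne] at h1
    obtain ⟨c, hc, hcv⟩ := h1
    have := h.ind c 0 1 (by rw [hcv]; have := two_eq_zero' hF; linear_combination (norm := module) this • (c • u))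
    exact hc this.1
  · intro h1
    rw [L.lift_eq_iff h.vv h.ww h.v_ne h.w_ne] at h1
    obtain ⟨c, hc, hcv⟩ := h1
    have := h.ind 0 c 1 (by rw [hcv]; have := two_eq_zero' hF; linear_combination (norm := module) this • (c • v))
    exact hc this.2.1

theorem Fr3.lift_comm (L : Lab hF π z ε lift) {u v w : Fin 6 → F} (h : Fr3 u v w) :
    Commute (lift u) (lift v) ∧ Commute (lift u) (lift w) ∧ Commute (lift v) (lift w) :=
  ⟨(L.commute_iff h.uu h.vv h.u_ne h.v_ne).mpr h.uv, (L.commute_iff h.uu h.ww h.u_ne h.w_ne).mpr h.uw,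
    (L.commute_iff h.vv h.ww h.v_ne h.w_ne).mpr h.vw⟩

/-- The relation `L(u) L(v) L(u+w) = z L(v+w) L(p) L(q)`. -/
theorem quad (L : Lab hF π z z lift) {u v w : Fin 6 → F} (h : Fr3 u v w)
    (hprod : lift u * lift v * lift w * lift (u + v) * lift (u + w) * lift (v + w) *
      lift (u + v + w) = 1) {ω : F} (hω : ω ^ 2 + ω + 1 = 0) :
    z * (lift u * lift v * lift (u + w)) =
      lift (v + w) * lift (ω • (u + v) + w) * lift (ω ^ 2 • (u + v) + w) := by
  have h2 := two_eq_zero' hF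
  obtain ⟨F1, F2⟩ := frames hF h hω
  have h7 := seven_ne_zero h
  have h7p := seven_perp hF h
  have nuv : u + v ≠ 0 := h7 _ (by simp [seven])
  have nuvw : u + v + w ≠ 0 := h7 _ (by simp [seven])
  have iuv : hermForm 6 F 2 (u + v) (u + v) = 0 := h7p _ (by simp [seven]) _ (by simp [seven])
  have iuvw : hermForm 6 F 2 (u + v + w) (u + v + w) = 0 :=
    h7p _ (by simp [seven]) _ (by simp [seven])
  have puv : hermForm 6 F 2 (u + v) w = 0 := h7p _ (by simp [seven]) _ (by simp [seven])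
  have hline := L.line (u + v) w nuv h.w_ne iuv h.ww puv (by
    rintro ⟨c, hc⟩
    have := h.ind c c 1 (by rw [hc]; linear_combination (norm := module) h2 • (c • (u + v)))
    exact one_ne_zero this.2.2) ω hω
  -- commuting elements
  obtain ⟨H, _, φ, hφ, hs⟩ := Squares.exists_comm
    ({z, lift u, lift v, lift w, lift (u + v), lift (u + w), lift (v + w), lift (u + v + w),
      lift (ω • (u + v) + w), lift (ω ^ 2 • (u + v) + w)} : Set C) (by
    have e1 : u = (1 : F) • u + (0 : F) • v + (0 : F) • w := by module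
    have key : ∀ x ∈ ({z, lift u, lift v, lift w, lift (u + v), lift (u + w), lift (v + w),
        lift (u + v + w), lift (ω • (u + v) + w), lift (ω ^ 2 • (u + v) + w)} : Set C),
        x = z ∨ ∃ a b c : F, a • u + b • v + c • w ≠ 0 ∧ x = lift (a • u + b • v + c • w) := by
      intro x hx
      simp only [Set.mem_insert_iff, Set.mem_singleton_iff] at hx
      rcases hx with rfl | rfl | rfl | rfl | rfl | rfl | rfl | rfl | rfl | rfl
      · left; rfl
      · right; exact ⟨1, 0, 0, by simpa using h.u_ne, by simp⟩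
      · right; exact ⟨0, 1, 0, by simpa using h.v_ne, by simp⟩
      · right; exact ⟨0, 0, 1, by simpa using h.w_ne, by simp⟩
      · right; exact ⟨1, 1, 0, by simpa using nuv, by simp⟩
      · right; exact ⟨1, 0, 1, by simpa using F1.w_ne, by simp⟩
      · right; exact ⟨0, 1, 1, by simpa using F2.u_ne, by simp⟩
      · right; exact ⟨1, 1, 1, by simpa using nuvw, by simp⟩
      · right; exact ⟨ω, ω, 1, by simpa [smul_add] using F2.v_ne, by simp [smul_add]⟩
      · right; exact ⟨ω ^ 2, ω ^ 2, 1, by simpa [smul_add] using F2.w_ne, by simp [smul_add]⟩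
    intro x hx y hy
    rcases key x hx with rfl | ⟨a, b, c, hx0, rfl⟩
    · exact (L.ext.comm y).symm
    · rcases key y hy with rfl | ⟨a', b', c', hy0, rfl⟩
      · exact L.ext.comm _
      · exact (L.commute_iff (Fr3.comb hF h _ _ _ _ _ _) (Fr3.comb hF h _ _ _ _ _ _) hx0 hy0).mpr
          (Fr3.comb hF h _ _ _ _ _ _))
  obtain ⟨z', hz⟩ := hs z (by simp)
  obtain ⟨x1, hx1⟩ := hs (lift u) (by simp)
  obtain ⟨x2, hx2⟩ := hs (lift v) (by simp)
  obtain ⟨x3, hx3⟩ := hs (lift w) (by simp)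
  obtain ⟨x4, hx4⟩ := hs (lift (u + v)) (by simp)
  obtain ⟨x5, hx5⟩ := hs (lift (u + w)) (by simp)
  obtain ⟨x6, hx6⟩ := hs (lift (v + w)) (by simp)
  obtain ⟨x7, hx7⟩ := hs (lift (u + v + w)) (by simp)
  obtain ⟨x8, hx8⟩ := hs (lift (ω • (u + v) + w)) (by simp)
  obtain ⟨x9, hx9⟩ := hs (lift (ω ^ 2 • (u + v) + w)) (by simp)
  have q3 : x3 * x3 = 1 := hφ (by rw [map_mul, hx3, map_one]; exact L.sq w h.w_ne h.ww)
  have q4 : x4 * x4 = 1 := hφ (by rw [map_mul, hx4, map_one]; exact L.sq _ nuv iuv)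
  have q6 : x6 * x6 = 1 := hφ (by rw [map_mul, hx6, map_one]; exact L.sq _ F2.u_ne F2.uu)
  have q7 : x7 * x7 = 1 := hφ (by rw [map_mul, hx7, map_one]; exact L.sq _ nuvw iuvw)
  have qz : z' * z' = 1 := hφ (by rw [map_mul, hz, map_one]; exact L.ext.zz)
  have r1 : x1 * x2 * x3 * x4 * x5 * x6 * x7 = 1 := hφ (by
    simp only [map_mul, hx1, hx2, hx3, hx4, hx5, hx6, hx7, map_one]; exact hprod)
  have r2 : x4 * x3 * x7 * x8 * x9 = z' := hφ (by
    simp only [map_mul, hx3, hx4, hx7, hx8, hx9, hz]; exact hline)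
  have q8 : x8 * x8 = 1 := hφ (by rw [map_mul, hx8, map_one]; exact L.sq _ F2.v_ne F2.vv)
  have q9 : x9 * x9 = 1 := hφ (by rw [map_mul, hx9, map_one]; exact L.sq _ F2.w_ne F2.ww)
  have goal : z' * (x1 * x2 * x5) = x6 * x8 * x9 := by
    -- multiply out in the commutative group
    have s1 : (x1 * x2 * x5) * (x3 * x4 * x6 * x7) = 1 := by rw [← r1]; ac_rfl
    have s2 : (x3 * x4 * x7) * (x8 * x9) = z' := by rw [← r2]; ac_rfl
    have s3 : x1 * x2 * x5 = (x3 * x4 * x6 * x7)⁻¹ := eq_inv_of_mul_eq_one_left s1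
    have s4 : (x3 * x4 * x6 * x7) * (x3 * x4 * x6 * x7) = 1 := by
      have : (x3 * x4 * x6 * x7) * (x3 * x4 * x6 * x7) =
          (x3 * x3) * (x4 * x4) * (x6 * x6) * (x7 * x7) := by ac_rfl
      rw [this, q3, q4, q6, q7]; simp
    have s5 : (x3 * x4 * x6 * x7)⁻¹ = x3 * x4 * x6 * x7 := inv_eq_of_mul_eq_one_left s4
    rw [s3, s5, ← s2]
    have : x3 * x4 * x7 * (x8 * x9) * (x3 * x4 * x6 * x7) =
        (x3 * x3) * (x4 * x4) * (x7 * x7) * (x6 * x8 * x9) := by ac_rfl
    rw [this, q3, q4, q7]; simp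
  have := congrArg φ goal
  simp only [map_mul, hz, hx1, hx2, hx5, hx6, hx8, hx9] at this
  exact this

/-- `z` times a product over a frame is again a product over a frame. -/
theorem triple (L : Lab hF π z z lift) (hB : HasBaer lift) {u' v' w' : Fin 6 → F}
    (h' : Fr3 u' v' w') : ∃ x ∈ Dset lift, ∃ y ∈ Dset lift, ∃ t ∈ Dset lift, x ≠ y ∧ x ≠ t ∧
      y ≠ t ∧ Commute x y ∧ Commute x t ∧ Commute y t ∧
      z * (lift u' * lift v' * lift w') = x * y * t := by
  obtain ⟨ω, hω⟩ := exists_omega hF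
  obtain ⟨u, v, w, h, hprod⟩ := hB
  obtain ⟨F1, F2⟩ := frames hF h hω
  have hq := quad L h hprod hω
  obtain ⟨g, g1, g2, g3⟩ := InvForm.trans_frames L F1 h'
  obtain ⟨n1, n2, n3⟩ := Fr3.lift_ne L F2
  obtain ⟨c1, c2, c3⟩ := Fr3.lift_comm L F2
  have hconj : ∀ {a b : C}, Commute a b → Commute (g * a * g⁻¹) (g * b * g⁻¹) := by
    intro a b hab
    have h1 : a * b = b * a := hab
    change (g * a * g⁻¹) * (g * b * g⁻¹) = (g * b * g⁻¹) * (g * a * g⁻¹)
    calc (g * a * g⁻¹) * (g * b * g⁻¹) = g * (a * b) * g⁻¹ := by group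
      _ = g * (b * a) * g⁻¹ := by rw [h1]
      _ = (g * b * g⁻¹) * (g * a * g⁻¹) := by group
  have hne : ∀ {a b : C}, a ≠ b → g * a * g⁻¹ ≠ g * b * g⁻¹ := fun hab h1 =>
    hab (mul_left_cancel (mul_right_cancel h1))
  refine ⟨_, L.conj_mem (Lab.mem_D F2.u_ne F2.uu) g, _, L.conj_mem (Lab.mem_D F2.v_ne F2.vv) g, _,
    L.conj_mem (Lab.mem_D F2.w_ne F2.ww) g, hne n1, hne n2, hne n3, hconj c1, hconj c2, hconj c3,
    ?_⟩
  rw [← g1, ← g2, ← g3]
  have hzg : z * g = g * z := (L.ext.comm g).symm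
  calc z * (g * lift u * g⁻¹ * (g * lift v * g⁻¹) * (g * lift (u + w) * g⁻¹))
      = (z * g) * (lift u * lift v * lift (u + w)) * g⁻¹ := by group
    _ = g * (z * (lift u * lift v * lift (u + w))) * g⁻¹ := by rw [hzg]; group
    _ = g * (lift (v + w) * lift (ω • (u + v) + w) * lift (ω ^ 2 • (u + v) + w)) * g⁻¹ := by rw [hq]
    _ = _ := by group

end CLevel

section GLevel

variable {G : Type*} [Group G]

/-- The local hypotheses: every centraliser of a member `d` of `D` is labelled, and `D ∩ C_G(d)` is `d` together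
with the labelled elements; the Baer relation holds. -/
structure Loc (F : Type*) [Field F] [Fintype F] (hF : Fintype.card F = 2 ^ 2) (D : Set G) :
    Prop where
  sq : ∀ a ∈ D, a * a = 1
  ne : ∀ a ∈ D, a ≠ 1
  conj : ∀ g : G, ∀ a ∈ D, g * a * g⁻¹ ∈ D
  nonempty : ∃ d, d ∈ D
  lab : R01.Loc.Loc hF D
  baer : ∀ d ∈ D, ∀ (π : Subgroup.centralizer ({d} : Set G) →* PSU 6 F 2)
    (lift : (Fin 6 → F) → Subgroup.centralizer ({d} : Set G)),
    Lab hF π (zel d) (zel d) lift → HasBaer lift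

variable {F : Type*} [Field F] [Fintype F] {hF : Fintype.card F = 2 ^ 2} {D : Set G}

theorem comm_coe {d : G} {x y : Subgroup.centralizer ({d} : Set G)} :
    Commute x y ↔ (x : G) * y = y * x := by
  constructor
  · intro h
    exact congrArg Subtype.val h
  · intro h
    exact Subtype.ext h

theorem zel_comm {d : G} (x : Subgroup.centralizer ({d} : Set G)) : d * (x : G) = x * d :=
  (mem_cent.mp x.2).symm

/-- Members of `D` commuting with `d` and different from `d` are labelled. -/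
theorem mem_Dset_of {d : G}
    {lift : (Fin 6 → F) → Subgroup.centralizer ({d} : Set G)}
    (hiff : ∀ x : Subgroup.centralizer ({d} : Set G), (x : G) ∈ D ↔ x = zel d ∨ x ∈ Dset lift)
    {b : G} (hb : b ∈ D) (hbd : b * d = d * b) (hne : b ≠ d) :
    (⟨b, mem_cent.mpr hbd⟩ : Subgroup.centralizer ({d} : Set G)) ∈ Dset lift := by
  rcases (hiff ⟨b, mem_cent.mpr hbd⟩).mp hb with h | h
  · exact absurd (congrArg Subtype.val h) hne
  · exact h

theorem Loc.pair (h : Loc F hF D) : ∃ x ∈ D, ∃ y ∈ D, x ≠ y ∧ x * y = y * x := by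
  obtain ⟨d, hd⟩ := h.nonempty
  obtain ⟨π, lift, L, hiff⟩ := h.lab d hd
  obtain ⟨b, hb⟩ := exists_mem L
  refine ⟨d, hd, b, (hiff b).mpr (Or.inr hb), ?_, zel_comm b⟩
  intro h1
  have : b = zel d := Subtype.ext h1.symm
  rw [this] at hb
  exact L.z_notMem hb

theorem Loc.two (h : Loc F hF D) : ∀ a ∈ D, ∀ b ∈ D, a ≠ b → a * b = b * a → a * b ∉ D := by
  intro a ha b hb hne hab habD
  obtain ⟨π, lift, L, hiff⟩ := h.lab a ha
  have hb' := mem_Dset_of hiff hb hab.symm hne.symm
  have h1 : a * b ≠ a := fun h1 => h.ne b hb (mul_eq_left.mp h1)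
  have h2 : (a * b) * a = a * (a * b) := by rw [mul_assoc a b a, ← hab]
  have h3 := mem_Dset_of hiff habD h2 h1
  have h4 := L.mul_z_notMem hb'
  apply h4
  have h5 : (⟨a * b, mem_cent.mpr h2⟩ : Subgroup.centralizer ({a} : Set G)) =
      ⟨b, mem_cent.mpr hab.symm⟩ * zel a := Subtype.ext hab
  rw [← h5]
  exact h3

/-- Around three commuting members. -/
theorem Loc.config (h : Loc F hF D) {a b c : G} (ha : a ∈ D) (hb : b ∈ D) (hc : c ∈ D)
    (hab : a * b = b * a) (hac : a * c = c * a) (hbc : b * c = c * b) (nab : a ≠ b) (nac : a ≠ c)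
    (nbc : b ≠ c) :
    (∃ x ∈ D, x * a = a * x ∧ x * b ≠ b * x ∧ x * c = c * x) ∧
    (∃ x ∈ D, x * a = a * x ∧ x * b ≠ b * x ∧ x * c ≠ c * x) ∧
    (∃ e ∈ D, ∃ f ∈ D, e * f ≠ f * e ∧ e * a = a * e ∧ e * b = b * e ∧ e * c = c * e ∧
      f * a = a * f ∧ f * b = b * f ∧ f * c = c * f) := by
  obtain ⟨π, lift, L, hiff⟩ := h.lab a ha
  have hb' := mem_Dset_of hiff hb hab.symm nab.symm
  have hc' := mem_Dset_of hiff hc hac.symm nac.symm
  obtain ⟨⟨x1, hx1, n1, c1⟩, ⟨x2, hx2, n2, n3⟩, e, he, f, hf, nef, c2, c3, c4, c5⟩ :=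
    AllOfLab.config L hb' hc' (fun h1 => nbc (congrArg Subtype.val h1)) (Subtype.ext hbc)
  rw [comm_coe] at n1 c1 n2 n3 nef c2 c3 c4 c5
  exact ⟨⟨x1, (hiff x1).mpr (Or.inr hx1), (zel_comm x1).symm, n1, c1⟩,
    ⟨x2, (hiff x2).mpr (Or.inr hx2), (zel_comm x2).symm, n2, n3⟩,
    e, (hiff e).mpr (Or.inr he), f, (hiff f).mpr (Or.inr hf), nef, (zel_comm e).symm, c2, c3,
    (zel_comm f).symm, c4, c5⟩

theorem Loc.exists_third (h : Loc F hF D) {a b : G} (ha : a ∈ D) (hb : b ∈ D)
    (hab : a * b = b * a) (nab : a ≠ b) :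
    ∃ c ∈ D, c ≠ a ∧ c ≠ b ∧ a * c = c * a ∧ b * c = c * b := by
  obtain ⟨π, lift, L, hiff⟩ := h.lab a ha
  have hb' := mem_Dset_of hiff hb hab.symm nab.symm
  obtain ⟨c, hc, hcb, hbc⟩ := exists_commuting L hb'
  rw [comm_coe] at hbc
  refine ⟨c, (hiff c).mpr (Or.inr hc), ?_, ?_, zel_comm c, hbc⟩
  · intro h1
    have : c = zel a := Subtype.ext h1
    rw [this] at hc
    exact L.z_notMem hc
  · intro h1
    exact hcb (Subtype.ext h1)

/-- Members of `D` commuting with `d` commute or have product of order three. -/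
theorem Loc.three_local (h : Loc F hF D) {d a b : G} (hd : d ∈ D) (ha : a ∈ D) (hb : b ∈ D)
    (hda : a * d = d * a) (hdb : b * d = d * b) : a * b = b * a ∨ (a * b) ^ 3 = 1 := by
  obtain ⟨π, lift, L, hiff⟩ := h.lab d hd
  by_cases h1 : a = d
  · left; rw [h1]; rw [h1] at hda; exact hdb.symm
  by_cases h2 : b = d
  · left; rw [h2]; exact hda
  have ha' := mem_Dset_of hiff ha hda h1
  have hb' := mem_Dset_of hiff hb hdb h2
  by_cases h3 : a * b = b * a
  · left; exact h3
  right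
  rcases L.isThreeTranspositionClass.1.2 _ ha' _ hb' with h6 | h6
  · exfalso
    apply h3
    have h7 : (a * b) ^ 2 = 1 := congrArg Subtype.val h6
    have hai : a⁻¹ = a := inv_eq_of_mul_eq_one_left (h.sq a ha)
    have hbi : b⁻¹ = b := inv_eq_of_mul_eq_one_left (h.sq b hb)
    rw [pow_two] at h7
    have h8 : a * b = (a * b)⁻¹ := eq_inv_of_mul_eq_one_left h7
    rwa [mul_inv_rev, hai, hbi] at h8
  · exact congrArg Subtype.val h6

theorem Loc.prod (h : Loc F hF D) : ∀ a ∈ D, ∀ b ∈ D, ∀ c ∈ D, a ≠ b → a ≠ c → b ≠ c →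
    a * b = b * a → a * c = c * a → b * c = c * b → a * b * c ∉ D := by
  intro a ha b hb c hc nab nac nbc hab hac hbc hf
  obtain ⟨⟨x, hx, hxa, hxb, hxc⟩, _⟩ := h.config ha hb hc hab hac hbc nab nac nbc
  have haa := h.sq a ha
  have hbb := h.sq b hb
  have hcc := h.sq c hc
  have hxx := h.sq x hx
  obtain ⟨f, hfe⟩ : ∃ f, f = a * b * c := ⟨_, rfl⟩
  rw [← hfe] at hf
  have hff := h.sq f hf
  have hfa : f * a = a * f := by
    rw [hfe]
    calc a * b * c * a = a * b * (c * a) := by group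
      _ = a * b * (a * c) := by rw [hac]
      _ = a * (b * a) * c := by group
      _ = a * (a * b) * c := by rw [hab]
      _ = a * (a * b * c) := by group
  have hxb3 : (b * x) ^ 3 = 1 := by
    rcases h.three_local ha hb hx hab.symm hxa with h1 | h1
    · exact absurd h1.symm hxb
    · exact h1
  have b1 := braid hbb hxx hxb3
  -- `x` does not commute with `f`
  have e1 : f * x * f = b * x * b := by
    have c1 : Commute a x := hxa.symm
    have c2 : Commute c x := hxc.symm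
    have c3 : Commute a b := hab
    have c4 : Commute b c := hbc
    have c5 : Commute a c := hac
    rw [hfe]
    calc a * b * c * x * (a * b * c) = a * b * (c * x) * (a * b * c) := by group
      _ = a * b * (x * c) * (a * b * c) := by rw [c2.eq]
      _ = a * b * x * (c * (a * b)) * c := by group
      _ = a * b * x * (a * b * c) * c := by rw [((c5.mul_left c4).eq).symm]
      _ = a * b * x * (a * b) * (c * c) := by group
      _ = a * b * x * (b * a) := by rw [hcc, mul_one, c3.eq]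
      _ = a * (b * x * b * a) := by group
      _ = a * (a * (b * x * b)) := by
          rw [(((c3.mul_right c1).mul_right c3).eq).symm]
      _ = (a * a) * (b * x * b) := by group
      _ = b * x * b := by rw [haa, one_mul]
  have e2 : x * f * x = (a * c) * (x * b * x) := by
    have c1 : Commute a x := hxa.symm
    have c2 : Commute c x := hxc.symm
    have c4 : Commute b c := hbc
    rw [hfe]
    calc x * (a * b * c) * x = (x * a) * b * (c * x) := by group
      _ = (a * x) * b * (x * c) := by rw [c1.eq, c2.eq]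
      _ = a * ((x * b * x) * c) := by group
      _ = a * (c * (x * b * x)) := by
          rw [((c2.mul_right c4.symm).mul_right c2).eq]
      _ = (a * c) * (x * b * x) := by group
  rcases h.three_local ha hf hx hfa hxa with h1 | h1
  · -- commuting: then `x` commutes with `b`
    apply hxb
    have h2 : b * x * b = x := by
      rw [← e1, h1, mul_assoc, hff, mul_one]
    calc x * b = (b * x * b) * b := by rw [h2]
      _ = b * x * (b * b) := by group
      _ = b * x := by rw [hbb, mul_one]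
  · have b2 := braid hff hxx h1
    rw [e2, e1, ← b1] at b2
    have h3 : a * c = 1 := mul_eq_right.mp b2
    exact nac ((eq_inv_of_mul_eq_one_left h3).trans (inv_eq_of_mul_eq_one_left hcc))

theorem Loc.link (h : Loc F hF D) : ∀ a ∈ D, ∀ b ∈ D, a ≠ b → a * b = b * a →
    ∃ c ∈ D, Conn D a c ∧ c * a ≠ a * c ∧ c * b ≠ b * c := by
  intro a ha b hb nab hab
  obtain ⟨e, he, nea, neb, hae, hbe⟩ := h.exists_third ha hb hab nab
  obtain ⟨_, ⟨x, hx, hxe, hxa, hxb⟩, _⟩ := h.config he ha hb hae.symm hbe.symm hab nea neb nab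
  exact ⟨x, hx, (Conn.of_comm ha he hae).trans (Conn.of_comm he hx hxe.symm), hxa, hxb⟩

theorem Loc.perf (h : Loc F hF D) : ∀ d ∈ D,
    commutator (Subgroup.centralizer ({d} : Set G)) = ⊤ := by
  intro d hd
  obtain ⟨π, lift, L, _⟩ := h.lab d hd
  exact L.perf

/-- The odd relation. -/
theorem Loc.odd (h : Loc F hF D) : ∀ a ∈ D, ∀ b ∈ D, a ≠ b → a * b = b * a →
    ∃ l : List G, Odd l.length ∧ (∀ x ∈ l, x ∈ D) ∧ (∀ x ∈ l, ∀ y ∈ l, x * y = y * x) ∧
      (∀ x ∈ l, x * a = a * x) ∧ (∀ x ∈ l, x * b = b * x) ∧ l.prod = 1 := by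
  intro a ha b hb nab hab
  obtain ⟨π, lift, L, hiff⟩ := h.lab a ha
  have hb' := mem_Dset_of hiff hb hab.symm nab.symm
  obtain ⟨l, hodd, hlD, hlc, hlb, hprod⟩ := exists_odd_list L (h.baer a ha π lift L) hb'
  refine ⟨l.map (Subtype.val), ?_, ?_, ?_, ?_, ?_, ?_⟩
  · rw [List.length_map]; exact hodd
  · intro x hx
    obtain ⟨y, hy, rfl⟩ := List.mem_map.mp hx
    exact (hiff y).mpr (Or.inr (hlD y hy))
  · intro x hx y hy
    obtain ⟨x', hx', rfl⟩ := List.mem_map.mp hx
    obtain ⟨y', hy', rfl⟩ := List.mem_map.mp hy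
    exact congrArg Subtype.val (hlc x' hx' y' hy')
  · intro x hx
    obtain ⟨x', hx', rfl⟩ := List.mem_map.mp hx
    exact (zel_comm x').symm
  · intro x hx
    obtain ⟨x', hx', rfl⟩ := List.mem_map.mp hx
    exact congrArg Subtype.val (hlb x' hx')
  · have h1 : (l.map (Subtype.val)).prod = ((l.prod : Subgroup.centralizer ({a} : Set G)) : G) := by
      have := map_list_prod (Subgroup.centralizer ({a} : Set G)).subtype l
      simp
    rw [h1, hprod]; rfl

/-- Every involution centralising `d` is a product of at most three commuting members. -/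
theorem Loc.prod3' (h : Loc F hF D) {d : G} (hd : d ∈ D) {t : G} (ht : t * t = 1) (ht1 : t ≠ 1)
    (htd : t * d = d * t) : ∃ x ∈ D, ∃ y ∈ D, ∃ z ∈ D, x ≠ y ∧ x ≠ z ∧ y ≠ z ∧ x * y = y * x ∧
      x * z = z * x ∧ y * z = z * y ∧ d * x = x * d ∧ (t = x ∨ t = x * y ∨ t = x * y * z) := by
  obtain ⟨π, lift, L, hiff⟩ := h.lab d hd
  have hB := h.baer d hd π lift L
  have mem : ∀ x ∈ Dset lift, (x : G) ∈ D := fun x hx => (hiff x).mpr (Or.inr hx)
  have ne : ∀ x ∈ Dset lift, (x : G) ≠ d := by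
    intro x hx h1
    have : x = zel d := Subtype.ext h1
    rw [this] at hx
    exact L.z_notMem hx
  obtain ⟨c₀, h0, hform⟩ := inv_form L (c := ⟨t, mem_cent.mpr htd⟩) (Or.inl (Subtype.ext ht))
  have h0' : (c₀ : G) = 1 ∨ (c₀ : G) = d := by
    rcases h0 with rfl | rfl
    · left; rfl
    · right; rfl
  rcases hform with hc | ⟨u, hu0, huu, hc⟩ | ⟨u, v, hf, hc⟩ | ⟨u, v, w, hf, hc⟩
  · have hc' : t = (c₀ : G) := congrArg Subtype.val hc
    rcases h0' with h1 | h1
    · exact absurd (hc'.trans h1) ht1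
    · rw [h1] at hc'
      obtain ⟨b, hb⟩ := exists_mem L
      obtain ⟨c, hcD, hcb, hbc⟩ := exists_commuting L hb
      rw [comm_coe] at hbc
      exact ⟨d, hd, b, mem b hb, c, mem c hcD, (ne b hb).symm, (ne c hcD).symm,
        fun h2 => hcb (Subtype.ext h2.symm), zel_comm b, zel_comm c, hbc, rfl, Or.inl hc'⟩
  · have hc' : t = (c₀ : G) * lift u := congrArg Subtype.val hc
    have hb := Lab.mem_D hu0 huu (lift := lift)
    obtain ⟨c, hcD, hcb, hbc⟩ := exists_commuting L hb
    rw [comm_coe] at hbc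
    have nbc : (lift u : G) ≠ c := fun h2 => hcb (Subtype.ext h2.symm)
    rcases h0' with h1 | h1
    · rw [h1, one_mul] at hc'
      exact ⟨lift u, mem _ hb, d, hd, c, mem c hcD, ne _ hb, nbc, (ne c hcD).symm,
        (zel_comm _).symm, hbc, zel_comm c, zel_comm _, Or.inl hc'⟩
    · rw [h1] at hc'
      exact ⟨d, hd, lift u, mem _ hb, c, mem c hcD, (ne _ hb).symm, (ne c hcD).symm, nbc,
        zel_comm _, zel_comm c, hbc, rfl, Or.inr (Or.inl hc')⟩
  · have hc' : t = (c₀ : G) * (lift u * lift v) := congrArg Subtype.val hc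
    have hu := Lab.mem_D hf.u_ne hf.uu (lift := lift)
    have hv := Lab.mem_D hf.v_ne hf.vv (lift := lift)
    have huv := (L.commute_iff hf.uu hf.vv hf.u_ne hf.v_ne).mpr hf.uv
    rw [comm_coe] at huv
    have nuv : (lift u : G) ≠ lift v := by
      intro h2
      have h3 : lift u = lift v := Subtype.ext h2
      rw [L.lift_eq_iff hf.uu hf.vv hf.u_ne hf.v_ne] at h3
      obtain ⟨c, _, hcv⟩ := h3
      exact hf.not_mul ⟨c, hcv⟩
    rcases h0' with h1 | h1
    · rw [h1, one_mul] at hc'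
      exact ⟨lift u, mem _ hu, lift v, mem _ hv, d, hd, nuv, ne _ hu, ne _ hv, huv,
        (zel_comm _).symm, (zel_comm _).symm, zel_comm _, Or.inr (Or.inl hc')⟩
    · rw [h1, ← mul_assoc] at hc'
      exact ⟨d, hd, lift u, mem _ hu, lift v, mem _ hv, (ne _ hu).symm, (ne _ hv).symm, nuv,
        zel_comm _, zel_comm _, huv, rfl, Or.inr (Or.inr hc')⟩
  · have hc' : t = (c₀ : G) * (lift u * lift v * lift w) := congrArg Subtype.val hc
    rcases h0 with h1 | h1
    · have hu := Lab.mem_D hf.u_ne hf.uu (lift := lift)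
      have hv := Lab.mem_D hf.v_ne hf.vv (lift := lift)
      have hw := Lab.mem_D hf.w_ne hf.ww (lift := lift)
      obtain ⟨n1, n2, n3⟩ := Fr3.lift_ne L hf
      obtain ⟨c1, c2, c3⟩ := Fr3.lift_comm L hf
      rw [comm_coe] at c1 c2 c3
      rw [h1] at hc'
      have hc'' : t = (lift u : G) * lift v * lift w := by
        rw [hc']; exact one_mul _
      exact ⟨lift u, mem _ hu, lift v, mem _ hv, lift w, mem _ hw,
        fun h2 => n1 (Subtype.ext h2), fun h2 => n2 (Subtype.ext h2), fun h2 => n3 (Subtype.ext h2),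
        c1, c2, c3, zel_comm _, Or.inr (Or.inr hc'')⟩
    · obtain ⟨x, hx, y, hy, s, hs, n1, n2, n3, c1, c2, c3, heq⟩ := triple L hB hf
      rw [comm_coe] at c1 c2 c3
      have hc'' : t = (x : G) * y * s := by
        rw [hc', h1]; exact congrArg Subtype.val heq
      exact ⟨x, mem _ hx, y, mem _ hy, s, mem _ hs,
        fun h2 => n1 (Subtype.ext h2), fun h2 => n2 (Subtype.ext h2), fun h2 => n3 (Subtype.ext h2),
        c1, c2, c3, zel_comm _, Or.inr (Or.inr hc'')⟩

theorem Loc.prod3 (h : Loc F hF D) : ∀ d ∈ D, ∀ t : G, t * t = 1 → t ≠ 1 → t * d = d * t →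
    ∃ x ∈ D, ∃ y ∈ D, ∃ z ∈ D, x ≠ y ∧ x ≠ z ∧ y ≠ z ∧ x * y = y * x ∧ x * z = z * x ∧
      y * z = z * y ∧ Conn D d x ∧ (t = x ∨ t = x * y ∨ t = x * y * z) ∧
      ∃ e ∈ D, ∃ f ∈ D, e * f ≠ f * e ∧ e * x = x * e ∧ e * y = y * e ∧ e * z = z * e ∧
        f * x = x * f ∧ f * y = y * f ∧ f * z = z * f := by
  intro d hd t ht ht1 htd
  obtain ⟨x, hx, y, hy, z, hz, nxy, nxz, nyz, cxy, cxz, cyz, cdx, hform⟩ :=
    h.prod3' hd ht ht1 htd
  obtain ⟨_, _, e, he, f, hf, hef, hex, hey, hez, hfx, hfy, hfz⟩ :=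
    h.config hx hy hz cxy cxz cyz nxy nxz nyz
  exact ⟨x, hx, y, hy, z, hz, nxy, nxz, nyz, cxy, cxz, cyz, Conn.of_comm hd hx cdx, hform, e, he,
    f, hf, hef, hex, hey, hez, hfx, hfy, hfz⟩

/-- The hypotheses of the closing theorem from the local structure and the two global facts on components. -/
theorem Loc.all (h : Loc F hF D)
    (hthree : ∀ a ∈ D, ∀ b ∈ D, Conn D a b → a * b = b * a ∨ (a * b) ^ 3 = 1)
    (hcard : ∀ d ∈ D, Odd (Nat.card {b : G // Conn D d b}) ∨
      Nat.card {b : G // Conn D d b} % 4 = 2) : All D where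
  sq := h.sq
  ne := h.ne
  conj := h.conj
  pair := h.pair
  two := h.two
  prod := h.prod
  odd := h.odd
  prod3 := h.prod3
  link := h.link
  perf := h.perf
  three := hthree
  card := hcard

end GLevel

end Cfsg.Agent.R01.AllOfLab
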