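import Cfsg.Agent.Fischer.ZCentral
import Cfsg.Agent.Fischer.Fi22Order
import Cfsg.Agent.R01.Lifts
import Cfsg.Agent.Fischer.Fi24Index_m3
import Cfsg.Agent.Fischer.Fi23H
import Cfsg.Agent.FastGrp
import Cfsg.Agent.Prune
set_option linter.all false
prune_inst 0x7f00000000000000000000000000000000000000000000000000000000000000000000000000000000000000000000000000000000000000000000000000000000000000000000000000000000000000003fffffffffffffffffffffffffffbeffbdffffffff
open scoped Cfsg.Agent.FastGrp

-- part: R01/AlphaGeneric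
section
/-!
Double covers of the presented group `Fi22` with generators satisfying the relations of `Fi22` except that
`(bcdefgh)^9 = z`: any two such groups of order `2·|Fi22|` are isomorphic, compatibly with the generators.
-/

set_option autoImplicit false

namespace Cfsg.Agent.R01.AlphaGeneric

open Cfsg.Spor Cfsg.Spor.Fi22 Cfsg.Agent.Fischer.Fi22PtsRep Cfsg.Agent.Fischer

/-- The relations of `Fi22` with the last one replaced by `(bcdefgh)^9 = z`. -/
structure ZRels {C : Type*} [Group C] (s : Gen → C) (z : C) : Prop where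
  cox : ∀ x y, (s x * s y) ^ coxLabel edges x y = 1
  spider : (s .d * s .c * s .b * s .d * s .e * s .f * s .d * s .h * s .i) ^ 10 = 1
  e7a : (s .a * s .b * s .c * s .d * s .e * s .f * s .h) ^ 9 = 1
  e7b : (s .b * s .c * s .d * s .e * s .f * s .g * s .h) ^ 9 = z

section

variable {C : Type*} [Group C] {s : Gen → C} {z : C}

theorem rels_of (h : ZRels s 1) : ∀ r ∈ coxRelators edges ∪ {r | r ∈ extra}, FreeGroup.lift s r = 1 := by
  rintro r (⟨x, _, y, _, rfl⟩ | hr)
  · rw [map_pow, map_mul, FreeGroup.lift_apply_of, FreeGroup.lift_apply_of]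
    exact h.cox x y
  · simp only [extra, Set.mem_setOf_eq, List.mem_cons, List.not_mem_nil, or_false] at hr
    rcases hr with rfl | rfl | rfl
    · simpa only [map_pow, map_mul, FreeGroup.lift_apply_of] using h.spider
    · simpa only [map_pow, map_mul, FreeGroup.lift_apply_of] using h.e7a
    · simpa only [map_pow, map_mul, FreeGroup.lift_apply_of] using h.e7b

/-- The homomorphism from the presented group. -/
noncomputable def toHom (h : ZRels s 1) : Spor.Fi22 →* C := PresentedGroup.toGroup (rels_of h)

theorem toHom_gen (h : ZRels s 1) (x : Gen) : toHom h (gen x) = s x := PresentedGroup.toGroup.of (rels_of h)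

theorem ZRels.sq (h : ZRels s z) (x : Gen) : s x * s x = 1 := by
  have h1 := h.cox x x
  have hl : coxLabel edges x x = 1 := by cases x <;> decide
  rwa [hl, pow_one] at h1

theorem ZRels.comm (h : ZRels s z) {x y : Gen} (hl : coxLabel edges x y = 2) : s x * s y = s y * s x := by
  have h1 := h.cox x y
  rw [hl, pow_two] at h1
  have e1 : (s x)⁻¹ = s x := inv_eq_of_mul_eq_one_left (h.sq x)
  have e2 : (s y)⁻¹ = s y := inv_eq_of_mul_eq_one_left (h.sq y)
  have := eq_inv_of_mul_eq_one_left h1
  rw [mul_inv_rev, e1, e2] at this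
  exact this

/-- The nodes `b, …, i` in the numbering of the file `Derived`. -/
def nd : Fin 8 → Gen := ![.b, .c, .d, .e, .f, .g, .h, .i]

theorem lab_nd : ∀ i j : Fin 8, Derived.lab i j = coxLabel edges (nd i) (nd j) := by decide +kernel

theorem liftable_of (hcox : ∀ x y, (s x * s y) ^ coxLabel edges x y = 1) :
    Derived.M8.IsLiftable (fun k => s (nd k)) := by
  intro i j
  show (s (nd i) * s (nd j)) ^ Derived.lab i j = 1
  rw [lab_nd]
  exact hcox _ _

theorem ev_spider (s : Gen → C) : Derived.ev (fun k => s (nd k)) Derived.spider =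
    s .d * s .c * s .b * s .d * s .e * s .f * s .d * s .h * s .i := by
  simp only [Derived.ev, Derived.spider, List.map_cons, List.map_nil, List.prod_cons, List.prod_nil, mul_one,
    mul_assoc]
  rfl

theorem ev_wz (s : Gen → C) : Derived.ev (fun k => s (nd k)) ZCentral.wz =
    s .b * s .c * s .d * s .e * s .f * s .g * s .h := by
  simp only [Derived.ev, ZCentral.wz, List.map_cons, List.map_nil, List.prod_cons, List.prod_nil, mul_one,
    mul_assoc]
  rfl

theorem ZRels.lift (h : ZRels s z) : Derived.M8.IsLiftable (fun k => s (nd k)) := liftable_of h.cox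

theorem ZRels.spider' (h : ZRels s z) : Derived.ev (fun k => s (nd k)) Derived.spider ^ 10 = 1 := by
  rw [ev_spider]; exact h.spider

theorem ZRels.z_eq (h : ZRels s z) : Derived.ev (fun k => s (nd k)) ZCentral.wz ^ 9 = z := by
  rw [ev_wz]; exact h.e7b

theorem ZRels.zz (h : ZRels s z) : z * z = 1 := by
  have := ZCentral.z_sq h.lift
  rwa [h.z_eq] at this

theorem ZRels.z_comm (h : ZRels s z) (x : Gen) : z * s x = s x * z := by
  by_cases hx : x = .a
  · subst hx
    have h1 := ZCentral.z_comm_of h.lift h.spider' (a := s .a) (fun i hi => by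
      apply h.comm
      revert hi
      revert i
      decide)
    rwa [h.z_eq] at h1
  · have hk : ∃ k : Fin 8, nd k = x := by
      revert hx
      cases x
      · intro hx; exact absurd rfl hx
      · intro _; exact ⟨0, rfl⟩
      · intro _; exact ⟨1, rfl⟩
      · intro _; exact ⟨2, rfl⟩
      · intro _; exact ⟨3, rfl⟩
      · intro _; exact ⟨4, rfl⟩
      · intro _; exact ⟨5, rfl⟩
      · intro _; exact ⟨6, rfl⟩
      · intro _; exact ⟨7, rfl⟩
    obtain ⟨k, rfl⟩ := hk
    have h1 := ZCentral.z_comm h.lift h.spider' k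
    rwa [h.z_eq] at h1

theorem ZRels.z_central (h : ZRels s z) (htop : Subgroup.closure (Set.range s) = ⊤) (g : C) : z * g = g * z := by
  have hg : g ∈ Subgroup.closure (Set.range s) := htop ▸ Subgroup.mem_top g
  induction hg using Subgroup.closure_induction with
  | mem y hy => obtain ⟨k, rfl⟩ := hy; exact h.z_comm k
  | one => simp
  | mul a b _ _ ha hb => rw [← mul_assoc, ha, mul_assoc, hb, mul_assoc]
  | inv a _ ha =>
    calc z * a⁻¹ = a⁻¹ * (a * z) * a⁻¹ := by group
      _ = a⁻¹ * (z * a) * a⁻¹ := by rw [ha]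
      _ = a⁻¹ * z := by group

theorem ZRels.map {C' : Type*} [Group C'] (h : ZRels s z) (f : C →* C') : ZRels (fun x => f (s x)) (f z) where
  cox x y := by rw [← map_mul, ← map_pow, h.cox, map_one]
  spider := by
    have := congrArg f h.spider
    simpa only [map_pow, map_mul, map_one] using this
  e7a := by
    have := congrArg f h.e7a
    simpa only [map_pow, map_mul, map_one] using this
  e7b := by
    have := congrArg f h.e7b
    simpa only [map_pow, map_mul, map_one] using this

/-- The order of a group satisfying the relations divides / is at most `2·|Fi22|`. -/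
theorem card_le (h : ZRels s z) (htop : Subgroup.closure (Set.range s) = ⊤) :
    Finite C ∧ Nat.card C ≤ 2 * 64561751654400 := by
  have hcen : z ∈ Subgroup.center C := by
    rw [Subgroup.mem_center_iff]
    intro g; exact (h.z_central htop g).symm
  have hnorm : (Subgroup.zpowers z).Normal := by
    refine ⟨fun n hn g => ?_⟩
    have hn' : n ∈ Subgroup.center C := (Subgroup.zpowers_le.2 hcen) hn
    rw [Subgroup.mem_center_iff] at hn'
    rw [hn' g, mul_assoc, mul_inv_cancel, mul_one]
    exact hn
  let π := QuotientGroup.mk' (Subgroup.zpowers z)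
  have hπz : π z = 1 := (QuotientGroup.eq_one_iff _).2 (Subgroup.mem_zpowers z)
  have hq : ZRels (fun x => π (s x)) 1 := by
    have := h.map π
    rwa [hπz] at this
  have hsurj : Function.Surjective (toHom hq) := by
    rw [← MonoidHom.range_eq_top, eq_top_iff]
    have h1 : (⊤ : Subgroup (C ⧸ Subgroup.zpowers z)) = Subgroup.closure (Set.range fun x => π (s x)) := by
      have h2 : Set.range (fun x => π (s x)) = π '' Set.range s := by
        rw [← Set.range_comp]; rfl
      rw [h2, ← MonoidHom.map_closure, htop, ← MonoidHom.range_eq_map, eq_comm, MonoidHom.range_eq_top]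
      exact QuotientGroup.mk'_surjective _
    rw [h1, Subgroup.closure_le]
    rintro _ ⟨x, rfl⟩
    exact ⟨gen x, toHom_gen hq x⟩
  have hF : Finite Spor.Fi22 := Fi22Order.upper.1
  have hfin : Finite (C ⧸ Subgroup.zpowers z) := Finite.of_surjective _ hsurj
  have hcard : Nat.card (C ⧸ Subgroup.zpowers z) ≤ 64561751654400 :=
    (Nat.card_le_card_of_surjective _ hsurj).trans Fi22Order.upper.2
  have hzz : z ^ 2 = 1 := by rw [pow_two]; exact h.zz
  have hzf : IsOfFinOrder z := isOfFinOrder_iff_pow_eq_one.2 ⟨2, by norm_num, hzz⟩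
  have hfz : Finite (Subgroup.zpowers z) := hzf.finite_zpowers
  have hcz : Nat.card (Subgroup.zpowers z) ≤ 2 := by
    rw [Nat.card_zpowers]
    exact Nat.le_of_dvd (by norm_num) (orderOf_dvd_of_pow_eq_one hzz)
  have hK : Finite C := Finite.of_equiv _ (Subgroup.groupEquivQuotientProdSubgroup (s := Subgroup.zpowers z)).symm
  refine ⟨hK, ?_⟩
  rw [Subgroup.card_eq_card_quotient_mul_card_subgroup (Subgroup.zpowers z), mul_comm]
  exact Nat.mul_le_mul hcz hcard

end

/-- **Uniqueness of the double cover**: two groups generated by elements satisfying the relations, both of order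
`2·|Fi22|`, are isomorphic. -/
theorem exists_mulEquiv {C C' : Type*} [Group C] [Group C'] {s : Gen → C} {s' : Gen → C'} {z : C} {z' : C'}
    (h : ZRels s z) (h' : ZRels s' z') (htop : Subgroup.closure (Set.range s) = ⊤)
    (htop' : Subgroup.closure (Set.range s') = ⊤) (hcard : Nat.card C = 2 * 64561751654400)
    (hcard' : Nat.card C' = 2 * 64561751654400) :
    ∃ α : C ≃* C', (∀ x, α (s x) = s' x) ∧ α z = z' := by
  have hfC : Finite C := (card_le h htop).1
  have hfC' : Finite C' := (card_le h' htop').1
  -- the diagonal subgroup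
  let S : Set (C × C') := Set.range fun x => (s x, s' x)
  let H : Subgroup (C × C') := Subgroup.closure S
  let t : Gen → H := fun x => ⟨(s x, s' x), Subgroup.subset_closure ⟨x, rfl⟩⟩
  have hzH : (z, z') ∈ H := by
    have e : (z, z') = (((t .b * t .c * t .d * t .e * t .f * t .g * t .h) ^ 9 : H) : C × C') := by
      refine Prod.ext ?_ ?_
      · exact h.e7b.symm
      · exact h'.e7b.symm
    rw [e]
    exact Subtype.property _
  have ht : ZRels t (⟨(z, z'), hzH⟩ : H) := by
    refine ⟨fun x y => ?_, ?_, ?_, ?_⟩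
    · apply Subtype.ext
      refine Prod.ext ?_ ?_
      · exact h.cox x y
      · exact h'.cox x y
    · apply Subtype.ext
      refine Prod.ext ?_ ?_
      · exact h.spider
      · exact h'.spider
    · apply Subtype.ext
      refine Prod.ext ?_ ?_
      · exact h.e7a
      · exact h'.e7a
    · apply Subtype.ext
      refine Prod.ext ?_ ?_
      · exact h.e7b
      · exact h'.e7b
  have httop : Subgroup.closure (Set.range t) = ⊤ := by
    have h1 : Subgroup.map H.subtype (Subgroup.closure (Set.range t)) = Subgroup.map H.subtype ⊤ := by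
      rw [MonoidHom.map_closure, ← Set.range_comp, ← MonoidHom.range_eq_map, Subgroup.range_subtype]
      rfl
    exact Subgroup.map_injective (Subgroup.subtype_injective _) h1
  obtain ⟨hfH, hcH⟩ := card_le ht httop
  let p : H →* C := (MonoidHom.fst C C').comp H.subtype
  let p' : H →* C' := (MonoidHom.snd C C').comp H.subtype
  have hp : Function.Surjective p := by
    rw [← MonoidHom.range_eq_top, eq_top_iff, ← htop, Subgroup.closure_le]
    rintro _ ⟨x, rfl⟩
    exact ⟨t x, rfl⟩
  have hp' : Function.Surjective p' := by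
    rw [← MonoidHom.range_eq_top, eq_top_iff, ← htop', Subgroup.closure_le]
    rintro _ ⟨x, rfl⟩
    exact ⟨t x, rfl⟩
  have hge : Nat.card C ≤ Nat.card H := Nat.card_le_card_of_surjective _ hp
  have heq : Nat.card H = Nat.card C := le_antisymm (by rw [hcard]; exact hcH) hge
  have heq' : Nat.card H = Nat.card C' := by rw [heq, hcard, hcard']
  have hb : Function.Bijective p := (Nat.bijective_iff_surjective_and_card _).2 ⟨hp, heq⟩
  have hb' : Function.Bijective p' := (Nat.bijective_iff_surjective_and_card _).2 ⟨hp', heq'⟩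
  let e := MulEquiv.ofBijective p hb
  let e' := MulEquiv.ofBijective p' hb'
  refine ⟨e.symm.trans e', fun x => ?_, ?_⟩
  · have : e.symm (s x) = t x := by
      rw [MulEquiv.symm_apply_eq]; rfl
    rw [MulEquiv.trans_apply, this]; rfl
  · have : e.symm z = ⟨(z, z'), hzH⟩ := by
      rw [MulEquiv.symm_apply_eq]; rfl
    rw [MulEquiv.trans_apply, this]; rfl

end Cfsg.Agent.R01.AlphaGeneric
end

-- part: R01/AlphaIso
section
/-!
A perfect double cover `C` of the presented group `Fi22` whose transpositions lift to a class `D` of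
3-transpositions and in which the central involution is not a square is isomorphic to the centraliser
`⟨a, …, i⟩` of `z0` in the presented group `Fi23`.
-/

set_option autoImplicit false

namespace Cfsg.Agent.R01.AlphaIso

open Cfsg Cfsg.Spor Cfsg.Spor.Fi22 Cfsg.Agent.Fischer.Fi22PtsRep Cfsg.Agent.Fischer
open Cfsg.Agent.R01.AlphaGeneric Cfsg.Agent.R01.Lifts
open scoped commutatorElement

/-! ### The flip of the diagram -/

/-- The diagram automorphism exchanging the two long arms. -/
def flip : Gen → Gen
  | .a => .g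
  | .b => .f
  | .c => .e
  | .d => .d
  | .e => .c
  | .f => .b
  | .g => .a
  | .h => .h
  | .i => .i

theorem lab_flip : ∀ x y : Gen, coxLabel edges (flip x) (flip y) = coxLabel edges x y := by
  intro x y
  cases x <;> cases y <;> decide

theorem flip_flip : ∀ x : Gen, flip (flip x) = x := by
  intro x; cases x <;> rfl

/-- The spider word with two arms exchanged. -/
def spf : List (Fin 8) := [2, 3, 4, 2, 1, 0, 2, 6, 7]

/-- A conjugating word. -/
def wf : List (Fin 8) := [6, 7, 6, 4, 0]

theorem chk_flip : Derived.chk (Derived.rep 10 spf) (wf ++ Derived.rep 10 Derived.spider.reverse ++ wf.reverse) = true := by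
  decide +kernel

section

variable {C : Type*} [Group C] {s : Gen → C}

theorem spider_flip (hcox : ∀ x y, (s x * s y) ^ coxLabel edges x y = 1)
    (hsp : (s .d * s .c * s .b * s .d * s .e * s .f * s .d * s .h * s .i) ^ 10 = 1) :
    (s .d * s .e * s .f * s .d * s .c * s .b * s .d * s .h * s .i) ^ 10 = 1 := by
  have hl := liftable_of hcox
  have h := Derived.ev_eq_ev hl chk_flip
  have hsp' : Derived.ev (fun k => s (nd k)) Derived.spider ^ 10 = 1 := by rw [ev_spider]; exact hsp
  rw [Derived.ev_append, Derived.ev_append, Derived.ev_rep, Derived.ev_rep, Derived.ev_reverse hl,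
    Derived.ev_reverse hl, inv_pow, hsp', inv_one, mul_one, mul_inv_cancel] at h
  rw [← h]
  congr 1
  simp only [Derived.ev, spf, List.map_cons, List.map_nil, List.prod_cons, List.prod_nil, mul_one,
    mul_assoc]
  rfl

theorem pow_flip {P h : C} (hh : h * h = 1) {z : C} (hz : ∀ g : C, z * g = g * z) (hzz : z * z = 1) {n : ℕ}
    (hp : (P * h) ^ n = z) : (P⁻¹ * h) ^ n = z := by
  have hi : h⁻¹ = h := inv_eq_of_mul_eq_one_left hh
  have e : P⁻¹ * h = h * (P * h)⁻¹ * h⁻¹ := by
    rw [mul_inv_rev, hi]
    calc P⁻¹ * h = (h * h) * P⁻¹ * h := by rw [hh, one_mul]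
      _ = h * (h * P⁻¹) * h := by group
  have hzi : z⁻¹ = z := inv_eq_of_mul_eq_one_left hzz
  rw [e, conj_pow, inv_pow, hp, hzi, ← hz, mul_assoc, mul_inv_cancel, mul_one]

theorem six_inv {u v w x y t : C} (hu : u * u = 1) (hv : v * v = 1) (hw : w * w = 1) (hx : x * x = 1)
    (hy : y * y = 1) (ht : t * t = 1) : (u * v * w * x * y * t)⁻¹ = t * y * x * w * v * u := by
  simp only [mul_inv_rev, inv_eq_of_mul_eq_one_left hu, inv_eq_of_mul_eq_one_left hv,
    inv_eq_of_mul_eq_one_left hw, inv_eq_of_mul_eq_one_left hx, inv_eq_of_mul_eq_one_left hy,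
    inv_eq_of_mul_eq_one_left ht]
  group

theorem sq_of_cox (hcox : ∀ x y, (s x * s y) ^ coxLabel edges x y = 1) (x : Gen) : s x * s x = 1 := by
  have h1 := hcox x x
  have hl : coxLabel edges x x = 1 := by cases x <;> decide
  rwa [hl, pow_one] at h1

/-- The flipped generators satisfy the flipped relations. -/
theorem e7_flip (hcox : ∀ x y, (s x * s y) ^ coxLabel edges x y = 1) {z : C} (hz : ∀ g : C, z * g = g * z)
    (hzz : z * z = 1) {u v w x y t : Gen}
    (h : (s u * s v * s w * s x * s y * s t * s .h) ^ 9 = z) :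
    (s t * s y * s x * s w * s v * s u * s .h) ^ 9 = z := by
  have hs := sq_of_cox hcox
  have := pow_flip (P := s u * s v * s w * s x * s y * s t) (hs .h) hz hzz h
  rwa [six_inv (hs u) (hs v) (hs w) (hs x) (hs y) (hs t)] at this

end

/-! ### Lifting the generators -/

/-- All generators are conjugate. -/
theorem isConj_gen (x : Gen) : gen x ∈ conjugatesOf (gen .a) :=
  isConj_iff.2 ⟨wd (Fi22Order.cw x), (Fi22Order.gen_cw x).symm⟩

section

variable {C : Type*} [Group C] {π : C →* Spor.Fi22} {z : C}

theorem no_section (hE : _root_.Cfsg.Agent.R01.Lifts.Ext π z) (hperf : commutator C = ⊤) {s : Gen → C} (hs : ∀ x, π (s x) = gen x)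
    (h : ZRels s 1) : False := by
  let ψ := toHom h
  have hψ : ∀ f, π (ψ f) = f := by
    intro f
    have : (π.comp ψ) = MonoidHom.id _ := by
      apply PresentedGroup.ext
      intro x
      show π (ψ (gen x)) = gen x
      rw [toHom_gen, hs]
    exact DFunLike.congr_fun this f
  have hidx : ∀ c : C, c ∈ ψ.range ∨ c * z ∈ ψ.range := by
    intro c
    rcases (hE.map_eq (a := ψ (π c)) (b := c)).1 (hψ _) with h1 | h1
    · left; exact ⟨_, h1⟩
    · right; exact ⟨_, h1⟩
  have hnorm : ψ.range.Normal := by
    refine ⟨fun n hn g => ?_⟩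
    rcases hidx g with hg | hg
    · exact ψ.range.mul_mem (ψ.range.mul_mem hg hn) (ψ.range.inv_mem hg)
    · have e : g * n * g⁻¹ = (g * z) * n * (g * z)⁻¹ := by
        rw [mul_inv_rev, mul_assoc g z n, ← hE.comm n]; group
      rw [e]
      exact ψ.range.mul_mem (ψ.range.mul_mem hg hn) (ψ.range.inv_mem hg)
  have hle : commutator C ≤ ψ.range := by
    rw [commutator_def, Subgroup.commutator_le]
    intro x _ y _
    have key : ∀ x y : C, x ∈ ψ.range → ⁅x, y⁆ ∈ ψ.range := by
      intro x y hx
      rw [commutatorElement_def, mul_assoc, mul_assoc]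
      refine ψ.range.mul_mem hx ?_
      rw [← mul_assoc]
      exact hnorm.conj_mem _ (ψ.range.inv_mem hx) y
    rcases hidx x with hx | hx
    · exact key x y hx
    · have e : ⁅x, y⁆ = ⁅x * z, y⁆ := by
        have hzi : z⁻¹ = z := inv_eq_of_mul_eq_one_left hE.zz
        rw [commutatorElement_def, commutatorElement_def, mul_inv_rev, hzi]
        calc x * y * x⁻¹ * y⁻¹ = x * y * (z * z) * x⁻¹ * y⁻¹ := by rw [hE.zz, mul_one]
          _ = x * (y * z) * z * x⁻¹ * y⁻¹ := by group
          _ = x * (z * y) * z * x⁻¹ * y⁻¹ := by rw [hE.comm y]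
          _ = x * z * y * (z * x⁻¹) * y⁻¹ := by group
      rw [e]
      exact key _ y hx
  rw [hperf, top_le_iff] at hle
  have hz : z ∈ ψ.range := hle ▸ Subgroup.mem_top z
  obtain ⟨f, hf⟩ := hz
  have h1 : f = 1 := by rw [← hψ f, hf, hE.mapz]
  apply hE.zne
  rw [← hf, h1, map_one]

theorem list_mul_z {z : C} (hz : ∀ g : C, g * z = z * g) (s : Gen → C) (l : List Gen) :
    (l.map (fun x => s x * z)).prod = (l.map s).prod * z ^ l.length := by
  induction l with
  | nil => simp
  | cons x l ih =>
    rw [List.map_cons, List.prod_cons, ih, List.map_cons, List.prod_cons, List.length_cons, pow_succ']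
    calc s x * z * ((l.map s).prod * z ^ l.length) = s x * (z * (l.map s).prod) * z ^ l.length := by group
      _ = s x * ((l.map s).prod * z) * z ^ l.length := by rw [hz]
      _ = _ := by group

/-- The lifts of the generators in the class `D` satisfy all relations, up to the choice of the central
involution in the two `E₇` relations. -/
theorem exists_gens (hE : _root_.Cfsg.Agent.R01.Lifts.Ext π z) (hperf : commutator C = ⊤) {D : Set C} (hD : IsThreeTranspositionSet D)
    (hb : Set.BijOn π D (conjugatesOf (gen .a))) (hkey : ∀ c : C, c * c ≠ z) :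
    ∃ s : Gen → C, (∀ x, s x ∈ D) ∧ Subgroup.closure (Set.range s) = ⊤ ∧ ZRels s z := by
  have hlift : ∀ x : Gen, ∃ c ∈ D, π c = gen x := fun x => hb.surjOn (isConj_gen x)
  choose s hsD hπ using hlift
  have hcox : ∀ x y, (s x * s y) ^ coxLabel edges x y = 1 := by
    intro x y
    have hπ1 : (gen x * gen y) ^ coxLabel edges x y = 1 := gen_cox x y
    have h0 : s x * s x = 1 := by
      have := pow_orderOf_eq_one (s x)
      rw [hD.1 _ (hsD x), pow_two] at this
      exact this
    have hlab : coxLabel edges x y = 1 ∨ coxLabel edges x y = 2 ∨ coxLabel edges x y = 3 := by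
      revert x y; intro x y; intros; cases x <;> cases y <;> decide
    have hcase : ∀ (m : ℕ), (s x * s y) ^ m = 1 → (gen x * gen y) ^ m = 1 := by
      intro m hm
      rw [← hπ, ← hπ, ← map_mul, ← map_pow, hm, map_one]
    have heq : gen x * gen y = 1 → s x * s y = 1 := by
      intro h
      have h1 : gen x = gen y := by rw [← gen_inv y]; exact eq_inv_of_mul_eq_one_left h
      have h2 : s x = s y := hb.injOn (hsD x) (hsD y) (by rw [hπ, hπ, h1])
      rw [← h2, h0]
    rcases hlab with hl | hl | hl
    · rw [hl, pow_one] at hπ1 ⊢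
      exact heq hπ1
    · rw [hl] at hπ1 ⊢
      rcases hD.2 _ (hsD x) _ (hsD y) with h | h
      · exact h
      · have h3 := hcase 3 h
        have h1 : gen x * gen y = 1 := by
          rw [pow_succ, hπ1, one_mul] at h3; exact h3
        rw [heq h1, one_pow]
    · rw [hl] at hπ1 ⊢
      rcases hD.2 _ (hsD x) _ (hsD y) with h | h
      · have h2 := hcase 2 h
        have h1 : gen x * gen y = 1 := by
          rw [pow_succ, h2, one_mul] at hπ1; exact hπ1
        rw [heq h1, one_pow]
      · exact h
  have hsp : (s .d * s .c * s .b * s .d * s .e * s .f * s .d * s .h * s .i) ^ 10 = 1 := by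
    have h1 : π ((s .d * s .c * s .b * s .d * s .e * s .f * s .d * s .h * s .i) ^ 10) = 1 := by
      simp only [map_pow, map_mul, hπ]
      exact gen_spider
    rcases (hE.ker _).1 h1 with h | h
    · exact h
    · exfalso
      apply hkey ((s .d * s .c * s .b * s .d * s .e * s .f * s .d * s .h * s .i) ^ 5)
      rw [← pow_add]; exact h
  have ha : (s .a * s .b * s .c * s .d * s .e * s .f * s .h) ^ 9 = 1 ∨
      (s .a * s .b * s .c * s .d * s .e * s .f * s .h) ^ 9 = z := by
    apply (hE.ker _).1
    simp only [map_pow, map_mul, hπ]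
    exact gen_e7a
  have hbb : (s .b * s .c * s .d * s .e * s .f * s .g * s .h) ^ 9 = 1 ∨
      (s .b * s .c * s .d * s .e * s .f * s .g * s .h) ^ 9 = z := by
    apply (hE.ker _).1
    simp only [map_pow, map_mul, hπ]
    exact gen_e7b
  have htop : ∀ t : Gen → C, (∃ σ : Gen → Gen, Function.Surjective σ ∧ ∀ x, t x = s (σ x)) →
      z ∈ Subgroup.closure (Set.range t) → Subgroup.closure (Set.range t) = ⊤ := by
    rintro t ⟨σ, hσ, ht⟩ hz
    rw [eq_top_iff]
    intro c _
    have h1 : π c ∈ Subgroup.map π (Subgroup.closure (Set.range t)) := by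
      rw [MonoidHom.map_closure]
      have : Set.range gen ⊆ π '' Set.range t := by
        rintro _ ⟨x, rfl⟩
        obtain ⟨y, rfl⟩ := hσ x
        exact ⟨t y, ⟨y, rfl⟩, by rw [ht, hπ]⟩
      exact Subgroup.closure_mono this (closure_gen ▸ Subgroup.mem_top _)
    obtain ⟨c', hc', hcc⟩ := h1
    rcases hE.map_eq.1 hcc with h2 | h2
    · rw [← h2]; exact hc'
    · have e : c = c' * z := by rw [h2, hE.mul_z_mul_z]
      rw [e]
      exact Subgroup.mul_mem _ hc' hz
  have hodd : ∀ {u v w x y t : Gen}, (s u * z * (s v * z) * (s w * z) * (s x * z) * (s y * z) * (s t * z) * (s .h * z)) ^ 9 =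
      (s u * s v * s w * s x * s y * s t * s .h) ^ 9 * z := by
    intro u v w x y t
    have e : s u * z * (s v * z) * (s w * z) * (s x * z) * (s y * z) * (s t * z) * (s .h * z) =
        (s u * s v * s w * s x * s y * s t * s .h) * z := by
      have h := list_mul_z hE.comm s [u, v, w, x, y, t, .h]
      have h7 : z ^ [u, v, w, x, y, t, Gen.h].length = z := Lifts.pow_odd_of_sq hE.zz (by simp; decide)
      rw [h7] at h
      simpa only [List.map_cons, List.map_nil, List.prod_cons, List.prod_nil, mul_one, ← mul_assoc] using h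
    rw [e]
    have hcom : Commute (s u * s v * s w * s x * s y * s t * s .h) z := hE.comm _
    rw [hcom.mul_pow, Lifts.pow_odd_of_sq hE.zz (by decide)]
  rcases ha with ha | ha <;> rcases hbb with hbb | hbb
  · exact (no_section hE hperf hπ ⟨hcox, hsp, ha, hbb⟩).elim
  · refine ⟨s, hsD, htop s ⟨id, Function.surjective_id, fun _ => rfl⟩ ?_, ⟨hcox, hsp, ha, hbb⟩⟩
    rw [← hbb]
    refine Subgroup.pow_mem _ ?_ _
    have hm : ∀ x, s x ∈ Subgroup.closure (Set.range s) := fun x => Subgroup.subset_closure ⟨x, rfl⟩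
    exact Subgroup.mul_mem _ (Subgroup.mul_mem _ (Subgroup.mul_mem _ (Subgroup.mul_mem _ (Subgroup.mul_mem _
      (Subgroup.mul_mem _ (hm _) (hm _)) (hm _)) (hm _)) (hm _)) (hm _)) (hm _)
  · have hz : ∀ g : C, z * g = g * z := fun g => (hE.comm g).symm
    have ha' := e7_flip hcox hz hE.zz ha
    have hb' := e7_flip (z := 1) hcox (by simp) (by simp) hbb
    have hR : ZRels (fun x => s (flip x)) z := by
      refine ⟨fun x y => ?_, ?_, ?_, ?_⟩
      · show (s (flip x) * s (flip y)) ^ _ = 1
        rw [← lab_flip]; exact hcox _ _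
      · exact spider_flip hcox hsp
      · exact hb'
      · exact ha'
    refine ⟨fun x => s (flip x), fun x => hsD _, htop _ ⟨flip, fun x => ⟨flip x, flip_flip x⟩, fun _ => rfl⟩ ?_, hR⟩
    rw [← hR.e7b]
    refine Subgroup.pow_mem _ ?_ _
    have hm : ∀ x, s (flip x) ∈ Subgroup.closure (Set.range fun x => s (flip x)) :=
      fun x => Subgroup.subset_closure ⟨x, rfl⟩
    exact Subgroup.mul_mem _ (Subgroup.mul_mem _ (Subgroup.mul_mem _ (Subgroup.mul_mem _ (Subgroup.mul_mem _
      (Subgroup.mul_mem _ (hm _) (hm _)) (hm _)) (hm _)) (hm _)) (hm _)) (hm _)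
  · -- replace every lift by the other one
    exfalso
    have hc : ∀ a b : C, a * z * (b * z) = a * b := by
      intro a b
      rw [mul_assoc a z, ← mul_assoc z b, ← hE.comm b, mul_assoc b z z, hE.zz, mul_one]
    refine no_section hE hperf (s := fun x => s x * z) (fun x => by rw [map_mul, hE.mapz, mul_one, hπ])
      ⟨fun x y => ?_, ?_, ?_, ?_⟩
    · show (s x * z * (s y * z)) ^ _ = 1
      rw [hc]; exact hcox x y
    · show (s .d * z * (s .c * z) * (s .b * z) * (s .d * z) * (s .e * z) * (s .f * z) * (s .d * z) * (s .h * z) *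
        (s .i * z)) ^ 10 = 1
      have h9 : s .d * z * (s .c * z) * (s .b * z) * (s .d * z) * (s .e * z) * (s .f * z) * (s .d * z) * (s .h * z) *
          (s .i * z) = s .d * s .c * s .b * s .d * s .e * s .f * s .d * s .h * s .i * z := by
        have h := list_mul_z hE.comm s [.d, .c, .b, .d, .e, .f, .d, .h, .i]
        have h7 : z ^ [Gen.d, .c, .b, .d, .e, .f, .d, .h, .i].length = z :=
          Lifts.pow_odd_of_sq hE.zz (by simp; decide)
        rw [h7] at h
        simpa only [List.map_cons, List.map_nil, List.prod_cons, List.prod_nil, mul_one, ← mul_assoc] using h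
      rw [h9]
      have hcom : Commute (s .d * s .c * s .b * s .d * s .e * s .f * s .d * s .h * s .i) z := hE.comm _
      rw [hcom.mul_pow, hsp, one_mul]
      have : z ^ 10 = (z * z) ^ 5 := by rw [← pow_two, ← pow_mul]
      rw [this, hE.zz, one_pow]
    · show (s .a * z * (s .b * z) * (s .c * z) * (s .d * z) * (s .e * z) * (s .f * z) * (s .h * z)) ^ 9 = 1
      rw [hodd, ha, hE.zz]
    · show (s .b * z * (s .c * z) * (s .d * z) * (s .e * z) * (s .f * z) * (s .g * z) * (s .h * z)) ^ 9 = 1
      rw [hodd, hbb, hE.zz]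

theorem card_of_ext (hE : _root_.Cfsg.Agent.R01.Lifts.Ext π z) : Nat.card C = 2 * 64561751654400 := by
  have hF : Finite Spor.Fi22 := Fi22Order.upper.1
  have h1 : Nat.card C = Nat.card (C ⧸ π.ker) * Nat.card π.ker := Subgroup.card_eq_card_quotient_mul_card_subgroup _
  have h2 : Nat.card (C ⧸ π.ker) = 64561751654400 := by
    rw [Nat.card_congr (QuotientGroup.quotientKerEquivOfSurjective π hE.surj).toEquiv, Fi22Order.card_fi22]
  have h3 : Nat.card π.ker = 2 := by
    have : (π.ker : Set C) = {1, z} := by
      ext c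
      exact hE.ker c
    have h4 : Nat.card π.ker = (π.ker : Set C).ncard := rfl
    rw [h4, this, Set.ncard_pair (Ne.symm hE.zne)]
  rw [h1, h2, h3, mul_comm]

end

end Cfsg.Agent.R01.AlphaIso
end

-- part: R01/AlphaFi23
section
/-!
The centraliser `K = ⟨a, …, i⟩` of `z0 = (bcdefgh)^9` in the presented group `Fi23` satisfies the relations of
`AlphaGeneric.ZRels` and has order `2·|Fi22|`; every perfect double cover of `Fi22` of the kind considered in
`AlphaIso` is isomorphic to it.
-/

set_option autoImplicit false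

namespace Cfsg.Agent.R01.AlphaFi23

open Cfsg Cfsg.Spor Cfsg.Agent.Fischer
open Cfsg.Agent.R01.AlphaGeneric Cfsg.Agent.R01.Lifts
open Cfsg.Agent.Fischer.Fi23Hom (gen)
open Cfsg.Agent.Fischer.Fi23Class (K)
open Cfsg.Agent.Fischer.Fi23Z (z0 z63 c7)

/-- The generators of `Fi22` as generators of `Fi23`. -/
def emb : Fi22.Gen → Fi23.Gen
  | .a => .a
  | .b => .b
  | .c => .c
  | .d => .d
  | .e => .e
  | .f => .f
  | .g => .g
  | .h => .h
  | .i => .i

theorem lab_emb : ∀ x y : Fi22.Gen, coxLabel Fi23.edges (emb x) (emb y) = coxLabel Fi22.edges x y := by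
  intro x y
  cases x <;> cases y <;> decide

theorem emb_ne (x : Fi22.Gen) : emb x ≠ .j := by cases x <;> decide

theorem exists_emb {y : Fi23.Gen} (hy : y ≠ .j) : ∃ x, emb x = y := by
  cases y
  case j => exact absurd rfl hy
  case a => exact ⟨.a, rfl⟩
  case b => exact ⟨.b, rfl⟩
  case c => exact ⟨.c, rfl⟩
  case d => exact ⟨.d, rfl⟩
  case e => exact ⟨.e, rfl⟩
  case f => exact ⟨.f, rfl⟩
  case g => exact ⟨.g, rfl⟩
  case h => exact ⟨.h, rfl⟩
  case i => exact ⟨.i, rfl⟩

/-- The generators as elements of `K`. -/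
def t (x : Fi22.Gen) : K := ⟨gen (emb x), Fi23Class.gen_mem_K _ (emb_ne x)⟩

theorem t_coe (x : Fi22.Gen) : (t x : Fi23) = gen (emb x) := rfl

theorem closure_t : Subgroup.closure (Set.range t) = ⊤ := by
  have h1 : Subgroup.map K.subtype (Subgroup.closure (Set.range t)) = Subgroup.map K.subtype ⊤ := by
    rw [MonoidHom.map_closure, ← Set.range_comp, ← MonoidHom.range_eq_map, Subgroup.range_subtype]
    show _ = Subgroup.closure _
    congr 1
    ext y
    constructor
    · rintro ⟨x, rfl⟩
      exact ⟨emb x, emb_ne x, rfl⟩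
    · rintro ⟨y, hy, rfl⟩
      obtain ⟨x, rfl⟩ := exists_emb hy
      exact ⟨x, rfl⟩
  exact Subgroup.map_injective (Subgroup.subtype_injective _) h1

theorem z0_eq : z0 = (gen .b * gen .c * gen .d * gen .e * gen .f * gen .g * gen .h) ^ 9 := by
  have hw : ∀ l m : List Fi23.Gen, Fi23Orb.word (l ++ m) = Fi23Orb.word l * Fi23Orb.word m := by
    intro l m
    rw [Fi23Orb.word, Fi23Orb.word, Fi23Orb.word, List.map_append, List.prod_append]
  have h7 : Fi23Orb.word c7 = gen .b * gen .c * gen .d * gen .e * gen .f * gen .g * gen .h := by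
    simp only [Fi23Orb.word, c7, List.map_cons, List.map_nil, List.prod_cons, List.prod_nil, mul_one, mul_assoc]
  rw [z0, z63]
  simp only [hw]
  rw [h7]
  simp only [pow_succ', pow_zero, mul_one]

theorem z0_mem : z0 ∈ K := by
  rw [z0_eq]
  refine Subgroup.pow_mem _ ?_ _
  have hm : ∀ x, x ≠ Fi23.Gen.j → gen x ∈ K := Fi23Class.gen_mem_K
  exact Subgroup.mul_mem _ (Subgroup.mul_mem _ (Subgroup.mul_mem _ (Subgroup.mul_mem _ (Subgroup.mul_mem _
    (Subgroup.mul_mem _ (hm _ (by decide)) (hm _ (by decide))) (hm _ (by decide))) (hm _ (by decide)))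
      (hm _ (by decide))) (hm _ (by decide))) (hm _ (by decide))

/-- The relations in `K`. -/
theorem zrels : ZRels t ⟨z0, z0_mem⟩ := by
  refine ⟨fun x y => ?_, ?_, ?_, ?_⟩
  · apply Subtype.ext
    show (gen (emb x) * gen (emb y)) ^ _ = 1
    rw [← lab_emb]
    exact Fi23Final.gen_rel _ _
  · apply Subtype.ext
    have h : (Fi23.d * Fi23.c * Fi23.b * Fi23.d * Fi23.e * Fi23.f * Fi23.d * Fi23.h * Fi23.i) ^ 10 ∈
        coxRelators Fi23.edges ∪ {r | r ∈ Fi23.extra} := by
      right
      show _ ∈ Fi23.extra
      unfold Fi23.extra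
      simp
    have h1 := PresentedGroup.one_of_mem h
    simp only [map_pow, map_mul] at h1
    exact h1
  · apply Subtype.ext
    have h : (Fi23.a * Fi23.b * Fi23.c * Fi23.d * Fi23.e * Fi23.f * Fi23.h) ^ 9 ∈
        coxRelators Fi23.edges ∪ {r | r ∈ Fi23.extra} := by
      right
      show _ ∈ Fi23.extra
      unfold Fi23.extra
      simp
    have h1 := PresentedGroup.one_of_mem h
    simp only [map_pow, map_mul] at h1
    exact h1
  · apply Subtype.ext
    exact z0_eq.symm

theorem index_K : (K : Subgroup Fi23).index = 31671 := Cfsg.Agent.SporRec.Fi23Index.index_H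

theorem finite_fi23 : Finite Fi23 := by
  have h1 : Finite K := (card_le zrels closure_t).1
  have h2 : Nat.card Fi23 = Nat.card K * 31671 := by rw [← index_K, Subgroup.card_mul_index]
  exact Nat.finite_of_card_ne_zero (by
    rw [h2]; exact Nat.mul_ne_zero Nat.card_pos.ne' (by norm_num))

theorem card_fi23_le : Nat.card Fi23 ≤ 4089470473293004800 := by
  have h2 : Nat.card Fi23 = Nat.card K * 31671 := by rw [← index_K, Subgroup.card_mul_index]
  rw [h2]
  calc Nat.card K * 31671 ≤ 2 * 64561751654400 * 31671 := Nat.mul_le_mul_right _ (card_le zrels closure_t).2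
    _ = 4089470473293004800 := by norm_num

theorem card_fi23 : Nat.card Fi23 = 4089470473293004800 :=
  haveI := finite_fi23
  Fi23Final.card_eq card_fi23_le

theorem card_K : Nat.card K = 2 * 64561751654400 := by
  have h2 : Nat.card K * 31671 = 4089470473293004800 := by
    rw [← card_fi23, ← index_K, Subgroup.card_mul_index]
  have h3 : (4089470473293004800 : ℕ) = 2 * 64561751654400 * 31671 := by norm_num
  rw [h3] at h2
  exact Nat.eq_of_mul_eq_mul_right (by norm_num) h2

section

variable {C : Type*} [Group C] {π : C →* Spor.Fi22} {z : C}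

/-- **The isomorphism with the centraliser of a transposition of `Fi23`.** -/
theorem exists_alpha (hE : _root_.Cfsg.Agent.R01.Lifts.Ext π z) (hperf : commutator C = ⊤) {D : Set C} (hD : IsThreeTranspositionSet D)
    (hb : Set.BijOn π D (conjugatesOf (Fi22PtsRep.gen .a))) (hkey : ∀ c : C, c * c ≠ z) :
    ∃ (α : C ≃* K) (s : Fi22.Gen → C), (∀ x, s x ∈ D) ∧ Subgroup.closure (Set.range s) = ⊤ ∧ ZRels s z ∧
      (∀ x, (α (s x) : Fi23) = gen (emb x)) ∧ (α z : Fi23) = z0 := by
  obtain ⟨s, hs, htop, hR⟩ := AlphaIso.exists_gens hE hperf hD hb hkey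
  obtain ⟨α, h1, h2⟩ := exists_mulEquiv hR zrels htop closure_t (AlphaIso.card_of_ext hE) card_K
  refine ⟨α, s, hs, htop, hR, fun x => ?_, ?_⟩
  · rw [h1]; rfl
  · rw [h2]

/-- The same, with the class `D` mapped to the class of `a` in `K`. -/
theorem exists_alpha_class (hE : _root_.Cfsg.Agent.R01.Lifts.Ext π z) (hperf : commutator C = ⊤) {D : Set C}
    (hD : IsThreeTranspositionClass D) (hb : Set.BijOn π D (conjugatesOf (Fi22PtsRep.gen .a)))
    (hkey : ∀ c : C, c * c ≠ z) :
    ∃ (α : C ≃* K) (s : Fi22.Gen → C), (∀ x, s x ∈ D) ∧ Subgroup.closure (Set.range s) = ⊤ ∧ ZRels s z ∧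
      (∀ x, (α (s x) : Fi23) = gen (emb x)) ∧ (α z : Fi23) = z0 ∧ ∀ c, c ∈ D ↔ IsConj (t .a) (α c) := by
  obtain ⟨α, s, hs, htop, hR, h1, h2⟩ := exists_alpha hE hperf hD.1 hb hkey
  refine ⟨α, s, hs, htop, hR, h1, h2, fun c => ?_⟩
  obtain ⟨d, hd, hDd⟩ := hD.2.1
  have ha : α (s .a) = t .a := Subtype.ext (h1 .a)
  have hsa : IsConj d (s .a) := by
    have := hs .a
    rw [hDd] at this
    exact this
  have key : c ∈ D ↔ IsConj (s .a) c := by
    rw [hDd]
    exact ⟨fun h => hsa.symm.trans h, fun h => hsa.trans h⟩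
  rw [key, ← ha]
  constructor
  · intro h
    exact α.toMonoidHom.map_isConj h
  · intro h
    have := α.symm.toMonoidHom.map_isConj h
    simpa only [_root_.isConj_iff, _root_.MulEquiv.toMonoidHom_eq_coe, _root_.MonoidHom.coe_coe, _root_.MulEquiv.symm_apply_apply] using this

end

end Cfsg.Agent.R01.AlphaFi23
end

private theorem dce_54f510c10e3d : _root_.True := by
  try have : _root_.True := by simp only [_root_.Cfsg.Agent.Fischer.Fi23Z.c7.eq_1]
  try have : _root_.True := by simp only [_root_.Cfsg.Agent.Fischer.Fi23Z.z0.eq_1]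
  try have : _root_.True := by simp only [_root_.Cfsg.Agent.Fischer.ZCentral.wz.eq_1]
  try have : _root_.True := by simp only [_root_.Cfsg.Agent.Fischer.Derived.spider.eq_1]
  try have : _root_.True := by simp only [_root_.Cfsg.Agent.R01.AlphaIso.spf.eq_1]
  try have : _root_.True := by simp only [_root_.Cfsg.Agent.Fischer.Fi23Z.z63.eq_1]
  exact _root_.True.intro
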