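import Cfsg.Agent.R01.ComLabel
import Cfsg.Agent.R01.Loc
import Cfsg.Agent.R01.Closing2
set_option linter.all false

/-!
# The component of the commuting graph for groups of type `Fi22`

`D` is a conjugation closed set of involutions such that for every `x ∈ D` the elements of `D \ {x}`
commuting with `x` are labelled by the points of `H(5,4)`.  Then the component of `x` in the commuting
graph on `D` has diameter two and `3510` elements, and elements at distance two have product of order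
three.
-/

set_option autoImplicit false
set_option linter.unusedSectionVars false

namespace Cfsg.Agent.R01.Component

open Cfsg Cfsg.Agent.LieClassical.HermBasic Cfsg.Agent.R01.HermCode Cfsg.Agent.R01.HermSix
open Cfsg.Agent.R01.ComLabel Cfsg.Agent.R01.Closing
open Cfsg.Agent.SporadicStructure.UnitTwo (two_eq_zero add_self neg_eq eq_of_add_eq_zero pow_three
  pow_four exists_omega zero_or_one_of_fixed vadd_self)

variable {G : Type*} [Group G] {F : Type*} [Field F] [Fintype F] (hF : Fintype.card F = 2 ^ 2)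
  {ω : F} (hω : ω ^ 2 + ω + 1 = 0) {D : Set G}

/-- The neighbours of `x`. -/
def Nb (D : Set G) (x : G) : Set G := {a | a ∈ D ∧ a ≠ x ∧ Commute a x}

theorem mem_Nb {x a : G} : a ∈ Nb D x ↔ a ∈ D ∧ a ≠ x ∧ Commute a x := Iff.rfl

section codes

variable {b : Fin 6 → (Fin 6 → F)}

include hF hω in
theorem www (hb : IsHypBasis b) {c : ℕ} (hc : c < 4096) : w (w (w c)) = c := by
  apply dec_inj hF hω hb (w_lt _) hc
  have h3 : ω ^ 3 = 1 := by linear_combination (ω - 1) * hω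
  rw [dec_w hF hω, dec_ww hF hω, smul_smul, ← pow_succ', h3, one_smul]

include hF hω in
theorem isPt_w (hb : IsHypBasis b) {c : ℕ} (hc : isPt c = true) : isPt (w c) = true := by
  rw [isPt_iff_dec hF hω hb] at hc ⊢
  refine ⟨w_lt c, ?_⟩
  rw [dec_w hF hω]
  exact Iso.smul hc.2 (omega_ne_zero hω)

include hF hω in
theorem exists_canon (hb : IsHypBasis b) {c : ℕ} (hc : isPt c = true) :
    ∃ c' ∈ pts, ∃ y : F, y ≠ 0 ∧ dec b ω c' = y • dec b ω c := by
  have hlt := isPt_lt hc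
  have h3 := www hF hω hb hlt
  have hw := isPt_w hF hω hb hc
  have hww := isPt_w hF hω hb hw
  have hω0 := omega_ne_zero hω
  have hle : ∀ {x y : ℕ}, Nat.ble x y = true ↔ x ≤ y := fun {x y} => by rw [Nat.ble_eq]
  by_cases h1 : c ≤ w c ∧ c ≤ w (w c)
  · refine ⟨c, mem_pts.2 ⟨hc, ?_⟩, 1, one_ne_zero, (one_smul _ _).symm⟩
    rw [canon, Bool.and_eq_true, hle, hle]
    exact h1
  · by_cases h2 : w c ≤ w (w c) ∧ w c ≤ c
    · refine ⟨w c, mem_pts.2 ⟨hw, ?_⟩, ω, hω0, dec_w hF hω c⟩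
      rw [canon, Bool.and_eq_true, hle, hle, h3]
      exact h2
    · refine ⟨w (w c), mem_pts.2 ⟨hww, ?_⟩, ω ^ 2, pow_ne_zero 2 hω0, dec_ww hF hω c⟩
      rw [canon, Bool.and_eq_true, hle, hle, h3]
      omega

include hF hω in
theorem eq_of_mult (hb : IsHypBasis b) {c c' : ℕ} (hc : c ∈ pts) (hc' : c' ∈ pts) {y : F}
    (h : dec b ω c' = y • dec b ω c) : c = c' := by
  obtain ⟨hp, hcan⟩ := mem_pts.1 hc
  obtain ⟨hp', hcan'⟩ := mem_pts.1 hc'
  have hlt := isPt_lt hp
  have hlt' := isPt_lt hp'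
  have h3 := www hF hω hb hlt
  have hle : ∀ {x y : ℕ}, Nat.ble x y = true ↔ x ≤ y := fun {x y} => by rw [Nat.ble_eq]
  rw [canon, Bool.and_eq_true, hle, hle] at hcan hcan'
  have hm := (mult_iff hF hω hb hlt hlt' ((isPt_iff_dec hF hω hb).1 hp').2.1).2 ⟨y, h⟩
  simp only [mult, Bool.or_eq_true, beq_iff] at hm
  rcases hm with (hm | hm) | hm
  · exact hm.symm
  · rw [hm, h3] at hcan'
    omega
  · rw [hm, h3] at hcan'
    omega

end codes

section counting

variable {x : G} {τ : (Fin 6 → F) → G} {b : Fin 6 → (Fin 6 → F)}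

include hF hω in
theorem exists_code (hτ : IsLabel F D x τ) (hb : IsHypBasis b) {a : G} (ha : a ∈ Nb D x) :
    ∃ c ∈ pts, τ (dec b ω c) = a := by
  obtain ⟨v, hv, rfl⟩ := hτ.surj a ha.1 ha.2.1 ha.2.2
  obtain ⟨c, hc, hcv⟩ := dec_surj hF hω hb v
  have hp : isPt c = true := by
    rw [isPt_iff_dec hF hω hb, hcv]
    exact ⟨hc, hv⟩
  obtain ⟨c', hc', y, hy, h⟩ := exists_canon hF hω hb hp
  refine ⟨c', hc', ?_⟩
  rw [h, hcv, hτ.smul v hv y hy]

include hF hω in
/-- Counting neighbours by codes. -/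
theorem ncard_filter (hτ : IsLabel F D x τ) (hb : IsHypBasis b) (P : G → Prop) (Q : ℕ → Bool)
    (hPQ : ∀ c, isPt c = true → (P (τ (dec b ω c)) ↔ Q c = true)) :
    {a | a ∈ Nb D x ∧ P a}.ncard = (pts.filter Q).length := by
  classical
  have himg : {a | a ∈ Nb D x ∧ P a} =
      (fun c => τ (dec b ω c)) '' ((pts.filter Q).toFinset : Set ℕ) := by
    ext a
    simp only [Set.mem_ofPred_eq, Set.mem_image, Finset.mem_coe, List.mem_toFinset,
      List.mem_filter]
    constructor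
    · rintro ⟨ha, hP⟩
      obtain ⟨c, hc, rfl⟩ := exists_code hF hω hτ hb ha
      exact ⟨c, ⟨hc, (hPQ c (mem_pts.1 hc).1).1 hP⟩, rfl⟩
    · rintro ⟨c, ⟨hc, hQ⟩, rfl⟩
      have hp := (mem_pts.1 hc).1
      exact ⟨hτ.mem _ ((isPt_iff_dec hF hω hb).1 hp).2, (hPQ c hp).2 hQ⟩
  rw [himg, Set.InjOn.ncard_image, Set.ncard_coe_finset,
    List.toFinset_card_of_nodup (pts_nodup.filter _)]
  intro c hc c' hc' h
  simp only [Finset.mem_coe, List.mem_toFinset, List.mem_filter] at hc hc'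
  obtain ⟨y, hy⟩ := hτ.inj _ _ ((isPt_iff_dec hF hω hb).1 (mem_pts.1 hc.1).1).2
    ((isPt_iff_dec hF hω hb).1 (mem_pts.1 hc'.1).1).2 h
  exact eq_of_mult hF hω hb hc.1 hc'.1 hy

end counting

variable (hlab : ∀ y ∈ D, ∃ σ : (Fin 6 → F) → G, IsLabel F D y σ)

include hF in
theorem exists_basis : ∃ b : Fin 6 → (Fin 6 → F), IsHypBasis b := by
  obtain ⟨ω, hω⟩ := exists_omega hF
  -- an isotropic vector
  have h2 := two_eq_zero hF
  have hv : hermForm 6 F 2 (![1, 1, 0, 0, 0, 0] : Fin 6 → F) ![1, 1, 0, 0, 0, 0] = 0 := by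
    rw [herm_def, Fin.sum_univ_six]
    simp only [Matrix.cons_val]
    linear_combination h2
  have hv0 : (![1, 1, 0, 0, 0, 0] : Fin 6 → F) ≠ 0 := by
    intro h
    have := congrFun h 0
    simp at this
  obtain ⟨f, hf, -⟩ := exists_hyp hF hω hv0 hv
  exact ⟨f, hf⟩

include hF hlab in
theorem ncard_Nb {x : G} (hx : x ∈ D) : (Nb D x).ncard = 693 := by
  obtain ⟨ω, hω⟩ := exists_omega hF
  obtain ⟨b, hb⟩ := exists_basis hF
  obtain ⟨τ, hτ⟩ := hlab x hx
  have h := ncard_filter hF hω hτ hb (fun _ => True) (fun _ => true) (fun _ _ => by simp)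
  rw [List.filter_true, pts_length] at h
  simpa using h

include hF hlab in
theorem ncard_noncomm {a d : G} (ha : a ∈ D) (hd : d ∈ Nb D a) :
    {e | e ∈ Nb D a ∧ ¬ Commute e d}.ncard = 512 := by
  obtain ⟨ω, hω⟩ := exists_omega hF
  obtain ⟨τ, hτ⟩ := hlab a ha
  obtain ⟨v, hv, rfl⟩ := hτ.surj d hd.1 hd.2.1 hd.2.2
  obtain ⟨b, hb, hb0⟩ := exists_hyp hF hω hv.1 hv.2
  rw [ncard_filter hF hω hτ hb (fun e => ¬ Commute e (τ v)) (fun c => !(orth 1 c))]
  · exact count_not_orth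
  · intro c hc
    have hiso := ((isPt_iff_dec hF hω hb).1 hc).2
    have h1 : orth 1 c = true ↔ Commute (τ (dec b ω c)) (τ v) := by
      rw [orth_iff hF hω hb (by norm_num), (dec_basis b ω).1, hb0, hτ.commute_iff hF hiso hv]
      exact ⟨herm_eq_zero_swap hF, herm_eq_zero_swap hF⟩
    rw [← h1]
    cases orth 1 c <;> simp

include hF hlab in
theorem ncard_common {e d m : G} (he : e ∈ D) (hd : d ∈ D) (hde : ¬ Commute d e) (hm : m ∈ D)
    (hmd : Commute m d) (hme : Commute m e) : {a | a ∈ Nb D e ∧ Commute a d}.ncard = 126 := by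
  obtain ⟨ω, hω⟩ := exists_omega hF
  obtain ⟨τ, hτ⟩ := hlab e he
  obtain ⟨b, hb, -, h⟩ := normal_form hF hω hlab he hd hτ hde hm hmd hme
  rw [ncard_filter hF hω hτ hb (fun a => Commute a d) (fun c => tb M0mask c) h]
  exact count_M0

/-- The elements at distance two. -/
def Gam (D : Set G) (d : G) : Set G :=
  {e | e ∈ D ∧ ¬ Commute e d ∧ ∃ m ∈ D, Commute m d ∧ Commute m e}

theorem mem_Gam {d e : G} : e ∈ Gam D d ↔
    e ∈ D ∧ ¬ Commute e d ∧ ∃ m ∈ D, Commute m d ∧ Commute m e := Iff.rfl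

include hF hlab in
theorem ncard_Gam [Finite G] {d : G} (hd : d ∈ D) : (Gam D d).ncard = 2816 := by
  classical
  have := Fintype.ofFinite G
  have key := Finset.sum_card_bipartiteAbove_eq_sum_card_bipartiteBelow (s := (Nb D d).toFinset)
    (t := (Gam D d).toFinset) (r := fun a e => Commute a e)
  have h1 : ∀ a ∈ (Nb D d).toFinset,
      ((Gam D d).toFinset.bipartiteAbove (fun a e => Commute a e) a).card = 512 := by
    intro a ha
    rw [Set.mem_toFinset] at ha
    rw [← ncard_noncomm hF hlab ha.1 (d := d) ⟨hd, ha.2.1.symm, ha.2.2.symm⟩,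
      ← Set.ncard_coe_finset]
    congr 1
    ext e
    simp only [Finset.coe_bipartiteAbove, Set.mem_ofPred_eq, Set.mem_toFinset, mem_Gam, mem_Nb]
    constructor
    · rintro ⟨⟨h1, h2, h3⟩, h4⟩
      refine ⟨⟨h1, ?_, h4.symm⟩, h2⟩
      rintro rfl
      exact h2 ha.2.2
    · rintro ⟨⟨h1, h2, h3⟩, h4⟩
      exact ⟨⟨h1, h4, a, ha.1, ha.2.2, h3.symm⟩, h3.symm⟩
  have h2 : ∀ e ∈ (Gam D d).toFinset,
      ((Nb D d).toFinset.bipartiteBelow (fun a e => Commute a e) e).card = 126 := by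
    intro e he
    rw [Set.mem_toFinset] at he
    obtain ⟨h1, h2, m, h3, h4, h5⟩ := he
    rw [← ncard_common hF hlab h1 hd (fun h => h2 h.symm) h3 h4 h5, ← Set.ncard_coe_finset]
    congr 1
    ext a
    simp only [Finset.coe_bipartiteBelow, Set.mem_ofPred_eq, Set.mem_toFinset, mem_Nb]
    constructor
    · rintro ⟨⟨h6, h7, h8⟩, h9⟩
      refine ⟨⟨h6, ?_, h9⟩, h8⟩
      rintro rfl
      exact h2 h8
    · rintro ⟨⟨h6, h7, h8⟩, h9⟩
      refine ⟨⟨h6, ?_, h9⟩, h8⟩
      rintro rfl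
      exact h2 h8.symm
  rw [Finset.sum_congr rfl h1, Finset.sum_congr rfl h2, Finset.sum_const, Finset.sum_const,
    smul_eq_mul, smul_eq_mul, ← Set.ncard_eq_toFinset_card', ← Set.ncard_eq_toFinset_card',
    ncard_Nb hF hlab hd] at key
  omega

/-- The elements at distance at most two. -/
def Near (D : Set G) (d : G) : Set G := {e | e ∈ D ∧ ∃ m ∈ D, Commute m d ∧ Commute m e}

include hF hlab in
/-- The diameter is two. -/
theorem near_step {d e f : G} (hd : d ∈ D) (he : e ∈ Near D d) (hf : f ∈ D)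
    (hef : Commute e f) : f ∈ Near D d := by
  obtain ⟨ω, hω⟩ := exists_omega hF
  obtain ⟨heD, m, hm, hmd, hme⟩ := he
  by_cases hed : Commute e d
  · exact ⟨hf, e, heD, hed, hef⟩
  by_cases hfe : f = e
  · exact ⟨hf, m, hm, hmd, by rw [hfe]; exact hme⟩
  obtain ⟨τ, hτ⟩ := hlab e heD
  obtain ⟨b, hb, -, h⟩ := normal_form hF hω hlab heD hd hτ (fun h => hed h.symm) hm hmd hme
  obtain ⟨c, hc, rfl⟩ := exists_code hF hω hτ hb (a := f) ⟨hf, hfe, hef.symm⟩
  have h1 := List.all_eq_true.1 near_M0 c hc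
  obtain ⟨c', hc', h2⟩ := List.any_eq_true.1 h1
  have h3 := List.all_eq_true.1 M0list_ok c' hc'
  rw [Bool.and_eq_true] at h3
  have hi := (isPt_iff_dec hF hω hb).1 (mem_pts.1 hc).1
  have hi' := (isPt_iff_dec hF hω hb).1 h3.2
  refine ⟨hf, τ (dec b ω c'), (hτ.mem _ hi'.2).1, (h c' h3.2).2 h3.1, ?_⟩
  rw [hτ.commute_iff hF hi'.2 hi.2]
  exact herm_eq_zero_swap hF ((orth_iff hF hω hb hi.1 c').1 h2)

include hF hlab in
theorem conn_iff {d e : G} (hd : d ∈ D) : Conn D d e ↔ e ∈ Near D d := by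
  constructor
  · intro h
    induction h with
    | refl => exact ⟨hd, d, hd, Commute.refl d, Commute.refl d⟩
    | tail _ hbc ih => exact near_step hF hlab hd ih hbc.2.1 hbc.2.2
  · rintro ⟨he, m, hm, hmd, hme⟩
    exact (Conn.of_comm hd hm hmd.symm.eq).trans (Conn.of_comm hm he hme.eq)

include hF hlab in
theorem ncard_Near [Finite G] {d : G} (hd : d ∈ D) : (Near D d).ncard = 3510 := by
  have h : Near D d = insert d (Nb D d ∪ Gam D d) := by
    ext e
    simp only [Near, Gam, Set.mem_insert_iff, Set.mem_union, Set.mem_ofPred_eq, mem_Nb]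
    constructor
    · rintro ⟨he, m, hm, hmd, hme⟩
      by_cases h1 : e = d
      · exact Or.inl h1
      · by_cases h2 : Commute e d
        · exact Or.inr (Or.inl ⟨he, h1, h2⟩)
        · exact Or.inr (Or.inr ⟨he, h2, m, hm, hmd, hme⟩)
    · rintro (rfl | ⟨h1, h2, h3⟩ | ⟨h1, h2, h3⟩)
      · exact ⟨hd, e, hd, Commute.refl e, Commute.refl e⟩
      · exact ⟨h1, e, h1, h3, Commute.refl e⟩
      · exact ⟨h1, h3⟩
  rw [h, Set.ncard_insert_of_notMem, Set.ncard_union_eq, ncard_Nb hF hlab hd,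
    ncard_Gam hF hlab hd]
  · rw [Set.disjoint_left]
    rintro e h1 h2
    exact h2.2.1 h1.2.2
  · rintro (h1 | h1)
    · exact h1.2.1 rfl
    · exact h1.2.1 (Commute.refl d)

include hF hlab in
theorem three (hsq : ∀ a ∈ D, a * a = 1) {a b : G} (ha : a ∈ D) (h : Conn D a b) :
    a * b = b * a ∨ (a * b) ^ 3 = 1 := by
  by_cases hab : Commute a b
  · exact Or.inl hab.eq
  right
  obtain ⟨hb, m, hm, hma, hmb⟩ := (conn_iff hF hlab ha).1 h
  obtain ⟨τ, hτ⟩ := hlab m hm
  obtain ⟨u, hu, hua⟩ := hτ.surj a ha (by rintro rfl; exact hab hmb) hma.symm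
  obtain ⟨v, hv, hvb⟩ := hτ.surj b hb (by rintro rfl; exact hab hma.symm) hmb.symm
  have huv : hermForm 6 F 2 u v ≠ 0 := by
    rw [Ne, ← hτ.commute_iff hF hu hv, hua, hvb]
    exact hab
  -- normalise
  have hc : hermForm 6 F 2 u ((hermForm 6 F 2 u v) • v) = 1 := by
    rw [herm_smul_right, ← pow_succ]
    exact pow_three hF huv
  have hv' : Iso F ((hermForm 6 F 2 u v) • v) := hv.smul huv
  have h1 := hτ.third hF hu hv' hc
  have hc' : hermForm 6 F 2 ((hermForm 6 F 2 u v) • v) u = 1 := by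
    rw [herm_swap hF, hc, one_pow]
  have h2 := hτ.third hF hv' hu hc'
  rw [hτ.smul v hv _ huv, hua, hvb] at h1 h2
  rw [add_comm, ← h1] at h2
  have ha2 := hsq a ha
  have hb2 := hsq b hb
  have hai : a⁻¹ = a := inv_eq_of_mul_eq_one_left ha2
  have hbi : b⁻¹ = b := inv_eq_of_mul_eq_one_left hb2
  rw [hai, hbi] at h2
  calc (a * b) ^ 3 = (a * b * a) * (b * a * b) := by rw [pow_succ, pow_two]; group
    _ = (a * b * a) * (a * b * a) := by rw [h2]
    _ = a * b * (a * a) * b * a := by group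
    _ = a * (b * b) * a := by rw [ha2]; group
    _ = 1 := by rw [hb2, mul_one, ha2]

include hF hlab in
theorem card_conn [Finite G] {d : G} (hd : d ∈ D) : Nat.card {b : G // Conn D d b} = 3510 := by
  rw [← ncard_Near hF hlab hd, ← Nat.card_coe_set_eq]
  exact Nat.card_congr (Equiv.subtypeEquivRight fun e => conn_iff hF hlab hd)

/-! ### From the local hypothesis `Loc` -/

open Cfsg.Agent.R01.Loc Cfsg.Agent.R01.Label Cfsg.Agent.R01.Start

theorem label_of_locAt {hF : Fintype.card F = 2 ^ 2} {d : G} (h : LocAt hF D d) :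
    ∃ σ : (Fin 6 → F) → G, IsLabel F D d σ := by
  obtain ⟨π, lift, L, hL⟩ := h
  refine ⟨fun v => (lift v : G), ?_, ?_, ?_, ?_, ?_⟩
  · intro v hv
    refine ⟨(hL _).2 (Or.inr (Lab.mem_D hv.1 hv.2)), fun h => ?_, ?_⟩
    · apply L.z_notMem
      have h1 : zel d = lift v := Subtype.ext h.symm
      rw [h1]
      exact Lab.mem_D hv.1 hv.2
    · exact (Subgroup.mem_centralizer_singleton_iff.1 (lift v).2)
  · intro a ha hne hc
    have hmem : a ∈ Subgroup.centralizer ({d} : Set G) :=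
      Subgroup.mem_centralizer_singleton_iff.2 hc.eq
    rcases (hL ⟨a, hmem⟩).1 ha with h | h
    · exact absurd (congrArg Subtype.val h) hne
    · obtain ⟨v, hv0, hv, h⟩ := h
      exact ⟨v, ⟨hv0, hv⟩, (congrArg Subtype.val h).symm⟩
  · intro v hv c hc
    exact congrArg Subtype.val (L.smul v c hv.2 hc)
  · intro u v hu hv h
    obtain ⟨c, -, hc⟩ := (L.lift_eq_iff hu.2 hv.2 hu.1 hv.1).1 (Subtype.ext h)
    exact ⟨c, hc⟩
  · intro u v hu hv
    have h1 := L.conj_lift hu.2 hv.2 hu.1 hv.1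
    have h2 : ((lift u : G))⁻¹ = lift u := by
      have := L.sq u hu.1 hu.2
      have h3 : (lift u : G) * lift u = 1 := congrArg Subtype.val this
      exact inv_eq_of_mul_eq_one_left h3
    show (lift u : G) * lift v * (lift u : G)⁻¹ = lift _
    rw [h2]
    exact congrArg Subtype.val h1

theorem labels_of_loc {hF : Fintype.card F = 2 ^ 2} (h : Loc hF D) :
    ∀ y ∈ D, ∃ σ : (Fin 6 → F) → G, IsLabel F D y σ := fun y hy => label_of_locAt (h y hy)

/-- The field `three` of `Closing2.All`. -/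
theorem three_of_loc {hF : Fintype.card F = 2 ^ 2} (h : Loc hF D) (hsq : ∀ a ∈ D, a * a = 1) :
    ∀ a ∈ D, ∀ b ∈ D, Conn D a b → a * b = b * a ∨ (a * b) ^ 3 = 1 :=
  fun _ ha _ _ hc => three hF (labels_of_loc h) hsq ha hc

/-- The component has `3510` elements. -/
theorem card_of_loc [Finite G] {hF : Fintype.card F = 2 ^ 2} (h : Loc hF D) {d : G} (hd : d ∈ D) :
    Nat.card {b : G // Conn D d b} = 3510 := card_conn hF (labels_of_loc h) hd

/-- The field `card` of `Closing2.All`. -/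
theorem card_mod_of_loc [Finite G] {hF : Fintype.card F = 2 ^ 2} (h : Loc hF D) :
    ∀ d ∈ D, Odd (Nat.card {b : G // Conn D d b}) ∨ Nat.card {b : G // Conn D d b} % 4 = 2 :=
  fun d hd => Or.inr (by rw [card_of_loc h hd])

end Cfsg.Agent.R01.Component
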