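import Cfsg.Agent.R01.Squares
import Cfsg.Agent.R01.InvForm
import Cfsg.Agent.R01.Loc
set_option linter.all false

/-!
Fusion in a group with a transposition centraliser `2.U_6(2)`: which involutions of the centraliser
are conjugate to the central one.
-/

set_option autoImplicit false
set_option linter.unusedSectionVars false

namespace Cfsg.Agent.R01.Fusion

open Cfsg Cfsg.Agent.LieClassical.HermBasic Cfsg.Agent.ClassicalGeometry.UnitTransv
open Cfsg.Agent.SporadicStructure.UnitTwo Cfsg.Agent.R01.PSUSix Cfsg.Agent.R01.Lifts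
open Cfsg.Agent.R01.Lam Cfsg.Agent.R01.Frames Cfsg.Agent.R01.Label Cfsg.Agent.R01.InvForm
open Cfsg.Agent.R01.Squares (Baer lam_sq pair_sq pair_sq_z triple_conj trans2)
open Cfsg.Agent.R01.Start (zel)
open Cfsg.Agent.R01.Loc (LocAt)
open Cfsg.Agent.ClassicalGeometry.UnitAutBasic (tau pr pr_surjective tau_zero)

section Conversion

variable {F : Type*} [Field F] [Fintype F] {hF : Fintype.card F = 2 ^ 2}
variable {C : Type*} [Group C] {π : C →* PSU 6 F 2} {z ε : C} {lift : (Fin 6 → F) → C}

open Classical in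
/-- The system of lifts with value `1` at the zero vector. -/
noncomputable def lamOf (lift : (Fin 6 → F) → C) (v : Fin 6 → F) : C :=
  if v = 0 then 1 else lift v

theorem lamOf_zero : lamOf lift 0 = 1 := by rw [lamOf, if_pos rfl]

theorem lamOf_ne {v : Fin 6 → F} (h : v ≠ 0) : lamOf lift v = lift v := by rw [lamOf, if_neg h]

/-- A labelling with line product one is a system of lifts. -/
theorem lamSys_one (L : Lab hF π z 1 lift) : LamSys hF π z (lamOf lift) where
  ext := L.ext
  pi v hv := by
    by_cases h : v = 0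
    · rw [h, lamOf_zero, map_one, tau_zero]
    · rw [lamOf_ne h, L.map v h hv]
  conj c g v hv hc := by
    by_cases h : v = 0
    · rw [h, act_zero, lamOf_zero, mul_one, mul_inv_cancel]
    · rw [lamOf_ne h, lamOf_ne (Lab.act_ne_zero h), L.conj c g v hc h hv]
  zero := lamOf_zero
  smul a v ha hv := by
    by_cases h : v = 0
    · rw [h, smul_zero]
    · rw [lamOf_ne h, lamOf_ne (smul_ne_zero ha h), L.smul v a hv ha]
  sq v hv := by
    by_cases h : v = 0
    · rw [h, lamOf_zero, mul_one]
    · rw [lamOf_ne h, L.sq v h hv]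
  line a b ω ha hb hab hind hω := by
    have ha0 : a ≠ 0 := by
      rintro rfl
      exact one_ne_zero (hind 1 0 (by simp)).1
    have hb0 : b ≠ 0 := by
      rintro rfl
      exact one_ne_zero (hind 0 1 (by simp)).2
    have hne : ¬ ∃ c : F, b = c • a := by
      rintro ⟨c, rfl⟩
      have := (hind (-c) 1 (by rw [one_smul, neg_smul, neg_add_cancel])).2
      exact one_ne_zero this
    have h : ∀ x : F, x • a + b ≠ 0 := by
      intro x hx
      exact one_ne_zero (hind x 1 (by rw [one_smul, hx])).2
    have h1 : a + b ≠ 0 := by simpa using h 1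
    rw [lamOf_ne ha0, lamOf_ne hb0, lamOf_ne h1, lamOf_ne (h _), lamOf_ne (h _)]
    exact L.line a b ha0 hb0 ha hb hab hne ω hω

/-- A labelling with line product `z` gives a system of lifts after multiplication by `z`. -/
theorem lamSys_z (L : Lab hF π z z lift) : LamSys hF π z (lamOf (fun v => lift v * z)) := by
  have h := L.twist
  rw [L.ext.zz] at h
  exact lamSys_one h

theorem fr3_ti3 {u v w : Fin 6 → F} (h : Fr3 u v w) : TI3 u v w :=
  ⟨h.uu, h.vv, h.ww, h.uv, h.uw, h.vw, h.ind⟩

theorem ti3_fr3 {u v w : Fin 6 → F} (h : TI3 u v w) : Fr3 u v w :=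
  ⟨h.uu, h.vv, h.ww, h.uv, h.uw, h.vw, h.ind⟩

theorem fr2_ti2 {u v : Fin 6 → F} (h : Fr2 u v) : TI2 u v := ⟨h.uu, h.vv, h.uv, h.ind⟩

theorem ti2_fr2 {u v : Fin 6 → F} (h : TI2 u v) : Fr2 u v := ⟨h.uu, h.vv, h.uv, h.ind⟩

end Conversion

section Local

universe u₁ u₂
variable {F : Type u₁} [Field F] [Fintype F] {hF : Fintype.card F = 2 ^ 2}
variable {C : Type u₂} [Group C] {π : C →* PSU 6 F 2} {z : C} {lift : (Fin 6 → F) → C}
variable (L : Lab hF π z z lift)
include L

theorem pair_lam (u v : Fin 6 → F) : lift u * z * (lift v * z) = lift u * lift v := by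
  calc lift u * z * (lift v * z) = lift u * (z * lift v) * z := by group
    _ = lift u * (lift v * z) * z := by rw [← L.ext.comm]
    _ = lift u * lift v * (z * z) := by group
    _ = lift u * lift v := by rw [L.ext.zz, mul_one]

/-- `z L(v)` is a square. -/
theorem sq_one {v : Fin 6 → F} (h0 : v ≠ 0) (hv : hermForm 6 F 2 v v = 0) :
    ∃ s : C, s * s = z * lift v := by
  obtain ⟨s, hs⟩ := lam_sq (lamSys_z L) hv
  refine ⟨s, ?_⟩
  rw [hs, lamOf_ne h0, L.ext.comm]

/-- `L(u) L(v)` is a square. -/
theorem sq_two {u v : Fin 6 → F} (h : Fr2 u v) : ∃ s : C, s * s = lift u * lift v := by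
  obtain ⟨s, hs⟩ := pair_sq (lamSys_z L) (fr2_ti2 h)
  refine ⟨s, ?_⟩
  rw [hs, lamOf_ne h.u_ne, lamOf_ne h.v_ne, pair_lam L]

variable {u v w : Fin 6 → F} (B : Baer z (lamOf (fun v => lift v * z)) u v w)
include B

/-- `z L(u) L(v)` is a square. -/
theorem sq_two_z {p q : Fin 6 → F} (h : Fr2 p q) : ∃ s : C, s * s = z * (lift p * lift q) := by
  obtain ⟨ω, hω⟩ := exists_omega hF
  obtain ⟨s, hs⟩ := pair_sq_z (lamSys_z L) hω B (fr2_ti2 h)
  refine ⟨s, ?_⟩
  rw [hs, lamOf_ne h.u_ne, lamOf_ne h.v_ne, pair_lam L]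

/-- The two lifts of an element of rank three are conjugate. -/
theorem conj_three {u' v' w' : Fin 6 → F} (h : Fr3 u' v' w') :
    ∃ c : C, c * (lift u' * lift v' * lift w') * c⁻¹ = z * (lift u' * lift v' * lift w') := by
  obtain ⟨ω, hω⟩ := exists_omega hF
  obtain ⟨c, hc⟩ := triple_conj (lamSys_z L) hω B (fr3_ti3 h)
  have hz := L.ext.comm
  have hzz := L.ext.zz
  have h1 : lamOf (fun v => lift v * z) u' * lamOf (fun v => lift v * z) v' *
      lamOf (fun v => lift v * z) w' = (lift u' * lift v' * lift w') * z := by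
    rw [lamOf_ne h.u_ne, lamOf_ne h.v_ne, lamOf_ne h.w_ne, pair_lam L]
    group
  rw [h1] at hc
  refine ⟨c, ?_⟩
  set t := lift u' * lift v' * lift w' with ht
  have h2 : c * (t * z) * c⁻¹ = c * t * c⁻¹ * z := by
    calc c * (t * z) * c⁻¹ = c * t * (z * c⁻¹) := by group
      _ = c * t * (c⁻¹ * z) := by rw [hz]
      _ = c * t * c⁻¹ * z := by group
  have h3 : c * t * c⁻¹ * z = z * t * z := by rw [← h2, hc, mul_assoc z t z]
  exact mul_right_cancel h3

end Local

section Triple

variable {F : Type*} [Field F] [Fintype F] (hF : Fintype.card F = 2 ^ 2)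

include hF in
/-- A product of three commuting transvections is not one. -/
theorem tau_triple {p q r : Fin 6 → F} (hp0 : p ≠ 0) (hq0 : q ≠ 0) (hr0 : r ≠ 0)
    (hp : hermForm 6 F 2 p p = 0) (hq : hermForm 6 F 2 q q = 0) (hr : hermForm 6 F 2 r r = 0)
    (hpq : hermForm 6 F 2 p q = 0) (hpr : hermForm 6 F 2 p r = 0) (hqr : hermForm 6 F 2 q r = 0) :
    tau hF p * tau hF q * tau hF r ≠ 1 := by
  intro h
  have hrq := herm_eq_zero_swap hF hqr
  have hrp := herm_eq_zero_swap hF hpr
  have hqp := herm_eq_zero_swap hF hpq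
  by_cases hc : ∃ c : F, p = c • r
  · obtain ⟨c, rfl⟩ := hc
    have hc0 : c ≠ 0 := by
      rintro rfl
      exact hp0 (zero_smul _ _)
    rw [tau_smul hF hr hc0] at h
    have h1 : tau hF q = 1 := by
      calc tau hF q = (tau hF r * tau hF r) * tau hF q * (tau hF r * tau hF r) := by
            rw [tau_mul_self hF hr, one_mul, mul_one]
        _ = tau hF r * (tau hF r * tau hF q * tau hF r) * tau hF r := by group
        _ = 1 := by rw [h, mul_one, tau_mul_self hF hr]
    exact tau_ne_one hF (by norm_num) hq hq0 h1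
  · obtain ⟨x, hx1, hx2⟩ := exists_perp_ne hF hr0 hc
    rw [tau_eq_pr hF hp, tau_eq_pr hF hq, tau_eq_pr hF hr, ← map_mul, ← map_mul,
      ← map_one (pr 6 F 2)] at h
    obtain ⟨c, hc0, hcx⟩ := Cfsg.Agent.ClassicalGeometry.UnitAutBasic.exists_scalar_of_pr_eq hF
      (by norm_num) h
    have key : ∀ y, y + hermForm 6 F 2 y r • r + hermForm 6 F 2 y q • q + hermForm 6 F 2 y p • p =
        (c * c) • y := by
      intro y
      have h1 : act (1 : SU 6 F 2) y = c • act (T hF p hp * T hF q hq * T hF r hr) y := hcx y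
      rw [act_one, act_mul, act_mul, act_T, act_T, act_T] at h1
      have hcc : c * c = c⁻¹ := by
        have : c ≠ 0 := by
          rintro rfl
          simp at hc0
        field_simp
        linear_combination hc0
      have hc1 : c ≠ 0 := by
        rintro rfl
        simp at hc0
      have h2 : (c * c) • y = y + hermForm 6 F 2 y r • r + hermForm 6 F 2 (y + hermForm 6 F 2 y r • r) q • q +
          hermForm 6 F 2 (y + hermForm 6 F 2 y r • r + hermForm 6 F 2 (y + hermForm 6 F 2 y r • r) q • q) p • p := by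
        calc (c * c) • y = c⁻¹ • y := by rw [hcc]
          _ = c⁻¹ • (c • _) := congrArg (c⁻¹ • ·) h1
          _ = _ := by rw [smul_smul, inv_mul_cancel₀ hc1, one_smul]
      rw [h2]
      simp only [herm_add_left, herm_smul_left, hrq, hrp, hqp, mul_zero, add_zero]
    have hd : c * c = 1 := by
      have h1 := key p
      rw [hpr, hpq, hp, zero_smul, zero_smul, zero_smul, add_zero, add_zero, add_zero] at h1
      have h2 : (c * c - 1) • p = 0 := by rw [sub_smul, ← h1, one_smul, sub_self]
      rcases smul_eq_zero.1 h2 with h3 | h3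
      · exact sub_eq_zero.1 h3
      · exact absurd h3 hp0
    have h3 := key x
    rw [hd, one_smul, hx1, zero_smul, add_zero, add_assoc, add_eq_left] at h3
    have hxp : hermForm 6 F 2 x p ≠ 0 := fun h0 => hx2 (herm_eq_zero_swap hF h0)
    have h4 : p = (-(hermForm 6 F 2 x p)⁻¹ * hermForm 6 F 2 x q) • q := by
      have h5 : hermForm 6 F 2 x p • p = -(hermForm 6 F 2 x q • q) := by
        rw [eq_neg_iff_add_eq_zero, add_comm]
        exact h3
      calc p = (hermForm 6 F 2 x p)⁻¹ • (hermForm 6 F 2 x p • p) := by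
            rw [smul_smul, inv_mul_cancel₀ hxp, one_smul]
        _ = _ := by rw [h5, smul_neg, smul_smul, neg_mul, neg_smul]
    set k := -(hermForm 6 F 2 x p)⁻¹ * hermForm 6 F 2 x q with hk
    have hk0 : k ≠ 0 := by
      intro h0
      rw [h0, zero_smul] at h4
      exact hp0 h4
    rw [map_mul, map_mul, ← tau_eq_pr, ← tau_eq_pr, ← tau_eq_pr, h4, tau_smul hF hq hk0,
      tau_mul_self hF hq, one_mul, map_one] at h
    exact tau_ne_one hF (by norm_num) hr hr0 h

end Triple

section Main

universe u v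
variable {G : Type u} [Group G] {d : G} {F : Type v} [Field F] [Fintype F]
variable {hF : Fintype.card F = 2 ^ 2}
variable {π : Subgroup.centralizer ({d} : Set G) →* PSU 6 F 2}
variable {lift : (Fin 6 → F) → Subgroup.centralizer ({d} : Set G)}

theorem conj_mem_D {a : G} (h : a ∈ conjugatesOf d) (g : G) : g * a * g⁻¹ ∈ conjugatesOf d :=
  IsConj.trans (show IsConj d a from h) (isConj_iff.2 ⟨g, rfl⟩)

theorem mem_cent_of {t : G} (h : t * d = d * t) : t ∈ Subgroup.centralizer ({d} : Set G) :=
  Subgroup.mem_centralizer_singleton_iff.2 h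

variable (L : Lab hF π (zel d) (zel d) lift)

include L in
theorem dd : d * d = 1 := congrArg Subtype.val L.ext.zz

include L in
/-- No member of the class of `d` is a square. -/
theorem not_sq {x : G} (hx : x ∈ conjugatesOf d) (s : G) : s * s ≠ x := by
  obtain ⟨g, rfl⟩ := isConj_iff.1 (show IsConj d x from hx)
  intro h
  have ht : (g⁻¹ * s * g) * (g⁻¹ * s * g) = d := by
    calc (g⁻¹ * s * g) * (g⁻¹ * s * g) = g⁻¹ * (s * s) * g := by group
      _ = d := by rw [h]; group
  have hc : (g⁻¹ * s * g) * d = d * (g⁻¹ * s * g) := by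
    rw [← ht]; group
  exact z_not_square L ⟨g⁻¹ * s * g, mem_cent_of hc⟩ (Subtype.ext ht)

/-- An element of `C` of rank three. -/
def Rk3 (lift : (Fin 6 → F) → Subgroup.centralizer ({d} : Set G))
    (x : Subgroup.centralizer ({d} : Set G)) : Prop :=
  ∃ u v w c₀, Fr3 u v w ∧ (c₀ = 1 ∨ c₀ = zel d) ∧ x = c₀ * (lift u * lift v * lift w)

include L in
theorem rk3_mul_z {x : Subgroup.centralizer ({d} : Set G)} (h : Rk3 lift x) :
    Rk3 lift (x * zel d) := by
  obtain ⟨u, v, w, c₀, hf, hc, rfl⟩ := h
  refine ⟨u, v, w, c₀ * zel d, hf, ?_, ?_⟩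
  · rcases hc with rfl | rfl
    · right; rw [one_mul]
    · left; exact L.ext.zz
  · rw [mul_assoc c₀ (zel d), ← L.ext.comm (lift u * lift v * lift w), mul_assoc c₀]

variable {a₁ a₂ a₃ : Fin 6 → F} (B : Baer (zel d) (lamOf (fun v => lift v * zel d)) a₁ a₂ a₃)

include L in
theorem one_notMem {v : Fin 6 → F} (h0 : v ≠ 0) (hv : hermForm 6 F 2 v v = 0) :
    ((zel d * lift v : Subgroup.centralizer ({d} : Set G)) : G) ∉ conjugatesOf d := by
  intro h
  obtain ⟨s, hs⟩ := sq_one L h0 hv
  exact not_sq L h s (congrArg Subtype.val hs)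

include L B in
theorem two_notMem {c₀ : Subgroup.centralizer ({d} : Set G)} (hc : c₀ = 1 ∨ c₀ = zel d)
    {u v : Fin 6 → F} (hf : Fr2 u v) :
    ((c₀ * (lift u * lift v) : Subgroup.centralizer ({d} : Set G)) : G) ∉ conjugatesOf d := by
  intro h
  rcases hc with rfl | rfl
  · obtain ⟨s, hs⟩ := sq_two L hf
    exact not_sq L h s (by rw [one_mul]; exact congrArg Subtype.val hs)
  · obtain ⟨s, hs⟩ := sq_two_z L B hf
    exact not_sq L h s (congrArg Subtype.val hs)

include L in
theorem one_notMem' : (1 : G) ∉ conjugatesOf d := by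
  intro h
  obtain ⟨g, hg⟩ := isConj_iff.1 (show IsConj d 1 from h)
  apply L.ext.zne
  apply Subtype.ext
  show d = 1
  calc d = g⁻¹ * (g * d * g⁻¹) * g := by group
    _ = 1 := by rw [hg]; group

include L B in
/-- The members of `D` in the centraliser: first description. -/
theorem cases_mem {x : Subgroup.centralizer ({d} : Set G)} (hx : (x : G) ∈ conjugatesOf d)
    (hne : x ≠ zel d) :
    (∃ u, u ≠ 0 ∧ hermForm 6 F 2 u u = 0 ∧ x = lift u) ∨ Rk3 lift x := by
  have hxx : x * x = 1 := by
    obtain ⟨g, hg⟩ := isConj_iff.1 (show IsConj d x from hx)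
    apply Subtype.ext
    show (x : G) * x = 1
    rw [← hg]
    calc g * d * g⁻¹ * (g * d * g⁻¹) = g * (d * d) * g⁻¹ := by group
      _ = 1 := by rw [dd L]; group
  obtain ⟨c₀, hc, h | ⟨u, h0, hu, h⟩ | ⟨u, v, hf, h⟩ | ⟨u, v, w, hf, h⟩⟩ :=
    inv_form L (Or.inl hxx)
  · rcases hc with rfl | rfl
    · rw [h] at hx
      exact absurd hx (one_notMem' L)
    · exact absurd h hne
  · rcases hc with rfl | rfl
    · left
      exact ⟨u, h0, hu, by rw [h, one_mul]⟩
    · rw [h] at hx
      exact absurd hx (one_notMem L h0 hu)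
  · rw [h] at hx
    exact absurd hx (two_notMem L B hc hf)
  · right
    exact ⟨u, v, w, c₀, hf, hc, h⟩

include L B in
/-- If one element of rank three is in `D` then all are. -/
theorem rk3_all {x y : Subgroup.centralizer ({d} : Set G)} (hx : (x : G) ∈ conjugatesOf d)
    (hx3 : Rk3 lift x) (hy3 : Rk3 lift y) : (y : G) ∈ conjugatesOf d := by
  obtain ⟨u, v, w, c₀, hf, hc, rfl⟩ := hx3
  obtain ⟨u', v', w', c₁, hf', hc', rfl⟩ := hy3
  have hz := L.ext.comm
  have hc₀ : ∀ c, c * c₀ = c₀ * c := by
    rcases hc with rfl | rfl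
    · intro c; rw [one_mul, mul_one]
    · exact hz
  obtain ⟨c, h1, h2, h3⟩ := InvForm.trans_frames L hf hf'
  have h4 : c * (c₀ * (lift u * lift v * lift w)) * c⁻¹ =
      c₀ * (lift u' * lift v' * lift w') := by
    rw [← h1, ← h2, ← h3]
    calc c * (c₀ * (lift u * lift v * lift w)) * c⁻¹
        = (c * c₀) * (lift u * lift v * lift w) * c⁻¹ := by group
      _ = (c₀ * c) * (lift u * lift v * lift w) * c⁻¹ := by rw [hc₀]
      _ = _ := by group
  have h5 : ((c₀ * (lift u' * lift v' * lift w') : Subgroup.centralizer ({d} : Set G)) : G) ∈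
      conjugatesOf d := by
    rw [← h4]
    exact conj_mem_D hx (c : G)
  obtain ⟨e, he⟩ := conj_three L B hf'
  have h6 : e * (c₀ * (lift u' * lift v' * lift w')) * e⁻¹ =
      c₀ * (zel d * (lift u' * lift v' * lift w')) := by
    rw [← he]
    calc e * (c₀ * (lift u' * lift v' * lift w')) * e⁻¹
        = (e * c₀) * (lift u' * lift v' * lift w') * e⁻¹ := by group
      _ = (c₀ * e) * (lift u' * lift v' * lift w') * e⁻¹ := by rw [hc₀]
      _ = _ := by group
  have h7 : ((c₀ * (zel d * (lift u' * lift v' * lift w')) :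
      Subgroup.centralizer ({d} : Set G)) : G) ∈ conjugatesOf d := by
    rw [← h6]
    exact conj_mem_D h5 (e : G)
  rcases hc with rfl | rfl <;> rcases hc' with rfl | rfl
  · exact h5
  · rw [one_mul] at h7
    exact h7
  · rw [← mul_assoc, L.ext.zz] at h7
    exact h7
  · exact h5

include L B in
/-- Perspective: the elements of `D` commuting with a member `y` of `D` seen from `d`. -/
theorem persp {y t : G} {g : G} (hg : g * d * g⁻¹ = y)
    (ht : t ∈ conjugatesOf d) (hty : t * y = y * t) (hne : t ≠ y) :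
    ∃ t' : Subgroup.centralizer ({d} : Set G), (t' : G) = g⁻¹ * t * g ∧
      (t' : G) ∈ conjugatesOf d ∧ ((∃ u, u ≠ 0 ∧ hermForm 6 F 2 u u = 0 ∧ t' = lift u) ∨
        Rk3 lift t') := by
  have h1 : (g⁻¹ * t * g) * d = d * (g⁻¹ * t * g) := by
    calc (g⁻¹ * t * g) * d = g⁻¹ * (t * (g * d * g⁻¹)) * g := by group
      _ = g⁻¹ * ((g * d * g⁻¹) * t) * g := by rw [hg, hty]
      _ = d * (g⁻¹ * t * g) := by group
  have h2 : g⁻¹ * t * g ∈ conjugatesOf d := by
    have := conj_mem_D ht g⁻¹
    rwa [inv_inv] at this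
  refine ⟨⟨g⁻¹ * t * g, mem_cent_of h1⟩, rfl, h2, ?_⟩
  apply cases_mem L B h2
  intro h
  apply hne
  have h3 : g⁻¹ * t * g = d := congrArg Subtype.val h
  rw [← hg, ← h3]
  group

include L B in
/-- Rank three with respect to `y` gives a product in `D`. -/
theorem persp_rk3 {y t : G} {g : G} (hg : g * d * g⁻¹ = y)
    {t' : Subgroup.centralizer ({d} : Set G)} (ht' : (t' : G) = g⁻¹ * t * g)
    (hmem : (t' : G) ∈ conjugatesOf d) (h3 : Rk3 lift t') : t * y ∈ conjugatesOf d := by
  have h4 := rk3_all L B hmem h3 (rk3_mul_z L h3)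
  have h5 := conj_mem_D h4 g
  have h6 : g * ((t' * zel d : Subgroup.centralizer ({d} : Set G)) : G) * g⁻¹ = t * y := by
    have h7 : ((t' * zel d : Subgroup.centralizer ({d} : Set G)) : G) = (t' : G) * d := rfl
    rw [h7, ht', ← hg]
    group
  rwa [h6] at h5

include L B in
/-- No element of rank three is in `D`. -/
theorem three_notMem {x : Subgroup.centralizer ({d} : Set G)} (hx3 : Rk3 lift x) :
    (x : G) ∉ conjugatesOf d := by
  intro hx
  obtain ⟨u, v, w, -, hf, -, -⟩ := id hx3
  have hall : ∀ u v w : Fin 6 → F, Fr3 u v w →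
      ((lift u * lift v * lift w : Subgroup.centralizer ({d} : Set G)) : G) ∈ conjugatesOf d :=
    fun u v w h => rk3_all L B hx hx3 ⟨u, v, w, 1, h, Or.inl rfl, (one_mul _).symm⟩
  have hy := hall u v w hf
  set y := lift u * lift v * lift w with hyd
  obtain ⟨g, hg⟩ := isConj_iff.1 (show IsConj d y from hy)
  have huv : Commute (lift u) (lift v) := (L.commute_iff hf.uu hf.vv hf.u_ne hf.v_ne).2 hf.uv
  have huw : Commute (lift u) (lift w) := (L.commute_iff hf.uu hf.ww hf.u_ne hf.w_ne).2 hf.uw
  have hvw : Commute (lift v) (lift w) := (L.commute_iff hf.vv hf.ww hf.v_ne hf.w_ne).2 hf.vw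
  have suu := L.sq u hf.u_ne hf.uu
  have svv := L.sq v hf.v_ne hf.vv
  have sww := L.sq w hf.w_ne hf.ww
  by_cases hD : ∃ p, p ≠ 0 ∧ hermForm 6 F 2 p p = 0 ∧
      ((lift p : Subgroup.centralizer ({d} : Set G)) : G) ∈ conjugatesOf d
  · -- all lifts are in `D`
    obtain ⟨p, hp0, hp, hpD⟩ := hD
    have hone : ∀ q, q ≠ 0 → hermForm 6 F 2 q q = 0 →
        ((lift q : Subgroup.centralizer ({d} : Set G)) : G) ∈ conjugatesOf d := by
      intro q hq0 hq
      obtain ⟨c, hc⟩ := L.trans hp hq hp0 hq0
      rw [← hc]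
      exact conj_mem_D hpD (c : G)
    -- each of the three factors is of rank one with respect to `y`
    have step : ∀ q r s : Fin 6 → F, Fr3 q r s → q ≠ 0 → Commute (lift q) y →
        lift q * y = lift r * lift s →
        ∃ t' : Subgroup.centralizer ({d} : Set G), (t' : G) = g⁻¹ * (lift q : G) * g ∧
          ∃ u, u ≠ 0 ∧ hermForm 6 F 2 u u = 0 ∧ t' = lift u := by
      intro q r s h hq0 hqy hqq
      have hnot : ((lift q : G)) * (y : G) ∉ conjugatesOf d := by
        intro hmem
        refine two_notMem L B (c₀ := 1) (Or.inl rfl) (u := r) (v := s) ?_ ?_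
        · exact (h.rot hF).fr2
        · rw [one_mul, ← hqq]
          exact hmem
      have hne : (lift q : G) ≠ y := by
        intro h1
        have h1' : lift q = y := Subtype.ext h1
        rw [← h1', L.sq q hq0 h.uu] at hqq
        have hrs := (h.rot hF)
        have h2 : lift r = lift s := by
          calc lift r = lift r * (lift s * lift s) := by
                rw [L.sq s hrs.v_ne hrs.vv, mul_one]
            _ = lift r * lift s * lift s := by group
            _ = lift s := by rw [← hqq, one_mul]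
        obtain ⟨c, hc0, hc⟩ := (L.lift_eq_iff hrs.uu hrs.vv hrs.u_ne hrs.v_ne).1 h2
        exact hrs.fr2.not_mul ⟨c, hc⟩
      obtain ⟨t', h1, h2, h3 | h3⟩ := persp L B hg (hone q hq0 h.uu)
        (congrArg Subtype.val hqy.eq) hne
      · exact ⟨t', h1, h3⟩
      · exact absurd (persp_rk3 L B hg h1 h2 h3) hnot
    have hfr := hf.rot hF
    have hfrr := hfr.rot hF
    have hyu : Commute (lift u) y := ((Commute.refl _).mul_right huv).mul_right huw
    have hyv : Commute (lift v) y := (huv.symm.mul_right (Commute.refl _)).mul_right hvw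
    have hyw : Commute (lift w) y := (huw.symm.mul_right hvw.symm).mul_right (Commute.refl _)
    have eu : lift u * y = lift v * lift w := by
      calc lift u * y = (lift u * lift u) * (lift v * lift w) := by rw [hyd]; group
        _ = _ := by rw [suu, one_mul]
    have ev : lift v * y = lift w * lift u := by
      calc lift v * y = lift v * (lift u * lift v) * lift w := by rw [hyd]; group
        _ = lift v * (lift v * lift u) * lift w := by rw [huv.eq]
        _ = (lift v * lift v) * (lift u * lift w) := by group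
        _ = _ := by rw [svv, one_mul, huw.eq]
    have ew : lift w * y = lift u * lift v := by
      rw [hyw.eq, hyd, mul_assoc, sww, mul_one]
    obtain ⟨t1, h1, p1, hp10, hp1, e1⟩ := step u v w hf hf.u_ne hyu eu
    obtain ⟨t2, h2, p2, hp20, hp2, e2⟩ := step v w u hfr hf.v_ne hyv ev
    obtain ⟨t3, h3, p3, hp30, hp3, e3⟩ := step w u v hfrr hf.w_ne hyw ew
    have cc : ∀ {a b : Fin 6 → F} {s t : Subgroup.centralizer ({d} : Set G)},
        (s : G) = g⁻¹ * (lift a : G) * g → (t : G) = g⁻¹ * (lift b : G) * g →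
        Commute (lift a) (lift b) → Commute s t := by
      intro a b s t hs ht hab
      apply Subtype.ext
      show (s : G) * t = t * s
      rw [hs, ht]
      have := congrArg Subtype.val hab.eq
      have h5 : (lift a : G) * (lift b : G) = (lift b : G) * (lift a : G) := this
      calc g⁻¹ * (lift a : G) * g * (g⁻¹ * (lift b : G) * g)
          = g⁻¹ * ((lift a : G) * (lift b : G)) * g := by group
        _ = g⁻¹ * ((lift b : G) * (lift a : G)) * g := by rw [h5]
        _ = _ := by group
    have hprod : t1 * t2 * t3 = zel d := by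
      apply Subtype.ext
      show (t1 : G) * t2 * t3 = d
      rw [h1, h2, h3]
      have h5 : (y : G) = (lift u : G) * (lift v : G) * (lift w : G) := rfl
      calc g⁻¹ * (lift u : G) * g * (g⁻¹ * (lift v : G) * g) * (g⁻¹ * (lift w : G) * g)
          = g⁻¹ * ((lift u : G) * (lift v : G) * (lift w : G)) * g := by group
        _ = g⁻¹ * (g * d * g⁻¹) * g := by rw [hg, h5]
        _ = d := by group
    have c12 := cc h1 h2 huv
    have c13 := cc h1 h3 huw
    have c23 := cc h2 h3 hvw
    subst e1 e2 e3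
    have key := tau_triple hF hp10 hp20 hp30 hp1 hp2 hp3
      ((L.commute_iff hp1 hp2 hp10 hp20).1 c12) ((L.commute_iff hp1 hp3 hp10 hp30).1 c13)
      ((L.commute_iff hp2 hp3 hp20 hp30).1 c23)
    apply key
    rw [← L.map p1 hp10 hp1, ← L.map p2 hp20 hp2, ← L.map p3 hp30 hp3, ← map_mul, ← map_mul, hprod,
      L.ext.mapz]
  · -- no lift is in `D`
    have hf' : Fr3 u v (u + w) := by
      refine ⟨hf.uu, hf.vv, ?_, hf.uv, ?_, ?_, ?_⟩
      · rw [herm_add_left, herm_add_right hF, herm_add_right hF, hf.uu, hf.uw, hf.ww,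
          herm_eq_zero_swap hF hf.uw]
        ring
      · rw [herm_add_right hF, hf.uu, hf.uw, add_zero]
      · rw [herm_add_right hF, hf.vw, herm_eq_zero_swap hF hf.uv, add_zero]
      · intro a b c h
        have := hf.ind (a + c) b c (by rw [← h, add_smul, smul_add]; abel)
        refine ⟨?_, this.2.1, this.2.2⟩
        have h1 := this.1
        rwa [this.2.2, add_zero] at h1
    have hf2 : Fr2 w (u + w) := by
      refine ⟨hf.ww, hf'.ww, ?_, ?_⟩
      · rw [herm_add_right hF, herm_eq_zero_swap hF hf.uw, hf.ww, add_zero]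
      · intro a b h
        have := hf.ind b 0 (a + b) (by rw [← h, add_smul, smul_add, zero_smul]; abel)
        refine ⟨?_, this.1⟩
        have h1 := this.2.2
        rwa [this.1, add_zero] at h1
    have hy' := hall u v (u + w) hf'
    set y' := lift u * lift v * lift (u + w) with hyd'
    have huw' : Commute (lift u) (lift (u + w)) :=
      (L.commute_iff hf.uu hf'.ww hf.u_ne hf'.w_ne).2 hf'.uw
    have hvw' : Commute (lift v) (lift (u + w)) :=
      (L.commute_iff hf.vv hf'.ww hf.v_ne hf'.w_ne).2 hf'.vw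
    have hww' : Commute (lift w) (lift (u + w)) :=
      (L.commute_iff hf.ww hf'.ww hf.w_ne hf'.w_ne).2 hf2.uv
    have hc1 : Commute (lift u * lift v) (lift w) := huw.mul_left hvw
    have hc2 : Commute (lift u * lift v) (lift (u + w)) := huw'.mul_left hvw'
    have hcomm : Commute y' y := by
      rw [hyd, hyd']
      exact ((Commute.refl _).mul_left hc2.symm).mul_right (hc1.mul_left hww'.symm)
    have hprod : y' * y = lift (u + w) * lift w := by
      have h4 : (lift u * lift v) * (lift u * lift v) = 1 := by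
        calc (lift u * lift v) * (lift u * lift v) = lift u * (lift v * lift u) * lift v := by group
          _ = lift u * (lift u * lift v) * lift v := by rw [huv.eq]
          _ = (lift u * lift u) * (lift v * lift v) := by group
          _ = 1 := by rw [suu, svv, one_mul]
      calc y' * y = (lift u * lift v) * (lift (u + w) * (lift u * lift v)) * lift w := by
            rw [hyd, hyd']; group
        _ = (lift u * lift v) * ((lift u * lift v) * lift (u + w)) * lift w := by rw [hc2.eq]
        _ = ((lift u * lift v) * (lift u * lift v)) * (lift (u + w) * lift w) := by group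
        _ = _ := by rw [h4, one_mul]
    have hnot : (y' : G) * (y : G) ∉ conjugatesOf d := by
      intro hmem
      refine two_notMem L B (c₀ := 1) (Or.inl rfl) hf2 ?_
      rw [one_mul, hww'.eq, ← hprod]
      exact hmem
    have hne : (y' : G) ≠ y := by
      intro h1
      have h1' : y' = y := Subtype.ext h1
      have h2 : lift (u + w) = lift w := by
        rw [hyd, hyd'] at h1'
        exact mul_left_cancel h1'
      obtain ⟨c, hc0, hc⟩ := (L.lift_eq_iff hf.ww hf'.ww hf.w_ne hf'.w_ne).1 h2.symm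
      exact hf2.not_mul ⟨c, hc⟩
    obtain ⟨t', h1, h2, h3 | h3⟩ := persp L B hg hy' (congrArg Subtype.val hcomm.eq) hne
    · obtain ⟨p, hp0, hp, rfl⟩ := h3
      exact hD ⟨p, hp0, hp, h2⟩
    · exact hnot (persp_rk3 L B hg h1 h2 h3)

include L B in
/-- **Fusion.** The members of the class of `d` that commute with `d` are `d` and the `L(v)`. -/
theorem mem_iff (hnwc : ∃ x : Subgroup.centralizer ({d} : Set G), (x : G) ∈ conjugatesOf d ∧
    x ≠ zel d) (x : Subgroup.centralizer ({d} : Set G)) :
    (x : G) ∈ conjugatesOf d ↔ x = zel d ∨ x ∈ Dset lift := by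
  have hcase : ∀ x : Subgroup.centralizer ({d} : Set G), (x : G) ∈ conjugatesOf d → x ≠ zel d →
      ∃ u, u ≠ 0 ∧ hermForm 6 F 2 u u = 0 ∧ x = lift u := by
    intro x hx hne
    rcases cases_mem L B hx hne with h | h
    · exact h
    · exact absurd hx (three_notMem L B h)
  constructor
  · intro hx
    by_cases hne : x = zel d
    · exact Or.inl hne
    · exact Or.inr (hcase x hx hne)
  · rintro (rfl | ⟨v, hv0, hv, rfl⟩)
    · exact IsConj.refl d
    · obtain ⟨y, hy, hne⟩ := hnwc
      obtain ⟨u, hu0, hu, rfl⟩ := hcase y hy hne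
      obtain ⟨c, hc⟩ := L.trans hu hv hu0 hv0
      rw [← hc]
      exact conj_mem_D hy (c : G)

end Main

end Cfsg.Agent.R01.Fusion
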