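import Cfsg.Agent.R01.AllOfLoc23
import Cfsg.Agent.R01.AllOfLab
import Cfsg.Agent.R01.FiFacts
set_option linter.all false

/-!
The facts `Geo T`, `AllInv T` on the class of transpositions of `Fi22` used by the bridge of S1714, from the facts
`TFacts T` and the local hypothesis `Loc hF T`; transport of a chart to the conjugates.
-/

set_option autoImplicit false

namespace Cfsg.Agent.R01.Loc23

open Cfsg Cfsg.Agent.R01.Lifts Cfsg.Agent.R01.Start Cfsg.Agent.R01.Closing
open Cfsg.Agent.R01.Label Cfsg.Agent.R01.Loc Cfsg.Agent.R01.FiFacts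

universe u v w

section Facts

variable {P : Type v} [Group P] {T : Set P}

theorem Tri.to {a b c : P} (h : Tri T a b c) : FiFusion.Tri T a b c :=
  ⟨h.ha, h.hb, h.hc, h.ab, h.ac, h.bc, h.cab, h.cac, h.cbc⟩

theorem Tri.of {a b c : P} (h : FiFusion.Tri T a b c) : Tri T a b c :=
  ⟨h.mx, h.my, h.mw, h.xy, h.xw, h.yw, h.cxy, h.cxw, h.cyw⟩

/-- Two non-commuting members commuting with a triple. -/
theorem noncomm_of_loc {F : Type w} [Field F] [Fintype F] {hF : Fintype.card F = 2 ^ 2}
    (hL : Loc hF T) {a b c : P} (ht : Tri T a b c) :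
    ∃ e ∈ T, ∃ f ∈ T, e * f ≠ f * e ∧ e * a = a * e ∧
    e * b = b * e ∧ e * c = c * e ∧ f * a = a * f ∧ f * b = b * f ∧ f * c = c * f := by
  obtain ⟨π, lift, L, hiff⟩ := hL a ht.ha
  have hb := AllOfLab.mem_Dset_of hiff ht.hb ht.cab.symm ht.ab.symm
  have hc := AllOfLab.mem_Dset_of hiff ht.hc ht.cac.symm ht.ac.symm
  obtain ⟨-, -, e, he, f, hf, h0, h1, h2, h3, h4⟩ := AllOfLab.config L hb hc
    (fun h5 => ht.bc (congrArg Subtype.val h5)) (Subtype.ext ht.cbc)
  have cc : ∀ {x y : Subgroup.centralizer ({a} : Set P)}, Commute x y → (x : P) * y = y * x :=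
    fun h5 => congrArg Subtype.val h5.eq
  exact ⟨e, (hiff e).2 (Or.inr he), f, (hiff f).2 (Or.inr hf), fun h5 => h0 (Subtype.ext h5),
    (AllOfLab.zel_comm e).symm, cc h1, cc h2, (AllOfLab.zel_comm f).symm, cc h3, cc h4⟩

/-- The facts of the bridge. -/
theorem geo_of_facts {F : Type w} [Field F] [Fintype F] {hF : Fintype.card F = 2 ^ 2}
    (h : TFacts T) (hL : Loc hF T) : Geo T where
  sq := h.sq
  ne := h.ne
  nonempty := by
    obtain ⟨a, b, c, c', ht, -⟩ := h.four
    exact ⟨a, ht.mx⟩
  second := by
    intro a ha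
    obtain ⟨a', b', c', -, ht, -⟩ := h.four
    obtain ⟨g, hg⟩ := h.trans a' ht.mx a ha
    refine ⟨g * b' * g⁻¹, h.conj g _ ht.my, ?_, ?_⟩
    · intro h5
      rw [← hg] at h5
      exact ht.xy (mul_left_cancel (mul_right_cancel h5))
    · rw [← hg]
      calc g * a' * g⁻¹ * (g * b' * g⁻¹) = g * (a' * b') * g⁻¹ := by group
        _ = g * (b' * a') * g⁻¹ := by rw [ht.cxy]
        _ = g * b' * g⁻¹ * (g * a' * g⁻¹) := by group
  third := by
    intro a ha b hb hab hc
    obtain ⟨x₁, x₂, x₃, x₄, y₁, y₂, hx, -⟩ := h.elat a ha b hb hab hc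
    exact ⟨x₁, Tri.of hx.t⟩
  two := h.two
  hexad := by
    intro a b c ht
    obtain ⟨a', b', c', hx⟩ := h.hex a b c ht.to
    refine ⟨![a, b, c, a', b', c'], ⟨?_, ?_, ?_, ?_⟩, rfl, rfl, rfl⟩
    · intro i
      fin_cases i
      exacts [hx.t.mx, hx.t.my, hx.t.mw, hx.t'.mx, hx.t'.my, hx.t'.mw]
    · intro i j hij
      fin_cases i <;> fin_cases j <;> first
        | rfl
        | exact absurd hij hx.t.xy
        | exact absurd hij hx.t.xw
        | exact absurd hij hx.t.yw
        | exact absurd hij hx.t'.xy
        | exact absurd hij hx.t'.xw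
        | exact absurd hij hx.t'.yw
        | exact absurd hij hx.aa
        | exact absurd hij hx.ab
        | exact absurd hij hx.ac
        | exact absurd hij hx.ba
        | exact absurd hij hx.bb
        | exact absurd hij hx.bc
        | exact absurd hij hx.ca
        | exact absurd hij hx.cb
        | exact absurd hij hx.cc
        | exact absurd hij.symm hx.t.xy
        | exact absurd hij.symm hx.t.xw
        | exact absurd hij.symm hx.t.yw
        | exact absurd hij.symm hx.t'.xy
        | exact absurd hij.symm hx.t'.xw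
        | exact absurd hij.symm hx.t'.yw
        | exact absurd hij.symm hx.aa
        | exact absurd hij.symm hx.ab
        | exact absurd hij.symm hx.ac
        | exact absurd hij.symm hx.ba
        | exact absurd hij.symm hx.bb
        | exact absurd hij.symm hx.bc
        | exact absurd hij.symm hx.ca
        | exact absurd hij.symm hx.cb
        | exact absurd hij.symm hx.cc
    · intro i j
      fin_cases i <;> fin_cases j <;> first
        | rfl
        | exact hx.t.cxy
        | exact hx.t.cxw
        | exact hx.t.cyw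
        | exact hx.t'.cxy
        | exact hx.t'.cxw
        | exact hx.t'.cyw
        | exact hx.caa
        | exact hx.cab
        | exact hx.cac
        | exact hx.cba
        | exact hx.cbb
        | exact hx.cbc
        | exact hx.cca
        | exact hx.ccb
        | exact hx.ccc
        | exact hx.t.cxy.symm
        | exact hx.t.cxw.symm
        | exact hx.t.cyw.symm
        | exact hx.t'.cxy.symm
        | exact hx.t'.cxw.symm
        | exact hx.t'.cyw.symm
        | exact hx.caa.symm
        | exact hx.cab.symm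
        | exact hx.cac.symm
        | exact hx.cba.symm
        | exact hx.cbb.symm
        | exact hx.cbc.symm
        | exact hx.cca.symm
        | exact hx.ccb.symm
        | exact hx.ccc.symm
    · show a * b * c * a' * b' * c' = 1
      rw [← hx.prod]
      group
  noncomm := fun a b c ht => noncomm_of_loc hL ht
  link := h.link

/-- Every involution is a product of at most three commuting members. -/
theorem allInv_of_facts (h : TFacts T)
    (hfix : ∀ s : P, s * s = 1 → s ≠ 1 → ∃ t ∈ T, s * t = t * s)
    (hg : Geo T) : AllInv T := by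
  intro s hs hs1
  rcases h.inv s hs (hfix s hs hs1) with h5 | h5 | ⟨a, ha, b, hb, hab, hc, h5⟩ | ⟨a, b, c, ht, h5⟩
  · exact absurd h5 hs1
  · obtain ⟨b, c, ht⟩ := hg.exists_tri h5
    exact ⟨s, b, c, ht, Or.inl rfl⟩
  · obtain ⟨c, ht⟩ := hg.third a ha b hb hab hc
    exact ⟨a, b, c, ht, Or.inr (Or.inl h5)⟩
  · exact ⟨a, b, c, Tri.of ht, Or.inr (Or.inr h5)⟩

end Facts

section Transport

variable {P : Type v} [Group P] {T : Set P} {G : Type u} [Group G] {D : Set G}

/-- Transport of a chart to a conjugate. -/
theorem Chart.conj (hD : ∀ g : G, ∀ a ∈ D, g * a * g⁻¹ ∈ D) {d : G}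
    {π : Subgroup.centralizer ({d} : Set G) →* P} {D0 : Set (Subgroup.centralizer ({d} : Set G))}
    (h : Chart T D d π D0) (g : G) :
    Chart T D (g * d * g⁻¹) (π.comp (conjCent g d).symm.toMonoidHom) (conjCent g d '' D0) where
  ext :=
    { surj := h.ext.surj.comp (conjCent g d).symm.surjective
      zz := by rw [← conjCent_zel, ← map_mul, h.ext.zz, map_one]
      zne := fun h5 => h.ext.zne (by
        apply (conjCent g d).injective
        rw [conjCent_zel, h5, map_one])
      ker := fun c => by
        show π ((conjCent g d).symm c) = 1 ↔ _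
        obtain ⟨c, rfl⟩ := (conjCent g d).surjective c
        rw [MulEquiv.symm_apply_apply, h.ext.ker, ← conjCent_zel, (conjCent g d).injective.eq_iff,
          ← (conjCent g d).injective.eq_iff (b := 1), map_one]
      comm := fun c => by
        obtain ⟨c, rfl⟩ := (conjCent g d).surjective c
        rw [← conjCent_zel, ← map_mul, ← map_mul, h.ext.comm] }
  perf := by
    rw [eq_top_iff]
    intro x _
    obtain ⟨c, rfl⟩ := (conjCent g d).surjective x
    have hc : c ∈ commutator (Subgroup.centralizer ({d} : Set G)) := by rw [h.perf]; trivial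
    have h1 : Subgroup.map (conjCent g d).toMonoidHom
        (commutator (Subgroup.centralizer ({d} : Set G))) ≤
        commutator (Subgroup.centralizer ({g * d * g⁻¹} : Set G)) := by
      rw [commutator_def, commutator_def, Subgroup.map_commutator]
      exact Subgroup.commutator_mono le_top le_top
    exact h1 ⟨c, hc, rfl⟩
  bij := by
    refine ⟨?_, ?_, ?_⟩
    · rintro _ ⟨x, hx, rfl⟩
      show π ((conjCent g d).symm (conjCent g d x)) ∈ T
      rw [MulEquiv.symm_apply_apply]
      exact h.map_mem hx
    · rintro _ ⟨x, hx, rfl⟩ _ ⟨y, hy, rfl⟩ hxy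
      have hxy' : π ((conjCent g d).symm (conjCent g d x)) =
        π ((conjCent g d).symm (conjCent g d y)) := hxy
      rw [MulEquiv.symm_apply_apply, MulEquiv.symm_apply_apply] at hxy'
      rw [h.inj hx hy hxy']
    · intro t ht
      obtain ⟨x, hx, rfl⟩ := h.lift ht
      refine ⟨conjCent g d x, ⟨x, hx, rfl⟩, ?_⟩
      show π ((conjCent g d).symm (conjCent g d x)) = π x
      rw [MulEquiv.symm_apply_apply]
  sq0 := by
    rintro _ ⟨x, hx, rfl⟩
    rw [← map_mul, h.sq0 x hx, map_one]
  comm := by
    rintro _ ⟨x, hx, rfl⟩ _ ⟨y, hy, rfl⟩ hxy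
    have hxy' : π ((conjCent g d).symm (conjCent g d x)) * π ((conjCent g d).symm (conjCent g d y)) =
      π ((conjCent g d).symm (conjCent g d y)) * π ((conjCent g d).symm (conjCent g d x)) := hxy
    rw [MulEquiv.symm_apply_apply, MulEquiv.symm_apply_apply] at hxy'
    rw [← map_mul, ← map_mul, h.comm x hx y hy hxy']
  hexad := by
    intro x hx hH
    choose y hy hyx using hx
    have e : (fun i => (π.comp (conjCent g d).symm.toMonoidHom) (x i)) = fun i => π (y i) := by
      funext i
      show π ((conjCent g d).symm (x i)) = π (y i)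
      rw [← hyx, MulEquiv.symm_apply_apply]
    rw [e] at hH
    rw [← hyx, ← hyx, ← hyx, ← hyx, ← hyx, ← hyx, ← map_mul, ← map_mul, ← map_mul, ← map_mul,
      ← map_mul, h.hexad y hy hH, conjCent_zel]
  mem := by
    intro x
    obtain ⟨x, rfl⟩ := (conjCent g d).surjective x
    have h1 : ((conjCent g d x : Subgroup.centralizer ({g * d * g⁻¹} : Set G)) : G) ∈ D ↔
        (x : G) ∈ D := by
      rw [coe_conjCent]
      constructor
      · intro h5
        have := hD g⁻¹ _ h5
        have h2 : g⁻¹ * (g * (x : G) * g⁻¹) * g⁻¹⁻¹ = x := by group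
        rwa [h2] at this
      · exact hD g _
    rw [h1, h.mem, ← conjCent_zel, (conjCent g d).injective.eq_iff,
      (conjCent g d).injective.mem_set_image]

theorem conj_closed (d : G) : ∀ g : G, ∀ a ∈ conjugatesOf d, g * a * g⁻¹ ∈ conjugatesOf d := by
  intro g a ha
  exact IsConj.trans (show IsConj d a from ha) (isConj_iff.2 ⟨g, rfl⟩)

/-- From one member to the whole class. -/
theorem loc23_of_chart {d : G} {π : Subgroup.centralizer ({d} : Set G) →* P}
    {D0 : Set (Subgroup.centralizer ({d} : Set G))} (h : Chart T (conjugatesOf d) d π D0) :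
    Loc23 T (conjugatesOf d) := by
  intro x hx
  obtain ⟨g, rfl⟩ := isConj_iff.1 (show IsConj d x from hx)
  exact ⟨_, _, h.conj (conj_closed d) g⟩

/-- **The bridge**, from the chart at one member. -/
theorem all_of_chart {d : G} {π : Subgroup.centralizer ({d} : Set G) →* P}
    {D0 : Set (Subgroup.centralizer ({d} : Set G))} (hg : Geo T) (hinv : AllInv T)
    (h : Chart T (conjugatesOf d) d π D0)
    (hthree : ∀ a ∈ conjugatesOf d, ∀ b ∈ conjugatesOf d, Conn (conjugatesOf d) a b →
      a * b = b * a ∨ (a * b) ^ 3 = 1)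
    (hcard : ∀ a ∈ conjugatesOf d, Odd (Nat.card {b : G // Conn (conjugatesOf d) a b}) ∨
      Nat.card {b : G // Conn (conjugatesOf d) a b} % 4 = 2) :
    Closing2.All (conjugatesOf d) :=
  all hg hinv (conj_closed d) ⟨d, mem_conjugatesOf_self⟩ (loc23_of_chart h) hthree hcard

end Transport

end Cfsg.Agent.R01.Loc23
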