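import Mathlib
import Cfsg.Agent.ClassicalGeometry.HermFrame
import Cfsg.Agent.SporadicStructure.UnitTwo
set_option linter.all false

-- part: R01/HermCode
section
/-!
# The polar space `H(5,4)` on codes

A vector of `F₄⁶` is coded by a number below `4096`: the bits `2k+1`, `2k` are the coefficients of
`ω` and `1` of coordinate `k`. Addition is `^^^`. The Hermitian form is the one with
`h(b_i, b_{5-i}) = 1`. We prove that a set of isotropic points which meets every totally isotropic
line in `0` or `2` points, is closed under third points of hyperbolic lines and contains six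
particular points is a certain explicit set of `126` points.
-/

set_option autoImplicit false

namespace Cfsg.Agent.R01.HermCode

/-- Bit test. -/
def tb (m n : ℕ) : Bool := Nat.beq (Nat.land (Nat.shiftRight m n) 1) 1

/-- Parity table of the numbers below `4096`. -/
def PT : ℕ := 0x6996966996696996966969966996966996696996699696696996966996696996966969966996966969969669966969966996966996696996966969966996966996696996699696696996966996696996699696699669699696696996699696696996966996696996966969966996966996696996699696696996966996696996966969966996966969969669966969966996966996696996966969966996966969969669966969969669699669969669966969966996966969969669966969966996966996696996966969966996966996696996699696696996966996696996966969966996966969969669966969966996966996696996966969966996966996696996699696696996966996696996699696699669699696696996699696696996966996696996966969966996966996696996699696696996966996696996699696699669699696696996699696699669699669969669699696699669699696696996699696696996966996696996699696699669699696696996699696696996966996696996966969966996966996696996699696696996966996696996966969966996966969969669966969966996966996696996966969966996966996696996699696696996966996696996699696699669699696696996699696696996966996696996966969966996966996696996699696696996966996696996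

/-- Reversal of the coordinates. -/
def rev (c : ℕ) : ℕ :=
  Nat.lor (Nat.shiftLeft (Nat.land c 3) 10) (Nat.lor (Nat.shiftLeft (Nat.land c 12) 6)
    (Nat.lor (Nat.shiftLeft (Nat.land c 48) 2) (Nat.lor (Nat.land (Nat.shiftRight c 2) 48)
    (Nat.lor (Nat.land (Nat.shiftRight c 6) 12) (Nat.land (Nat.shiftRight c 10) 3)))))

/-- Exchange of the two bits of each coordinate. -/
def swp (y : ℕ) : ℕ :=
  Nat.lor (Nat.land (Nat.shiftRight y 1) 1365) (Nat.land (Nat.shiftLeft y 1) 2730)

/-- Conjugation of each coordinate. -/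
def cnj (y : ℕ) : ℕ := Nat.xor y (Nat.land (Nat.shiftRight y 1) 1365)

/-- Coefficient of `ω` of the form. -/
def hHi (a c : ℕ) : Bool := tb PT (Nat.land a (swp (rev c)))

/-- Coefficient of `1` of the form. -/
def hLo (a c : ℕ) : Bool := tb PT (Nat.land a (cnj (rev c)))

/-- The form vanishes. -/
def orth (a c : ℕ) : Bool := !(hHi a c) && !(hLo a c)

/-- The form is one. -/
def hOne (a c : ℕ) : Bool := !(hHi a c) && hLo a c

/-- Multiplication by `ω`. -/
def w (c : ℕ) : ℕ :=
  Nat.lor (Nat.land (Nat.shiftRight c 1) 1365) (Nat.land (Nat.xor c (Nat.shiftLeft c 1)) 2730)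

/-- Codes of non-zero isotropic vectors. -/
def isPt (c : ℕ) : Bool := Nat.blt c 4096 && !(Nat.beq c 0) && orth c c

/-- `c` is a multiple of `a`. -/
def mult (a c : ℕ) : Bool := Nat.beq c a || Nat.beq c (w a) || Nat.beq c (w (w a))

/-- A set of points meeting every line in `0` or `2` points and closed under third points. -/
structure Hyp (S : ℕ → Prop) : Prop where
  smul : ∀ a, isPt a = true → S a → S (w a)
  third : ∀ a c, isPt a = true → isPt c = true → hOne a c = true → S a → S c → S (a ^^^ c)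
  line : ∀ a c, isPt a = true → isPt c = true → orth a c = true → mult a c = false → S a →
    (S c ∧ ¬ S (a ^^^ c) ∧ ¬ S (a ^^^ w c) ∧ ¬ S (a ^^^ w (w c))) ∨
    (¬ S c ∧ S (a ^^^ c) ∧ ¬ S (a ^^^ w c) ∧ ¬ S (a ^^^ w (w c))) ∨
    (¬ S c ∧ ¬ S (a ^^^ c) ∧ S (a ^^^ w c) ∧ ¬ S (a ^^^ w (w c))) ∨
    (¬ S c ∧ ¬ S (a ^^^ c) ∧ ¬ S (a ^^^ w c) ∧ S (a ^^^ w (w c)))

/-- Deduction steps. -/
inductive Op
  | H (a c : ℕ)
  | HO (a c : ℕ)
  | L2 (a c : ℕ)
  | L1 (a c : ℕ)

/-- Add the multiples of `c` to the mask `m`. -/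
def put (m c : ℕ) : ℕ :=
  Nat.lor m (Nat.lor (Nat.shiftLeft 1 c) (Nat.lor (Nat.shiftLeft 1 (w c))
    (Nat.shiftLeft 1 (w (w c)))))

/-- The code and its multiples are codes of isotropic vectors, and `ω ^ 3 = 1`. -/
def ptOk (c : ℕ) : Bool := isPt c && isPt (w c) && isPt (w (w c)) && Nat.beq (w (w (w c))) c

/-- One step of the check. -/
def step (s : ℕ × ℕ) : Op → ℕ × ℕ
  | .H a c => if tb s.1 a && tb s.1 c && hOne a c && ptOk (Nat.xor a c) then
      (put s.1 (Nat.xor a c), s.2) else s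
  | .HO a c => if tb s.1 a && tb s.2 c && hOne a (Nat.xor a c) && ptOk (Nat.xor a c) then
      (s.1, put s.2 (Nat.xor a c)) else s
  | .L2 a c => if tb s.1 a && tb s.1 c && orth a c && !(mult a c) && ptOk (Nat.xor a c) then
      (s.1, put s.2 (Nat.xor a c)) else s
  | .L1 a c => if tb s.1 a && tb s.2 c && tb s.2 (Nat.xor a c) &&
      tb s.2 (Nat.xor a (w c)) && orth a c && !(mult a c) && ptOk (Nat.xor a (w (w c))) then
      (put s.1 (Nat.xor a (w (w c))), s.2) else s

/-- A contradictory line. -/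
def contra (s : ℕ × ℕ) (a c : ℕ) : Bool :=
  tb s.1 a && tb s.2 c && tb s.2 (Nat.xor a c) && tb s.2 (Nat.xor a (w c)) &&
  tb s.2 (Nat.xor a (w (w c))) && orth a c && !(mult a c)

/-- The part in the perp of the first point. -/
def certN : List Op :=
  [.H 64 16, .H 256 4, .H 21 64, .H 21 256, .L2 1 12, .L2 1 32, .L2 4 48, .L1 21 52, .L2 1 8,
   .L2 1 48, .L2 4 32, .L1 21 49, .H 80 21, .H 260 21, .H 85 256, .H 85 260, .H 277 80,
   .H 30 64, .H 30 768, .H 30 80, .H 30 780, .H 30 85, .H 30 831, .H 27 64, .H 27 512,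
   .H 69 260, .L2 260 160, .HO 256 7, .HO 64 18, .L1 341 241, .HO 256 6, .HO 64 19,
   .L2 260 240, .L1 341 83, .H 341 57, .H 341 45, .L2 256 160, .L2 256 3, .L1 337 848,
   .L2 256 2, .L2 256 240, .L1 337 496, .H 337 57, .H 337 45, .L2 1 42, .HO 80 22, .HO 85 258,
   .L2 256 48, .HO 85 800, .L1 273 410, .L2 1 63, .HO 80 23, .HO 85 259, .L2 256 32,
   .HO 85 560, .L1 273 954, .L2 64 3, .L2 64 8, .HO 256 196, .L1 325 67, .L2 64 2, .L2 64 12,
   .HO 256 132, .L1 325 193, .H 94 554, .H 94 546, .H 94 650, .H 295 255, .H 78 780,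
   .H 78 682, .H 78 975, .H 291 1023]

/-- The good case. -/
def cert0 : List Op :=
  [.H 1024 1, .H 1024 21, .H 1024 85, .H 1024 277, .H 1024 57, .H 1024 45, .H 1024 69,
   .H 1024 273, .H 1024 341, .H 1024 337, .H 1024 325, .H 1024 249, .H 1024 569, .H 1024 201,
   .H 1024 561, .H 1024 141, .H 1024 801, .H 1024 173, .H 1024 813, .H 1024 321, .H 1024 941,
   .H 1024 761, .H 1024 929, .H 1024 753, .H 1024 713, .H 1024 909, .H 1024 705, .H 1024 897,
   .H 1025 21, .H 1025 85, .H 1025 277, .H 1025 57, .H 1025 45, .H 1025 69, .H 1025 273,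
   .H 1025 341, .H 1025 337, .H 1025 325, .H 1025 249, .H 1025 569, .H 1025 201, .H 1025 561,
   .H 1025 141, .H 1025 801, .H 1025 173, .H 1025 813, .H 1025 321, .H 1025 941, .H 1025 761,
   .H 1025 929, .H 1025 753, .H 1025 713, .H 1025 909, .H 1025 705, .H 1025 897, .H 1045 167,
   .H 1045 798, .H 1045 135, .H 1045 786, .H 1045 198, .H 1045 531, .H 1045 246, .H 1045 539,
   .H 1109 39, .H 1109 54, .H 1109 135, .H 1109 198, .H 1301 30, .H 1301 27, .H 1301 786,
   .H 1301 531, .H 1081 138, .H 1081 819, .H 1081 91, .H 1081 310, .H 1069 207, .H 1069 546,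
   .H 1069 94, .H 1069 295]

/-- The bad case `1028`. -/
def cert1 : List Op :=
  [.L2 64 1028, .HO 444 2184, .L2 1028 160, .HO 391 3164, .L2 1028 682, .HO 256 3063,
   .L2 1028 240, .HO 27 1268]

/-- The bad case `3076`. -/
def cert2 : List Op :=
  [.L2 1032 48, .HO 488 2076, .L2 1032 32, .HO 325 1064, .L2 1032 16, .HO 91 2092,
   .L2 295 1032, .HO 256 2613]

/-- The bad case `2052`. -/
def cert3 : List Op :=
  [.L2 1036 929, .HO 325 2550, .L2 1036 498, .HO 408 1534, .L2 1036 80, .HO 27 2212,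
   .L2 1036 595, .HO 291 3578]

/-- Pairs of points of the hyperoval whose sums give all other points. -/
def outPairs : List (ℕ × ℕ) :=
  [(1291, 1294), (64, 75), (1729, 1736), (1092, 1109), (4, 39), (1932, 1965), (1345, 1365),
   (4, 57), (1164, 1202), (472, 492), (1092, 1139), (4, 30), (387, 423), (1802, 1836),
   (1197, 1202), (450, 387), (321, 450), (325, 391), (1224, 1164), (1921, 1802), (1543, 1737),
   (1092, 1224), (1234, 1045), (1344, 1290), (1025, 1225), (64, 198), (4, 75), (1348, 1301),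
   (1123, 1170), (1164, 1069), (1196, 1272), (1799, 1964), (325, 492), (360, 412),
   (1543, 1776), (1224, 1170), (1737, 1585), (1, 167), (1, 94), (1108, 1365), (1294, 1551),
   (321, 579), (1802, 1551), (64, 587), (1799, 1294), (1825, 1585), (325, 628), (492, 255),
   (1093, 1361), (69, 888), (321, 872), (391, 167), (1799, 1044), (1344, 1122), (376, 612),
   (1932, 1171), (1825, 1543), (1164, 1964), (1728, 1234), (454, 740), (450, 246), (260, 798),
   (1798, 1585), (1301, 1109), (1776, 1139), (21, 660), (1296, 1108), (64, 909), (1250, 1836),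
   (1092, 1300), (1965, 1294), (1921, 1139), (69, 273), (21, 1000), (1837, 1235), (21, 380),
   (1799, 1234), (1164, 1585), (1364, 1081), (1932, 1109), (1543, 1202), (1345, 1080),
   (75, 724), (1932, 1297), (1068, 1361), (1250, 1803), (291, 713), (321, 897), (1349, 1542),
   (1165, 1295), (1585, 1273), (380, 249), (64, 454), (450, 91), (391, 872), (69, 819),
   (454, 91), (1921, 1272), (387, 761), (1736, 1080), (391, 724), (1297, 1203), (1728, 1080),
   (1550, 1361), (1291, 1197), (1345, 1272), (325, 255), (387, 862), (488, 85), (1952, 1225),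
   (502, 668), (472, 920), (310, 884), (472, 27), (360, 740), (1344, 1802), (260, 650),
   (1, 472), (1799, 1202), (1, 620), (1, 476), (1, 952), (1123, 1542), (1296, 1273),
   (321, 724), (498, 612), (1345, 1196), (472, 54), (1, 628), (1069, 1933), (80, 1011),
   (1251, 1296), (1024, 1964), (472, 45), (1251, 1300), (64, 1092), (64, 1093), (16, 2076),
   (1273, 240), (1294, 3338), (1836, 801), (1836, 2844), (1348, 341), (16, 3108), (488, 2502),
   (1543, 539), (1025, 3111), (1953, 897), (1164, 173), (1542, 546), (1025, 2078), (16, 1080),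
   (16, 1081), (423, 3463), (1123, 3185), (1952, 916), (1139, 2140), (1122, 94), (1224, 2275),
   (1109, 21), (1296, 337), (1024, 2244), (1736, 2575), (488, 3360), (1920, 3846),
   (1196, 2140), (1092, 21), (1291, 3495), (1273, 160), (1543, 603), (1092, 3298),
   (1092, 3327), (1224, 3185), (1092, 2193), (1933, 3888), (1802, 868), (1297, 3492),
   (1294, 376), (1092, 2218), (325, 3488), (1092, 63), (1164, 3099), (1109, 42), (1092, 3204),
   (4, 2246), (64, 2184), (4, 3147), (1197, 3169), (4, 1165), (1196, 2257), (387, 1300),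
   (1737, 595), (1122, 249), (1344, 3495), (1921, 798), (260, 2548), (1164, 45), (1728, 612),
   (1164, 2259), (1251, 75), (1273, 80), (1348, 498), (1092, 2090), (321, 3364), (450, 3492),
   (1139, 3236), (1920, 831), (1123, 2275), (64, 2050), (1349, 3341), (1122, 167),
   (1296, 476), (1932, 2823), (69, 1171), (1164, 91), (1068, 246), (1164, 3297), (1798, 984),
   (1164, 2102), (488, 1294), (1297, 502), (1045, 255), (1044, 255), (1235, 3236),
   (1234, 3239), (260, 3492), (1251, 3249), (78, 3298), (1025, 3163), (488, 1300),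
   (1345, 444), (1802, 3338), (80, 1361), (1836, 3364), (16, 1301), (1068, 310), (1344, 91),
   (1920, 3495), (1348, 91), (1921, 2193), (364, 2910), (1024, 2844), (16, 2602), (1543, 813),
   (1824, 2102), (295, 2832), (1933, 674), (1164, 444), (1776, 3298), (260, 2844),
   (1799, 2088), (1737, 1011), (1932, 2218), (1921, 2216), (1836, 531), (1234, 408),
   (69, 1294), (1234, 412), (1171, 476), (78, 1300), (1349, 30), (1250, 444), (423, 1272),
   (1349, 39), (1092, 295), (1348, 4095), (1349, 4092), (1799, 2259), (325, 1068),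
   (1803, 2259), (1728, 941), (1777, 3170), (295, 1108), (1349, 2728), (1348, 2730),
   (1728, 952), (450, 2908), (1349, 57), (1585, 3239), (1784, 888), (376, 1273), (69, 3849),
   (1344, 2575), (1921, 2244), (423, 1068), (450, 2821), (1044, 2910), (1069, 2908),
   (78, 3900), (423, 2892), (423, 2894), (1736, 3108), (1224, 337), (1250, 3590), (75, 3888),
   (360, 1224), (80, 2722), (488, 2832), (1250, 3608), (1543, 941), (391, 1068), (423, 2896),
   (1964, 2294), (1348, 246), (1799, 692), (1932, 2273), (1348, 2602), (1921, 569),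
   (321, 1272), (1123, 2827), (1025, 444), (325, 2821), (69, 2567), (1093, 3597), (64, 4047),
   (1837, 2216), (1203, 376), (1202, 380), (1344, 3845), (1965, 2076), (1729, 786),
   (75, 2592), (450, 1045), (1736, 3236), (75, 4092), (1952, 636), (1543, 3169), (256, 1250),
   (1728, 3249), (1348, 3903), (1164, 2834), (1224, 2908), (1348, 173), (1345, 173),
   (1344, 173), (1024, 3664), (80, 4083), (1024, 3672), (1165, 376), (1122, 408), (321, 2844),
   (1965, 595), (454, 1081), (94, 2910), (1592, 57), (80, 2908), (64, 2894), (360, 3160),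
   (1542, 3364), (450, 3327), (1584, 39), (16, 3364), (1250, 4044), (1836, 306), (1592, 39),
   (1092, 612), (450, 3281), (1799, 3132), (1344, 2142), (260, 1836), (1345, 872), (1584, 30),
   (1542, 2844), (69, 2910), (1068, 539), (1234, 748), (1585, 3364), (1543, 3463),
   (1197, 748), (1092, 4047), (1965, 3108), (1952, 488), (64, 3463), (1165, 3850),
   (1164, 3849), (1836, 380), (1344, 2227), (450, 3135), (1290, 2292), (1024, 2548),
   (1802, 3236), (94, 3495), (1965, 498), (502, 3111), (1737, 170), (291, 3327), (488, 1933),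
   (1798, 364), (1250, 2356), (1092, 4080), (295, 3324), (454, 3111), (69, 3495),
   (1348, 2216), (1250, 2317), (1837, 3250), (321, 3239), (1952, 476), (1092, 569),
   (488, 2600), (488, 2602), (454, 2573), (1921, 3144), (364, 2720), (64, 1737), (1543, 2894),
   (1364, 2078), (1296, 2145), (1348, 2102), (1802, 3298), (1737, 3363), (488, 2567),
   (1344, 2102), (1164, 2548), (454, 2592), (364, 3132), (1295, 2140), (325, 3096),
   (94, 1785), (80, 1784), (1932, 3186), (1964, 3163), (387, 1836), (1251, 3888), (325, 3111),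
   (1295, 2147), (295, 3144), (1251, 3900), (1348, 1023), (69, 1785), (1777, 3367),
   (1729, 2892), (21, 2908), (64, 2823), (1785, 54), (1921, 3298), (21, 3495), (1785, 45),
   (1301, 2218), (1345, 2292), (260, 3250), (1296, 2216), (1799, 3169), (1932, 3327),
   (488, 1803), (1092, 3900), (391, 3096), (1164, 4083), (1736, 2910), (21, 1785),
   (1081, 724), (1197, 603), (1171, 612), (1825, 2696), (1965, 2567), (1197, 941),
   (1068, 813), (1953, 173), (1920, 141), (1798, 2358), (1825, 48), (1122, 884), (1802, 2356),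
   (1836, 54), (1123, 888), (1728, 476), (376, 2142), (1345, 2908), (1344, 2910), (1952, 138),
   (1921, 170), (1803, 3611), (1543, 310), (1728, 502), (1164, 2722), (450, 1784),
   (1798, 3611), (260, 1592), (1109, 872), (1542, 2246), (1251, 2592), (1920, 198),
   (64, 1799), (295, 2216), (1360, 539), (1799, 75), (1251, 2600), (1736, 408), (1081, 872),
   (1295, 3236), (1108, 2730), (1092, 798), (454, 3888), (1295, 595), (1798, 91), (391, 2100),
   (1301, 3236), (1784, 412), (1025, 868), (1736, 2076), (295, 4080), (1824, 78), (423, 1736),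
   (488, 3849), (1344, 3281), (1296, 612), (1824, 85), (1092, 2720), (1093, 2722),
   (1921, 255), (260, 2193), (1953, 39), (1349, 2827), (1250, 872), (1736, 3845), (1294, 668),
   (1551, 412), (450, 2090), (1345, 724), (1953, 57), (1225, 3367), (1344, 3239),
   (1345, 3236), (1234, 884), (1824, 135), (1234, 888), (1932, 39), (1776, 2193),
   (1344, 3217), (1736, 380), (1932, 57), (1728, 376), (1025, 952), (1932, 3675), (1953, 30),
   (1251, 3491), (1799, 198), (1776, 310), (64, 2313), (64, 2319), (1920, 75), (1802, 198),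
   (1164, 2567), (1837, 255), (1836, 255), (1921, 85), (387, 3900), (1224, 3492),
   (1123, 3341), (325, 4092), (1824, 255), (256, 2163), (325, 2100), (364, 4080), (1836, 201),
   (1736, 2140), (1824, 201), (1348, 682), (1251, 780), (1798, 246), (1543, 502), (1122, 916),
   (325, 2076), (1799, 3672), (321, 2076), (260, 1784), (1025, 2730)]

/-- The hyperoval, all multiples. -/
def M0mask : ℕ := 0x90090000000090090000000000000000000000000000000090090000000006600000000000000000000000000000000000000000090909090000000009096060000000000000000000000099000000990000000000000000000000990000660090000006000690000006009000060090000600060900090090000090090000090000000000000000000000000000000000000000500550050000000050050aa0000000000000000000000505000005050000000000000000000005050000a0a0005500000000005500000000000000000000000000000000005500000000aa000050000a000a0050000a0500000a0500000a000a5000500000500500500000050000000000000000000030030000300300000000000000000000300300000cc0030300000000030300000000000000000000000000000000030300000000c0c0000000000000000000000000000000000000000000330033000000000033cc000300000c000c0300000c3000000c3000000c000c003000300300300000300003800801100110800801102002011020020110011040044004800820024004100102021010101002021010040410100404101010100808080802020404080801010044110011000044110000881100008811001100002200220044008800220011824100000000824100002481000024810000000048214821824124814821111e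

/-- The hyperoval, one code per point. -/
def M0list : List ℕ :=
  [1, 4, 16, 21, 27, 30, 64, 69, 75, 78, 80, 85, 91, 94, 256, 260, 273, 277, 291, 295, 306,
   310, 321, 325, 337, 341, 360, 364, 376, 380, 387, 391, 408, 412, 419, 423, 440, 444, 450,
   454, 472, 476, 488, 492, 498, 502, 1024, 1025, 1044, 1045, 1068, 1069, 1080, 1081, 1092,
   1093, 1108, 1109, 1122, 1123, 1138, 1139, 1164, 1165, 1170, 1171, 1196, 1197, 1202, 1203,
   1224, 1225, 1234, 1235, 1250, 1251, 1272, 1273, 1290, 1291, 1294, 1295, 1296, 1297, 1300,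
   1301, 1344, 1345, 1348, 1349, 1360, 1361, 1364, 1365, 1542, 1543, 1550, 1551, 1584, 1585,
   1592, 1593, 1728, 1729, 1736, 1737, 1776, 1777, 1784, 1785, 1798, 1799, 1802, 1803, 1824,
   1825, 1836, 1837, 1920, 1921, 1932, 1933, 1952, 1953, 1964, 1965]

/-- The mask after `certN`. -/
def iN : ℕ := 0x800801100110800801102002011020020110011040044004800820024004100102021010101002021010040410100404101010100808080802020404080801010044110011000044110000881100008811001100002200220044008800220011824100000000824100002481000024810000000048214821824124814821111e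

/-- The mask of excluded points after `certN`. -/
def oN : ℕ := 0x6000000000000000040010010000100000200000100110000000000100016006010180000000010000000a000000000000000020010101000001000000010a0a001100008000001000000011040000100000000000c0000000010001000000cc00060000000061160000000a00001a1a00000000000c11cc61161a1a11cc6ac0

/-- The starting mask. -/
def start : ℕ := put (put (put (put (put (put 0 1) 4) 16) 64) 256) 21

theorem certN_eq : certN.foldl step (start, 0) = (iN, oN) := by decide +kernel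

theorem cert0_eq : (cert0.foldl step (put iN 1024, oN)).1 = M0mask := by decide +kernel

theorem cert1_eq : contra (cert1.foldl step (put iN 1028, oN)) 321 1836 = true := by decide +kernel

theorem cert2_eq : contra (cert2.foldl step (put iN 3076, oN)) 387 1964 = true := by decide +kernel

theorem cert3_eq : contra (cert3.foldl step (put iN 2052, oN)) 4 1122 = true := by decide +kernel

/-- The codes of the non-members: sum of two orthogonal members. -/
def outMask : ℕ := outPairs.foldr (fun p m => put m (Nat.xor p.1 p.2)) 0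

/-- Validity of a pair. -/
def pairOk (p : ℕ × ℕ) : Bool :=
  tb M0mask p.1 && tb M0mask p.2 && orth p.1 p.2 && !(mult p.1 p.2) && ptOk (Nat.xor p.1 p.2)

theorem pairs_ok : outPairs.all pairOk = true := by decide +kernel

theorem cover : ∀ x < 64, ∀ y < 64, isPt (64 * x + y) = true →
    (tb M0mask (64 * x + y) || tb outMask (64 * x + y)) = true := by decide +kernel

/-! ### Soundness -/

theorem tb_eq (m n : ℕ) : tb m n = m.testBit n := by
  have h : ∀ k : ℕ, Nat.beq (k &&& 1) 1 = ((1 &&& k) != 0) := by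
    intro k
    rw [Nat.and_comm 1 k, Nat.and_one_is_mod]
    rcases Nat.mod_two_eq_zero_or_one k with h | h <;> rw [h] <;> rfl
  exact h (m >>> n)

theorem tb_put (m c x : ℕ) :
    tb (put m c) x = (tb m x || (decide (x = c) || (decide (x = w c) ||
      decide (x = w (w c))))) := by
  have h : ∀ y : ℕ, (1 <<< y).testBit x = decide (x = y) := by
    intro y
    rw [Nat.one_shiftLeft, Nat.testBit_two_pow]
    exact decide_eq_decide.2 eq_comm
  simp only [tb_eq]
  show (m ||| ((1 <<< c) ||| ((1 <<< w c) ||| (1 <<< w (w c))))).testBit x = _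
  simp only [Nat.testBit_or, h]

theorem beq_iff {a c : ℕ} : Nat.beq a c = true ↔ a = c := by
  rw [Nat.beq_eq]

theorem beq_false_iff {a c : ℕ} : Nat.beq a c = false ↔ a ≠ c := by
  rw [← Bool.not_eq_true, beq_iff]

/-- The invariant of the deduction. -/
structure Inv (S : ℕ → Prop) (s : ℕ × ℕ) : Prop where
  ins : ∀ c, tb s.1 c = true → isPt c = true ∧ S c
  outs : ∀ c, tb s.2 c = true → isPt c = true ∧ ¬ S c

theorem ptOk_spec {c : ℕ} (h : ptOk c = true) :
    isPt c = true ∧ isPt (w c) = true ∧ isPt (w (w c)) = true ∧ w (w (w c)) = c := by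
  simp only [ptOk, Bool.and_eq_true, beq_iff, and_assoc] at h
  exact h

variable {S : ℕ → Prop}

theorem Inv.put_in (hS : Hyp S) {s : ℕ × ℕ} (h : Inv S s) {c : ℕ} (hc : ptOk c = true)
    (hSc : S c) : Inv S (put s.1 c, s.2) := by
  obtain ⟨h1, h2, h3, -⟩ := ptOk_spec hc
  refine ⟨fun x hx => ?_, h.outs⟩
  simp only [tb_put, Bool.or_eq_true, decide_eq_true_eq] at hx
  rcases hx with hx | rfl | rfl | rfl
  · exact h.ins x hx
  · exact ⟨h1, hSc⟩
  · exact ⟨h2, hS.smul _ h1 hSc⟩
  · exact ⟨h3, hS.smul _ h2 (hS.smul _ h1 hSc)⟩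

theorem Inv.put_out (hS : Hyp S) {s : ℕ × ℕ} (h : Inv S s) {c : ℕ} (hc : ptOk c = true)
    (hSc : ¬ S c) : Inv S (s.1, put s.2 c) := by
  obtain ⟨h1, h2, h3, h4⟩ := ptOk_spec hc
  refine ⟨h.ins, fun x hx => ?_⟩
  simp only [tb_put, Bool.or_eq_true, decide_eq_true_eq] at hx
  rcases hx with hx | rfl | rfl | rfl
  · exact h.outs x hx
  · exact ⟨h1, hSc⟩
  · refine ⟨h2, fun h5 => hSc ?_⟩
    have := hS.smul _ h3 (hS.smul _ h2 h5)
    rwa [h4] at this
  · refine ⟨h3, fun h5 => hSc ?_⟩
    have := hS.smul _ h3 h5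
    rwa [h4] at this

theorem Inv.step (hS : Hyp S) {s : ℕ × ℕ} (h : Inv S s) (op : Op) : Inv S (step s op) := by
  cases op with
  | H a c =>
    simp only [HermCode.step]
    split_ifs with hc
    · simp only [Bool.and_eq_true] at hc
      obtain ⟨⟨⟨ha, hc⟩, h1⟩, h2⟩ := hc
      exact h.put_in hS h2 (hS.third a c (h.ins a ha).1 (h.ins c hc).1 h1 (h.ins a ha).2
        (h.ins c hc).2)
    · exact h
  | HO a c =>
    simp only [HermCode.step]
    split_ifs with hc
    · simp only [Bool.and_eq_true] at hc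
      obtain ⟨⟨⟨ha, hc⟩, h1⟩, h2⟩ := hc
      refine h.put_out hS h2 fun h3 => (h.outs c hc).2 ?_
      have := hS.third a (a ^^^ c) (h.ins a ha).1 (ptOk_spec h2).1 h1 (h.ins a ha).2 h3
      rwa [Nat.xor_xor_cancel_left] at this
    · exact h
  | L2 a c =>
    simp only [HermCode.step]
    split_ifs with hc
    · simp only [Bool.and_eq_true, Bool.not_eq_true'] at hc
      obtain ⟨⟨⟨⟨ha, hc⟩, h1⟩, h2⟩, h3⟩ := hc
      refine h.put_out hS h3 ?_
      rcases hS.line a c (h.ins a ha).1 (h.ins c hc).1 h1 h2 (h.ins a ha).2 with h4 | h4 | h4 | h4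
      · exact h4.2.1
      · exact absurd (h.ins c hc).2 h4.1
      · exact absurd (h.ins c hc).2 h4.1
      · exact absurd (h.ins c hc).2 h4.1
    · exact h
  | L1 a c =>
    simp only [HermCode.step]
    split_ifs with hc
    · simp only [Bool.and_eq_true, Bool.not_eq_true'] at hc
      obtain ⟨⟨⟨⟨⟨⟨ha, hc⟩, h5⟩, h6⟩, h1⟩, h2⟩, h3⟩ := hc
      refine h.put_in hS h3 ?_
      rcases hS.line a c (h.ins a ha).1 (h.outs c hc).1 h1 h2 (h.ins a ha).2 with h4 | h4 | h4 | h4
      · exact absurd h4.1 (h.outs c hc).2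
      · exact absurd h4.2.1 (h.outs _ h5).2
      · exact absurd h4.2.2.1 (h.outs _ h6).2
      · exact h4.2.2.2
    · exact h

theorem Inv.foldl (hS : Hyp S) (l : List Op) {s : ℕ × ℕ} (h : Inv S s) :
    Inv S (l.foldl HermCode.step s) := by
  induction l generalizing s with
  | nil => exact h
  | cons op l ih => exact ih (h.step hS op)

theorem Inv.not_contra (hS : Hyp S) {s : ℕ × ℕ} (h : Inv S s) {a c : ℕ}
    (hc : contra s a c = true) : False := by
  simp only [contra, Bool.and_eq_true, Bool.not_eq_true'] at hc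
  obtain ⟨⟨⟨⟨⟨⟨ha, hc⟩, h5⟩, h6⟩, h7⟩, h1⟩, h2⟩ := hc
  rcases hS.line a c (h.ins a ha).1 (h.outs c hc).1 h1 h2 (h.ins a ha).2 with h4 | h4 | h4 | h4
  · exact (h.outs c hc).2 h4.1
  · exact (h.outs _ h5).2 h4.2.1
  · exact (h.outs _ h6).2 h4.2.2.1
  · exact (h.outs _ h7).2 h4.2.2.2

theorem blt_iff {a c : ℕ} : Nat.blt a c = true ↔ a < c := by
  show Nat.ble (a + 1) c = true ↔ _
  rw [Nat.ble_eq]
  exact Iff.rfl

theorem isPt_iff {c : ℕ} : isPt c = true ↔ c < 4096 ∧ c ≠ 0 ∧ orth c c = true := by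
  simp only [isPt, Bool.and_eq_true, blt_iff, Bool.not_eq_true', beq_false_iff, and_assoc]

theorem isPt_lt {c : ℕ} (h : isPt c = true) : c < 4096 := (isPt_iff.1 h).1

theorem cover' {c : ℕ} (h : isPt c = true) :
    tb M0mask c = true ∨ tb outMask c = true := by
  have h1 := isPt_lt h
  have h2 : 64 * (c / 64) + c % 64 = c := Nat.div_add_mod c 64
  have := cover (c / 64) (by omega) (c % 64) (by omega) (by rw [h2]; exact h)
  rw [h2, Bool.or_eq_true] at this
  exact this

theorem mem_outMask (l : List (ℕ × ℕ)) {c : ℕ}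
    (h : tb (l.foldr (fun p m => put m (Nat.xor p.1 p.2)) 0) c = true) :
    ∃ p ∈ l, c = p.1 ^^^ p.2 ∨ c = w (p.1 ^^^ p.2) ∨ c = w (w (p.1 ^^^ p.2)) := by
  induction l with
  | nil => rw [tb_eq] at h; simp at h
  | cons q l ih =>
    simp only [List.foldr_cons, tb_put, Bool.or_eq_true, decide_eq_true_eq] at h
    rcases h with h | h
    · obtain ⟨p, hp, h⟩ := ih h
      exact ⟨p, List.mem_cons_of_mem _ hp, h⟩
    · exact ⟨q, List.mem_cons_self, h⟩

theorem init_inv (hS : Hyp S) (h0 : S 1) (h1 : S 4) (h2 : S 16) (h3 : S 64) (h4 : S 256)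
    (h5 : S 21) : Inv S (start, 0) := by
  have e : Inv S (0, 0) := ⟨fun c hc => by rw [tb_eq] at hc; simp at hc,
    fun c hc => by rw [tb_eq] at hc; simp at hc⟩
  have e0 := e.put_in hS (c := 1) (by decide +kernel) h0
  have e1 := e0.put_in hS (c := 4) (by decide +kernel) h1
  have e2 := e1.put_in hS (c := 16) (by decide +kernel) h2
  have e3 := e2.put_in hS (c := 64) (by decide +kernel) h3
  have e4 := e3.put_in hS (c := 256) (by decide +kernel) h4
  exact e4.put_in hS (c := 21) (by decide +kernel) h5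

/-- The hyperovals of `H(5,4)` closed under third points: after normalisation there is just one. -/
theorem unique (hS : Hyp S) (h0 : S 1) (h1 : S 4) (h2 : S 16) (h3 : S 64) (h4 : S 256)
    (h5 : S 21) {c : ℕ} (hc : isPt c = true) : S c ↔ tb M0mask c = true := by
  have hN : Inv S (iN, oN) := by
    rw [← certN_eq]
    exact (init_inv hS h0 h1 h2 h3 h4 h5).foldl hS certN
  have hfin : ∀ c, tb M0mask c = true → isPt c = true ∧ S c := by
    have e1 : 4 ^^^ 1024 = 1028 := by decide
    have e2 : 4 ^^^ w 1024 = 2052 := by decide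
    have e3 : 4 ^^^ w (w 1024) = 3076 := by decide
    have := hS.line 4 1024 (by decide +kernel) (by decide +kernel) (by decide +kernel)
      (by decide +kernel) h1
    rw [e1, e2, e3] at this
    rcases this with h | h | h | h
    · have := (hN.put_in hS (c := 1024) (by decide +kernel) h.1).foldl hS cert0
      rw [← cert0_eq]
      exact this.ins
    · exact ((hN.put_in hS (c := 1028) (by decide +kernel) h.2.1).foldl hS cert1).not_contra hS
        cert1_eq |>.elim
    · exact ((hN.put_in hS (c := 2052) (by decide +kernel) h.2.2.1).foldl hS cert3).not_contra hS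
        cert3_eq |>.elim
    · exact ((hN.put_in hS (c := 3076) (by decide +kernel) h.2.2.2).foldl hS cert2).not_contra hS
        cert2_eq |>.elim
  refine ⟨fun h => ?_, fun h => (hfin c h).2⟩
  by_contra hn
  rcases cover' hc with h6 | h6
  · exact hn h6
  obtain ⟨p, hp, h7⟩ := mem_outMask _ h6
  have hok := List.all_eq_true.1 pairs_ok p hp
  simp only [pairOk, Bool.and_eq_true, Bool.not_eq_true'] at hok
  obtain ⟨⟨⟨⟨a1, a2⟩, a3⟩, a4⟩, a5⟩ := hok
  obtain ⟨b1, b2, b3, b4⟩ := ptOk_spec a5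
  have hns : ¬ S (p.1 ^^^ p.2) := by
    rcases hS.line p.1 p.2 (hfin _ a1).1 (hfin _ a2).1 a3 a4 (hfin _ a1).2 with h8 | h8 | h8 | h8
    · exact h8.2.1
    · exact absurd (hfin _ a2).2 h8.1
    · exact absurd (hfin _ a2).2 h8.1
    · exact absurd (hfin _ a2).2 h8.1
  rcases h7 with rfl | rfl | rfl
  · exact hns h
  · apply hns
    have := hS.smul _ b3 (hS.smul _ b2 h)
    rw [b4] at this
    exact this
  · apply hns
    have := hS.smul _ b3 h
    rw [b4] at this
    exact this

/-! ### The form in terms of bits -/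

theorem PT_spec : ∀ x < 64, ∀ y < 64, tb PT (64 * x + y) =
    ((64 * x + y).testBit 0 ^^ ((64 * x + y).testBit 1 ^^ ((64 * x + y).testBit 2 ^^
    ((64 * x + y).testBit 3 ^^ ((64 * x + y).testBit 4 ^^ ((64 * x + y).testBit 5 ^^
    ((64 * x + y).testBit 6 ^^ ((64 * x + y).testBit 7 ^^ ((64 * x + y).testBit 8 ^^
    ((64 * x + y).testBit 9 ^^ ((64 * x + y).testBit 10 ^^
    (64 * x + y).testBit 11))))))))))) := by decide +kernel

theorem PT_spec' {n : ℕ} (hn : n < 4096) : tb PT n =
    (n.testBit 0 ^^ (n.testBit 1 ^^ (n.testBit 2 ^^ (n.testBit 3 ^^ (n.testBit 4 ^^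
    (n.testBit 5 ^^ (n.testBit 6 ^^ (n.testBit 7 ^^ (n.testBit 8 ^^ (n.testBit 9 ^^
    (n.testBit 10 ^^ n.testBit 11))))))))))) := by
  have h2 : 64 * (n / 64) + n % 64 = n := Nat.div_add_mod n 64
  have := PT_spec (n / 64) (by omega) (n % 64) (by omega)
  rwa [h2] at this

theorem k3 : ∀ i < 24, Nat.testBit 3 i = (i == 0 || i == 1) := by decide
theorem k12 : ∀ i < 24, Nat.testBit 12 i = (i == 2 || i == 3) := by decide
theorem k48 : ∀ i < 24, Nat.testBit 48 i = (i == 4 || i == 5) := by decide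
theorem k1365 : ∀ i < 24, Nat.testBit 1365 i = (i % 2 == 0 && decide (i < 12)) := by decide
theorem k2730 : ∀ i < 24, Nat.testBit 2730 i = (i % 2 == 1 && decide (i < 12)) := by decide

theorem testBit_rev (c : ℕ) : ∀ i < 12, (rev c).testBit i =
    c.testBit (if i % 2 = 0 then 10 - i else 12 - i) := by
  intro i hi
  have : (rev c) = ((c &&& 3) <<< 10 ||| ((c &&& 12) <<< 6 ||| ((c &&& 48) <<< 2 |||
    ((c >>> 2) &&& 48 ||| ((c >>> 6) &&& 12 ||| (c >>> 10) &&& 3))))) := rfl
  rw [this]
  simp only [Nat.testBit_shiftLeft, Nat.testBit_shiftRight, Nat.testBit_and,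
    Nat.testBit_or]
  interval_cases i <;> simp [k3, k12, k48]

theorem testBit_swp (c : ℕ) : ∀ i < 12, (swp c).testBit i =
    c.testBit (if i % 2 = 0 then i + 1 else i - 1) := by
  intro i hi
  have : (swp c) = (((c >>> 1) &&& 1365) ||| ((c <<< 1) &&& 2730)) := rfl
  rw [this]
  simp only [Nat.testBit_shiftLeft, Nat.testBit_shiftRight, Nat.testBit_and,
    Nat.testBit_or]
  interval_cases i <;> simp [k1365, k2730]

theorem testBit_cnj (c : ℕ) : ∀ i < 12, (cnj c).testBit i =
    (c.testBit i ^^ (i % 2 == 0 && c.testBit (i + 1))) := by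
  intro i hi
  have : (cnj c) = (c ^^^ ((c >>> 1) &&& 1365)) := rfl
  rw [this]
  simp only [Nat.testBit_shiftRight, Nat.testBit_and, Nat.testBit_xor]
  interval_cases i <;> simp [k1365]

theorem testBit_w (c : ℕ) : ∀ i < 12, (w c).testBit i =
    (c.testBit (if i % 2 = 0 then i + 1 else i) ^^ (i % 2 == 1 && c.testBit (i - 1))) := by
  intro i hi
  have : (w c) = (((c >>> 1) &&& 1365) ||| ((c ^^^ (c <<< 1)) &&& 2730)) := rfl
  rw [this]
  simp only [Nat.testBit_shiftRight, Nat.testBit_shiftLeft, Nat.testBit_and, Nat.testBit_or,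
    Nat.testBit_xor]
  interval_cases i <;> simp [k1365, k2730]

theorem w_lt (c : ℕ) : w c < 4096 := by
  have h1 : (c >>> 1) &&& 1365 ≤ 1365 := Nat.and_le_right
  have h2 : (c ^^^ (c <<< 1)) &&& 2730 ≤ 2730 := Nat.and_le_right
  have h3 := Nat.or_lt_two_pow (x := (c >>> 1) &&& 1365) (y := (c ^^^ (c <<< 1)) &&& 2730)
    (n := 12) (by omega) (by omega)
  exact h3

theorem hHi_spec {a : ℕ} (ha : a < 4096) (c : ℕ) : hHi a c =
    ((a.testBit 0 && c.testBit 11) ^^ ((a.testBit 1 && c.testBit 10) ^^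
    ((a.testBit 2 && c.testBit 9) ^^ ((a.testBit 3 && c.testBit 8) ^^
    ((a.testBit 4 && c.testBit 7) ^^ ((a.testBit 5 && c.testBit 6) ^^
    ((a.testBit 6 && c.testBit 5) ^^ ((a.testBit 7 && c.testBit 4) ^^
    ((a.testBit 8 && c.testBit 3) ^^ ((a.testBit 9 && c.testBit 2) ^^
    ((a.testBit 10 && c.testBit 1) ^^ (a.testBit 11 && c.testBit 0)))))))))))) := by
  have h : hHi a c = tb PT (a &&& swp (rev c)) := rfl
  rw [h, PT_spec' (lt_of_le_of_lt Nat.and_le_left ha)]
  simp [Nat.testBit_and, testBit_swp, testBit_rev, -Nat.testBit_zero]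

theorem hLo_spec {a : ℕ} (ha : a < 4096) (c : ℕ) : hLo a c =
    ((a.testBit 0 && (c.testBit 10 ^^ c.testBit 11)) ^^ ((a.testBit 1 && c.testBit 11) ^^
    ((a.testBit 2 && (c.testBit 8 ^^ c.testBit 9)) ^^ ((a.testBit 3 && c.testBit 9) ^^
    ((a.testBit 4 && (c.testBit 6 ^^ c.testBit 7)) ^^ ((a.testBit 5 && c.testBit 7) ^^
    ((a.testBit 6 && (c.testBit 4 ^^ c.testBit 5)) ^^ ((a.testBit 7 && c.testBit 5) ^^
    ((a.testBit 8 && (c.testBit 2 ^^ c.testBit 3)) ^^ ((a.testBit 9 && c.testBit 3) ^^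
    ((a.testBit 10 && (c.testBit 0 ^^ c.testBit 1)) ^^
    (a.testBit 11 && c.testBit 1)))))))))))) := by
  have h : hLo a c = tb PT (a &&& cnj (rev c)) := rfl
  rw [h, PT_spec' (lt_of_le_of_lt Nat.and_le_left ha)]
  simp [Nat.testBit_and, testBit_cnj, testBit_rev, -Nat.testBit_zero]

/-! ### Counting -/

/-- The smallest multiple. -/
def canon (c : ℕ) : Bool := Nat.ble c (w c) && Nat.ble c (w (w c))

/-- The codes, one for each point. -/
def pts : List ℕ :=
  [1, 4, 5, 6, 7, 16, 17, 18, 19, 20, 21, 22, 23, 24, 25, 26, 27, 28, 29, 30, 31, 64, 65, 66,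
   67, 68, 69, 70, 71, 72, 73, 74, 75, 76, 77, 78, 79, 80, 81, 82, 83, 84, 85, 86, 87, 88, 89,
   90, 91, 92, 93, 94, 95, 256, 257, 258, 259, 260, 261, 262, 263, 272, 273, 274, 275, 276, 277,
   278, 279, 288, 289, 290, 291, 292, 293, 294, 295, 304, 305, 306, 307, 308, 309, 310, 311,
   320, 321, 322, 323, 324, 325, 326, 327, 336, 337, 338, 339, 340, 341, 342, 343, 360, 361,
   362, 363, 364, 365, 366, 367, 376, 377, 378, 379, 380, 381, 382, 383, 384, 385, 386, 387,
   388, 389, 390, 391, 408, 409, 410, 411, 412, 413, 414, 415, 416, 417, 418, 419, 420, 421,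
   422, 423, 440, 441, 442, 443, 444, 445, 446, 447, 448, 449, 450, 451, 452, 453, 454, 455,
   472, 473, 474, 475, 476, 477, 478, 479, 488, 489, 490, 491, 492, 493, 494, 495, 496, 497,
   498, 499, 500, 501, 502, 503, 1024, 1025, 1028, 1029, 1032, 1033, 1036, 1037, 1040, 1041,
   1044, 1045, 1048, 1049, 1052, 1053, 1056, 1057, 1060, 1061, 1064, 1065, 1068, 1069, 1072,
   1073, 1076, 1077, 1080, 1081, 1084, 1085, 1088, 1089, 1092, 1093, 1096, 1097, 1100, 1101,
   1104, 1105, 1108, 1109, 1112, 1113, 1116, 1117, 1122, 1123, 1126, 1127, 1130, 1131, 1134,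
   1135, 1138, 1139, 1142, 1143, 1146, 1147, 1150, 1151, 1152, 1153, 1156, 1157, 1160, 1161,
   1164, 1165, 1170, 1171, 1174, 1175, 1178, 1179, 1182, 1183, 1184, 1185, 1188, 1189, 1192,
   1193, 1196, 1197, 1202, 1203, 1206, 1207, 1210, 1211, 1214, 1215, 1216, 1217, 1220, 1221,
   1224, 1225, 1228, 1229, 1234, 1235, 1238, 1239, 1242, 1243, 1246, 1247, 1250, 1251, 1254,
   1255, 1258, 1259, 1262, 1263, 1264, 1265, 1268, 1269, 1272, 1273, 1276, 1277, 1280, 1281,
   1284, 1285, 1290, 1291, 1294, 1295, 1296, 1297, 1300, 1301, 1306, 1307, 1310, 1311, 1312,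
   1313, 1316, 1317, 1322, 1323, 1326, 1327, 1328, 1329, 1332, 1333, 1338, 1339, 1342, 1343,
   1344, 1345, 1348, 1349, 1354, 1355, 1358, 1359, 1360, 1361, 1364, 1365, 1370, 1371, 1374,
   1375, 1378, 1379, 1382, 1383, 1384, 1385, 1388, 1389, 1394, 1395, 1398, 1399, 1400, 1401,
   1404, 1405, 1408, 1409, 1412, 1413, 1418, 1419, 1422, 1423, 1426, 1427, 1430, 1431, 1432,
   1433, 1436, 1437, 1440, 1441, 1444, 1445, 1450, 1451, 1454, 1455, 1458, 1459, 1462, 1463,
   1464, 1465, 1468, 1469, 1472, 1473, 1476, 1477, 1482, 1483, 1486, 1487, 1490, 1491, 1494,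
   1495, 1496, 1497, 1500, 1501, 1506, 1507, 1510, 1511, 1512, 1513, 1516, 1517, 1520, 1521,
   1524, 1525, 1530, 1531, 1534, 1535, 1536, 1537, 1542, 1543, 1544, 1545, 1550, 1551, 1552,
   1553, 1558, 1559, 1560, 1561, 1566, 1567, 1568, 1569, 1574, 1575, 1576, 1577, 1582, 1583,
   1584, 1585, 1590, 1591, 1592, 1593, 1598, 1599, 1600, 1601, 1606, 1607, 1608, 1609, 1614,
   1615, 1616, 1617, 1622, 1623, 1624, 1625, 1630, 1631, 1634, 1635, 1636, 1637, 1642, 1643,
   1644, 1645, 1650, 1651, 1652, 1653, 1658, 1659, 1660, 1661, 1664, 1665, 1670, 1671, 1672,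
   1673, 1678, 1679, 1682, 1683, 1684, 1685, 1690, 1691, 1692, 1693, 1696, 1697, 1702, 1703,
   1704, 1705, 1710, 1711, 1714, 1715, 1716, 1717, 1722, 1723, 1724, 1725, 1728, 1729, 1734,
   1735, 1736, 1737, 1742, 1743, 1746, 1747, 1748, 1749, 1754, 1755, 1756, 1757, 1762, 1763,
   1764, 1765, 1770, 1771, 1772, 1773, 1776, 1777, 1782, 1783, 1784, 1785, 1790, 1791, 1792,
   1793, 1798, 1799, 1802, 1803, 1804, 1805, 1808, 1809, 1814, 1815, 1818, 1819, 1820, 1821,
   1824, 1825, 1830, 1831, 1834, 1835, 1836, 1837, 1840, 1841, 1846, 1847, 1850, 1851, 1852,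
   1853, 1856, 1857, 1862, 1863, 1866, 1867, 1868, 1869, 1872, 1873, 1878, 1879, 1882, 1883,
   1884, 1885, 1890, 1891, 1892, 1893, 1896, 1897, 1902, 1903, 1906, 1907, 1908, 1909, 1912,
   1913, 1918, 1919, 1920, 1921, 1926, 1927, 1930, 1931, 1932, 1933, 1938, 1939, 1940, 1941,
   1944, 1945, 1950, 1951, 1952, 1953, 1958, 1959, 1962, 1963, 1964, 1965, 1970, 1971, 1972,
   1973, 1976, 1977, 1982, 1983, 1984, 1985, 1990, 1991, 1994, 1995, 1996, 1997, 2002, 2003,
   2004, 2005, 2008, 2009, 2014, 2015, 2018, 2019, 2020, 2021, 2024, 2025, 2030, 2031, 2032,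
   2033, 2038, 2039, 2042, 2043, 2044, 2045]

/-- Strictly increasing from a bound. -/
def incr : ℕ → List ℕ → Bool
  | _, [] => true
  | n, a :: l => Nat.blt n a && incr a l

theorem incr_spec : ∀ (l : List ℕ) (n : ℕ), incr n l = true → (∀ a ∈ l, n < a) ∧ l.Nodup := by
  intro l
  induction l with
  | nil => intro n _; simp
  | cons a l ih =>
    intro n h
    simp only [incr, Bool.and_eq_true, blt_iff] at h
    obtain ⟨h1, h2⟩ := ih a h.2
    refine ⟨fun b hb => ?_, ?_⟩
    · rcases List.mem_cons.1 hb with rfl | hb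
      · exact h.1
      · exact h.1.trans (h1 b hb)
    · rw [List.nodup_cons]
      exact ⟨fun h3 => lt_irrefl _ (h1 a h3), h2⟩

theorem pts_nodup : pts.Nodup := (incr_spec pts 0 (by decide +kernel)).2

theorem pts_length : pts.length = 693 := by decide +kernel

theorem pts_ok : pts.all (fun c => isPt c && canon c) = true := by decide +kernel

/-- The mask of the codes of points. -/
def ptsMask : ℕ := pts.foldr (fun c m => Nat.lor m (Nat.shiftLeft 1 c)) 0

theorem pts_cover : ∀ x < 64, ∀ y < 64, (isPt (64 * x + y) && canon (64 * x + y)) = true →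
    tb ptsMask (64 * x + y) = true := by decide +kernel

theorem mem_pts {c : ℕ} : c ∈ pts ↔ isPt c = true ∧ canon c = true := by
  constructor
  · intro h
    have := List.all_eq_true.1 pts_ok c h
    simpa only [Bool.and_eq_true] using this
  · rintro ⟨h, h'⟩
    have h1 := isPt_lt h
    have h2 : 64 * (c / 64) + c % 64 = c := Nat.div_add_mod c 64
    have h3 := pts_cover (c / 64) (by omega) (c % 64) (by omega)
      (by rw [h2, h, h']; rfl)
    rw [h2, tb_eq] at h3
    have h4 : ∀ l : List ℕ, (l.foldr (fun c m => Nat.lor m (Nat.shiftLeft 1 c)) 0).testBit c = true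
        → c ∈ l := by
      intro l
      induction l with
      | nil => intro h; simp at h
      | cons a l ih =>
        intro h
        rw [List.foldr_cons] at h
        have h5 : (l.foldr (fun c m => Nat.lor m (Nat.shiftLeft 1 c)) 0 ||| (1 <<< a)).testBit c
            = true := h
        rw [Nat.testBit_or, Nat.one_shiftLeft, Nat.testBit_two_pow, Bool.or_eq_true,
          decide_eq_true_eq] at h5
        rcases h5 with h5 | h5
        · exact List.mem_cons_of_mem _ (ih h5)
        · rw [h5]; exact List.mem_cons_self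
    exact h4 pts h3

theorem count_M0 : (pts.filter (fun c => tb M0mask c)).length = 126 := by decide +kernel

theorem count_not_orth : (pts.filter (fun c => !(orth 1 c))).length = 512 := by decide +kernel

theorem near_M0 : pts.all (fun c => M0list.any (fun m => orth c m)) = true := by decide +kernel

theorem M0list_ok : M0list.all (fun m => tb M0mask m && isPt m) = true := by decide +kernel

end Cfsg.Agent.R01.HermCode
end

-- part: R01/HermSix
section
/-!
# Hyperbolic bases of the Hermitian space `F₄⁶` and codes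
-/

set_option autoImplicit false
set_option linter.unusedSectionVars false
set_option linter.unusedSimpArgs false

namespace Cfsg.Agent.R01.HermSix

open Cfsg Cfsg.Agent.LieClassical.HermBasic Cfsg.Agent.R01.HermCode
open Cfsg.Agent.SporadicStructure.UnitTwo (two_eq_zero add_self neg_eq eq_of_add_eq_zero pow_three
  pow_four exists_omega zero_or_one_of_fixed vadd_self)

section field

variable {F : Type*} [Field F] [Fintype F] (hF : Fintype.card F = 2 ^ 2) {ω : F}
  (hω : ω ^ 2 + ω + 1 = 0)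

/-- Zero or one. -/
def bI (F : Type*) [Field F] (p : Bool) : F := bif p then 1 else 0

omit [Fintype F] in
theorem bI_sq (p : Bool) : bI F p ^ 2 = bI F p := by cases p <;> simp [bI]

include hF in
theorem bI_xor (p q : Bool) : bI F (p ^^ q) = bI F p + bI F q := by
  have h2 := two_eq_zero hF
  cases p <;> cases q <;> simp [bI]
  linear_combination -h2

omit [Fintype F] in
theorem bI_and (p q : Bool) : bI F (p && q) = bI F p * bI F q := by
  cases p <;> cases q <;> simp [bI]

omit [Fintype F] in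
theorem bI_inj {p q : Bool} (h : bI F p = bI F q) : p = q := by
  cases p <;> cases q <;> simp_all [bI]

/-- The field element `p ω + q`. -/
def bitF (ω : F) (p q : Bool) : F := bI F p * ω + bI F q

include hF in
theorem bitF_xor (p q r s : Bool) :
    bitF ω (p ^^ r) (q ^^ s) = bitF ω p q + bitF ω r s := by
  simp only [bitF, bI_xor hF]; ring

include hF hω in
theorem bitF_mul (p q : Bool) : ω * bitF ω p q = bitF ω (p ^^ q) p := by
  have h2 := two_eq_zero hF
  simp only [bitF, bI_xor hF]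
  linear_combination bI F p * hω - bI F p * (ω + 1) * h2

include hF hω in
theorem bitF_sq (p q : Bool) : bitF ω p q ^ 2 = bitF ω p (p ^^ q) := by
  have h2 := two_eq_zero hF
  simp only [bitF, bI_xor hF]
  linear_combination ω ^ 2 * bI_sq (F := F) p + bI_sq (F := F) q + bI F p * hω
    + (bI F p * bI F q * ω - bI F p * ω - bI F p) * h2

include hF hω in
theorem bitF_mul_bitF (p q r s : Bool) : bitF ω p q * bitF ω r s =
    bitF ω ((p && r) ^^ ((p && s) ^^ (q && r))) ((p && r) ^^ (q && s)) := by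
  have h2 := two_eq_zero hF
  simp only [bitF, bI_xor hF, bI_and]
  linear_combination bI F p * bI F r * hω - bI F p * bI F r * (ω + 1) * h2

include hF hω in
theorem bitF_herm (p q r s : Bool) : bitF ω p q * bitF ω r s ^ 2 =
    bitF ω ((p && s) ^^ (q && r)) ((p && r) ^^ (q && (r ^^ s))) := by
  rw [bitF_sq hF hω, bitF_mul_bitF hF hω]
  cases p <;> cases q <;> cases r <;> cases s <;> rfl

include hω in
theorem omega_ne_zero : ω ≠ 0 := by
  rintro rfl
  simp at hω

include hF hω in
theorem bitF_eq_zero {p q : Bool} (h : bitF ω p q = 0) : p = false ∧ q = false := by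
  have h2 := two_eq_zero hF
  cases p <;> cases q <;> simp [bitF, bI] at h ⊢
  · exact omega_ne_zero hω h
  · have h3 : ω = -1 := by linear_combination h
    rw [h3] at hω
    have : (1 : F) = 0 := by linear_combination hω
    exact one_ne_zero this

include hF hω in
theorem bitF_inj {p q r s : Bool} (h : bitF ω p q = bitF ω r s) : p = r ∧ q = s := by
  have h1 : bitF ω (p ^^ r) (q ^^ s) = 0 := by
    rw [bitF_xor hF, h]; exact add_self hF _
  obtain ⟨h2, h3⟩ := bitF_eq_zero hF hω h1
  constructor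
  · cases p <;> cases r <;> simp_all
  · cases q <;> cases s <;> simp_all

include hF hω in
/-- Every element of `F` is of the form `p ω + q`. -/
theorem exists_bitF (x : F) : ∃ p q : Bool, x = bitF ω p q := by
  have hinj : Function.Injective (fun t : Bool × Bool => bitF ω t.1 t.2) := by
    rintro ⟨p, q⟩ ⟨r, s⟩ h
    obtain ⟨h1, h2⟩ := bitF_inj hF hω h
    exact Prod.ext h1 h2
  have hbij : Function.Bijective (fun t : Bool × Bool => bitF ω t.1 t.2) := by
    rw [Fintype.bijective_iff_injective_and_card]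
    refine ⟨hinj, ?_⟩
    rw [hF]; rfl
  obtain ⟨⟨p, q⟩, h⟩ := hbij.2 x
  exact ⟨p, q, h.symm⟩

omit [Fintype F] in
theorem bitF_one_zero : bitF ω false false = 0 := by simp [bitF, bI]

omit [Fintype F] in
theorem bitF_one_one : bitF ω false true = 1 := by simp [bitF, bI]

end field

section basis

variable {F : Type*} [Field F] [Fintype F] (hF : Fintype.card F = 2 ^ 2) {ω : F}
  (hω : ω ^ 2 + ω + 1 = 0)

/-- A hyperbolic basis. -/
def IsHypBasis (b : Fin 6 → (Fin 6 → F)) : Prop :=
  ∀ i j : Fin 6, hermForm 6 F 2 (b i) (b j) = if i.rev = j then 1 else 0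

/-- The coefficient of a code. -/
def co (ω : F) (c : ℕ) (k : ℕ) : F := bitF ω (c.testBit (2 * k + 1)) (c.testBit (2 * k))

/-- The vector of a code. -/
def dec (b : Fin 6 → (Fin 6 → F)) (ω : F) (c : ℕ) : Fin 6 → F := ∑ k : Fin 6, co ω c k • b k

variable {b : Fin 6 → (Fin 6 → F)} (hb : IsHypBasis b)

include hF in
theorem dec_xor (a c : ℕ) : dec b ω (a ^^^ c) = dec b ω a + dec b ω c := by
  rw [dec, dec, dec, ← Finset.sum_add_distrib]
  refine Finset.sum_congr rfl fun k _ => ?_
  rw [← add_smul, co, Nat.testBit_xor, Nat.testBit_xor, bitF_xor hF]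
  rfl

include hF hω in
theorem dec_w (c : ℕ) : dec b ω (w c) = ω • dec b ω c := by
  rw [dec, dec, Finset.smul_sum]
  refine Finset.sum_congr rfl fun k _ => ?_
  rw [smul_smul, co, co, bitF_mul hF hω]
  have hk := k.2
  rw [testBit_w _ _ (by omega), testBit_w _ _ (by omega)]
  have e1 : (2 * (k : ℕ) + 1) % 2 = 1 := by omega
  have e2 : (2 * (k : ℕ)) % 2 = 0 := by omega
  simp [e1, e2]

include hb hF in
theorem herm_dec_basis (a : ℕ) (l : Fin 6) : hermForm 6 F 2 (dec b ω a) (b l) = co ω a l.rev := by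
  rw [dec, herm_sum_left, Finset.sum_eq_single l.rev]
  · rw [herm_smul_left, hb, Fin.rev_rev, if_pos rfl, mul_one]
  · intro k _ hk
    rw [herm_smul_left, hb, if_neg, mul_zero]
    intro h
    exact hk (by rw [← h, Fin.rev_rev])
  · simp

include hb hF in
theorem herm_dec_co (a c : ℕ) : hermForm 6 F 2 (dec b ω a) (dec b ω c) =
    ∑ k : Fin 6, co ω a k.rev * co ω c k ^ 2 := by
  conv_lhs => rw [dec.eq_1 b ω c]
  rw [herm_sum_right hF]
  refine Finset.sum_congr rfl fun k _ => ?_
  rw [herm_smul_right, herm_dec_basis hF hb, mul_comm]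

include hb hF hω in
theorem herm_dec {a : ℕ} (ha : a < 4096) (c : ℕ) : hermForm 6 F 2 (dec b ω a) (dec b ω c) =
    bitF ω (hHi a c) (hLo a c) := by
  rw [herm_dec_co hF hb]
  have r0 : ((Fin.rev (0 : Fin 6) : Fin 6) : ℕ) = 5 := rfl
  have r1 : ((Fin.rev (1 : Fin 6) : Fin 6) : ℕ) = 4 := rfl
  have r2 : ((Fin.rev (2 : Fin 6) : Fin 6) : ℕ) = 3 := rfl
  have r3 : ((Fin.rev (3 : Fin 6) : Fin 6) : ℕ) = 2 := rfl
  have r4 : ((Fin.rev (4 : Fin 6) : Fin 6) : ℕ) = 1 := rfl
  have r5 : ((Fin.rev (5 : Fin 6) : Fin 6) : ℕ) = 0 := rfl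
  have v0 : ((0 : Fin 6) : ℕ) = 0 := rfl
  have v1 : ((1 : Fin 6) : ℕ) = 1 := rfl
  have v2 : ((2 : Fin 6) : ℕ) = 2 := rfl
  have v3 : ((3 : Fin 6) : ℕ) = 3 := rfl
  have v4 : ((4 : Fin 6) : ℕ) = 4 := rfl
  have v5 : ((5 : Fin 6) : ℕ) = 5 := rfl
  simp only [co, bitF_herm hF hω, Fin.sum_univ_six, r0, r1, r2, r3, r4, r5, v0, v1, v2, v3, v4, v5,
    Nat.reduceMul, Nat.reduceAdd]
  rw [hHi_spec ha, hLo_spec ha]
  simp only [bitF, bI_xor hF, bI_and]
  ring

include hb hF hω in
theorem orth_iff {a : ℕ} (ha : a < 4096) (c : ℕ) :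
    orth a c = true ↔ hermForm 6 F 2 (dec b ω a) (dec b ω c) = 0 := by
  rw [herm_dec hF hω hb ha, orth, Bool.and_eq_true, Bool.not_eq_true', Bool.not_eq_true']
  constructor
  · rintro ⟨h1, h2⟩
    rw [h1, h2, bitF_one_zero]
  · exact bitF_eq_zero hF hω

include hb hF hω in
theorem hOne_iff {a : ℕ} (ha : a < 4096) (c : ℕ) :
    hOne a c = true ↔ hermForm 6 F 2 (dec b ω a) (dec b ω c) = 1 := by
  rw [herm_dec hF hω hb ha, hOne, Bool.and_eq_true, Bool.not_eq_true']
  constructor
  · rintro ⟨h1, h2⟩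
    rw [h1, h2, bitF_one_one]
  · intro h
    rw [← bitF_one_one (F := F) (ω := ω)] at h
    exact bitF_inj hF hω h

include hb hF hω in
theorem dec_inj {a c : ℕ} (ha : a < 4096) (hc : c < 4096) (h : dec b ω a = dec b ω c) : a = c := by
  have key : ∀ k < 6, a.testBit (2 * k + 1) = c.testBit (2 * k + 1) ∧
      a.testBit (2 * k) = c.testBit (2 * k) := by
    intro k hk
    have h1 := herm_dec_basis hF hb (ω := ω) a (Fin.rev ⟨k, hk⟩)
    rw [h, herm_dec_basis hF hb, Fin.rev_rev] at h1
    have h2 := bitF_inj hF hω h1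
    exact ⟨h2.1.symm, h2.2.symm⟩
  apply Nat.eq_of_testBit_eq
  intro i
  by_cases hi : i < 12
  · have h1 := key (i / 2) (by omega)
    rcases Nat.mod_two_eq_zero_or_one i with h2 | h2
    · have : 2 * (i / 2) = i := by omega
      rw [this] at h1
      exact h1.2
    · have : 2 * (i / 2) + 1 = i := by omega
      rw [this] at h1
      exact h1.1
  · have h3 : 4096 ≤ 2 ^ i := by
      calc 4096 = 2 ^ 12 := by norm_num
        _ ≤ 2 ^ i := Nat.pow_le_pow_right (by norm_num) (by omega)
    rw [Nat.testBit_lt_two_pow (by omega), Nat.testBit_lt_two_pow (by omega)]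

include hb hF hω in
theorem dec_surj (v : Fin 6 → F) : ∃ c < 4096, dec b ω c = v := by
  have hinj : Function.Injective (fun c : Fin 4096 => dec b ω (c : ℕ)) := by
    intro a c h
    exact Fin.ext (dec_inj hF hω hb a.2 c.2 h)
  have hbij : Function.Bijective (fun c : Fin 4096 => dec b ω (c : ℕ)) := by
    rw [Fintype.bijective_iff_injective_and_card]
    refine ⟨hinj, ?_⟩
    rw [Fintype.card_fin, Fintype.card_fun, hF, Fintype.card_fin]
    norm_num
  obtain ⟨c, hc⟩ := hbij.2 v
  exact ⟨c, c.2, hc⟩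

omit [Fintype F] in
theorem dec_zero : dec b ω 0 = 0 := by
  simp [dec, co, bitF, bI]

include hb hF hω in
theorem dec_eq_zero {c : ℕ} (hc : c < 4096) : dec b ω c = 0 ↔ c = 0 := by
  constructor
  · intro h
    apply dec_inj hF hω hb hc (by norm_num)
    rw [h, dec_zero]
  · rintro rfl; exact dec_zero

include hb hF hω in
theorem isPt_iff_dec {c : ℕ} : isPt c = true ↔
    c < 4096 ∧ dec b ω c ≠ 0 ∧ hermForm 6 F 2 (dec b ω c) (dec b ω c) = 0 := by
  rw [HermCode.isPt_iff]
  constructor
  · rintro ⟨h1, h2, h3⟩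
    exact ⟨h1, fun h => h2 ((dec_eq_zero hF hω hb h1).1 h), (orth_iff hF hω hb h1 c).1 h3⟩
  · rintro ⟨h1, h2, h3⟩
    exact ⟨h1, fun h => h2 ((dec_eq_zero hF hω hb h1).2 h), (orth_iff hF hω hb h1 c).2 h3⟩

include hF hω in
theorem dec_ww (c : ℕ) : dec b ω (w (w c)) = ω ^ 2 • dec b ω c := by
  rw [dec_w hF hω, dec_w hF hω, smul_smul, pow_two]

include hb hF hω in
theorem mult_iff {a c : ℕ} (ha : a < 4096) (hc : c < 4096) (hc0 : dec b ω c ≠ 0) :
    mult a c = true ↔ ∃ x : F, dec b ω c = x • dec b ω a := by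
  simp only [mult, Bool.or_eq_true, beq_iff]
  constructor
  · rintro ((rfl | rfl) | rfl)
    · exact ⟨1, (one_smul _ _).symm⟩
    · exact ⟨ω, dec_w hF hω _⟩
    · exact ⟨ω ^ 2, dec_ww hF hω _⟩
  · rintro ⟨x, hx⟩
    obtain ⟨p, q, rfl⟩ := exists_bitF hF hω x
    cases p <;> cases q
    · exfalso
      rw [bitF_one_zero, zero_smul] at hx
      exact hc0 hx
    · left; left
      rw [bitF_one_one, one_smul] at hx
      exact dec_inj hF hω hb hc ha hx
    · left; right
      apply dec_inj hF hω hb hc (w_lt a)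
      rw [hx, dec_w hF hω]
      simp [bitF, bI]
    · right
      apply dec_inj hF hω hb hc (w_lt _)
      rw [hx, dec_ww hF hω]
      congr 1
      simp only [bitF, bI, cond_true]
      linear_combination hω - ω ^ 2 * two_eq_zero hF

end basis

section change

variable {F : Type*} [Field F] [Fintype F] (hF : Fintype.card F = 2 ^ 2) {ω : F}
  (hω : ω ^ 2 + ω + 1 = 0) {f : Fin 6 → (Fin 6 → F)}

omit [Fintype F] in
theorem IsHypBasis.vals (hf : IsHypBasis f) :
    (hermForm 6 F 2 (f 0) (f 0) = 0 ∧ hermForm 6 F 2 (f 0) (f 1) = 0 ∧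
      hermForm 6 F 2 (f 0) (f 2) = 0 ∧ hermForm 6 F 2 (f 0) (f 3) = 0 ∧
      hermForm 6 F 2 (f 0) (f 4) = 0 ∧ hermForm 6 F 2 (f 0) (f 5) = 1) ∧
    (hermForm 6 F 2 (f 1) (f 0) = 0 ∧ hermForm 6 F 2 (f 1) (f 1) = 0 ∧
      hermForm 6 F 2 (f 1) (f 2) = 0 ∧ hermForm 6 F 2 (f 1) (f 3) = 0 ∧
      hermForm 6 F 2 (f 1) (f 4) = 1 ∧ hermForm 6 F 2 (f 1) (f 5) = 0) ∧
    (hermForm 6 F 2 (f 2) (f 0) = 0 ∧ hermForm 6 F 2 (f 2) (f 1) = 0 ∧
      hermForm 6 F 2 (f 2) (f 2) = 0 ∧ hermForm 6 F 2 (f 2) (f 3) = 1 ∧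
      hermForm 6 F 2 (f 2) (f 4) = 0 ∧ hermForm 6 F 2 (f 2) (f 5) = 0) ∧
    (hermForm 6 F 2 (f 3) (f 0) = 0 ∧ hermForm 6 F 2 (f 3) (f 1) = 0 ∧
      hermForm 6 F 2 (f 3) (f 2) = 1 ∧ hermForm 6 F 2 (f 3) (f 3) = 0 ∧
      hermForm 6 F 2 (f 3) (f 4) = 0 ∧ hermForm 6 F 2 (f 3) (f 5) = 0) ∧
    (hermForm 6 F 2 (f 4) (f 0) = 0 ∧ hermForm 6 F 2 (f 4) (f 1) = 1 ∧
      hermForm 6 F 2 (f 4) (f 2) = 0 ∧ hermForm 6 F 2 (f 4) (f 3) = 0 ∧
      hermForm 6 F 2 (f 4) (f 4) = 0 ∧ hermForm 6 F 2 (f 4) (f 5) = 0) ∧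
    (hermForm 6 F 2 (f 5) (f 0) = 1 ∧ hermForm 6 F 2 (f 5) (f 1) = 0 ∧
      hermForm 6 F 2 (f 5) (f 2) = 0 ∧ hermForm 6 F 2 (f 5) (f 3) = 0 ∧
      hermForm 6 F 2 (f 5) (f 4) = 0 ∧ hermForm 6 F 2 (f 5) (f 5) = 0) := by
  refine ⟨⟨?_, ?_, ?_, ?_, ?_, ?_⟩, ⟨?_, ?_, ?_, ?_, ?_, ?_⟩, ⟨?_, ?_, ?_, ?_, ?_, ?_⟩,
    ⟨?_, ?_, ?_, ?_, ?_, ?_⟩, ⟨?_, ?_, ?_, ?_, ?_, ?_⟩, ⟨?_, ?_, ?_, ?_, ?_, ?_⟩⟩ <;>
  (rw [hf]; rfl)

/-- A Siegel transformation. -/
def siegel (f : Fin 6 → (Fin 6 → F)) (x1 x2 x3 x4 : F) : Fin 6 → (Fin 6 → F) :=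
  ![f 0, f 1 + x1 • f 0, f 2 + x2 • f 0, f 3 + x3 • f 0, f 4 + x4 • f 0,
    f 5 + x4 ^ 2 • f 1 + x3 ^ 2 • f 2 + x2 ^ 2 • f 3 + x1 ^ 2 • f 4 +
      (x1 ^ 2 * x4 + x2 ^ 2 * x3) • f 0]

include hF in
theorem siegel_hyp (hf : IsHypBasis f) (x1 x2 x3 x4 : F) : IsHypBasis (siegel f x1 x2 x3 x4) := by
  have h2 := two_eq_zero hF
  have p1 := pow_four hF x1
  have p2 := pow_four hF x2
  have p3 := pow_four hF x3
  have p4 := pow_four hF x4
  obtain ⟨⟨a00, a01, a02, a03, a04, a05⟩, ⟨a10, a11, a12, a13, a14, a15⟩,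
    ⟨a20, a21, a22, a23, a24, a25⟩, ⟨a30, a31, a32, a33, a34, a35⟩,
    ⟨a40, a41, a42, a43, a44, a45⟩, ⟨a50, a51, a52, a53, a54, a55⟩⟩ := hf.vals
  have key : ∀ i j : Fin 6, hermForm 6 F 2 (siegel f x1 x2 x3 x4 i) (siegel f x1 x2 x3 x4 j) =
      hermForm 6 F 2 (f i) (f j) := by
    intro i j
    fin_cases i <;> fin_cases j <;>
    simp only [siegel, Fin.reduceFinMk, Fin.isValue, Fin.zero_eta, Fin.mk_one,
      Matrix.cons_val, herm_add_left, herm_add_right hF,
      herm_smul_left, herm_smul_right, a00, a01, a02, a03, a04, a05, a10, a11, a12, a13, a14, a15,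
      a20, a21, a22, a23, a24, a25, a30, a31, a32, a33, a34, a35, a40, a41, a42, a43, a44, a45,
      a50, a51, a52, a53, a54, a55, mul_zero, add_zero, zero_add, mul_one]
    · linear_combination p1 + x1 * h2
    · linear_combination p2 + x2 * h2
    · linear_combination p3 + x3 * h2
    · linear_combination p4 + x4 * h2
    · linear_combination x1 ^ 2 * h2
    · linear_combination x2 ^ 2 * h2
    · linear_combination x3 ^ 2 * h2
    · linear_combination x4 ^ 2 * h2
    · linear_combination x1 ^ 2 * p4 + x2 ^ 2 * p3 + (x1 ^ 2 * x4 + x2 ^ 2 * x3 +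
        x2 ^ 4 * x3 ^ 2 + x1 ^ 4 * x4 ^ 2 + x1 ^ 2 * x4 * x2 ^ 2 * x3) * h2
  intro i j
  rw [key, hf]

/-- Rescaling of the first hyperbolic pair. -/
def rescale (f : Fin 6 → (Fin 6 → F)) (x : F) : Fin 6 → (Fin 6 → F) :=
  ![x • f 0, f 1, f 2, f 3, f 4, x • f 5]

include hF in
theorem rescale_hyp (hf : IsHypBasis f) {x : F} (hx : x ≠ 0) : IsHypBasis (rescale f x) := by
  have p1 := pow_three hF hx
  obtain ⟨⟨a00, a01, a02, a03, a04, a05⟩, ⟨a10, a11, a12, a13, a14, a15⟩,
    ⟨a20, a21, a22, a23, a24, a25⟩, ⟨a30, a31, a32, a33, a34, a35⟩,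
    ⟨a40, a41, a42, a43, a44, a45⟩, ⟨a50, a51, a52, a53, a54, a55⟩⟩ := hf.vals
  have key : ∀ i j : Fin 6, hermForm 6 F 2 (rescale f x i) (rescale f x j) =
      hermForm 6 F 2 (f i) (f j) := by
    intro i j
    fin_cases i <;> fin_cases j <;>
    simp only [rescale, Fin.reduceFinMk, Fin.isValue, Fin.zero_eta, Fin.mk_one,
      Matrix.cons_val, herm_add_left, herm_add_right hF,
      herm_smul_left, herm_smul_right, a00, a01, a02, a03, a04, a05, a10, a11, a12, a13, a14, a15,
      a20, a21, a22, a23, a24, a25, a30, a31, a32, a33, a34, a35, a40, a41, a42, a43, a44, a45,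
      a50, a51, a52, a53, a54, a55, mul_zero, add_zero, zero_add, mul_one]
    · linear_combination p1
    · linear_combination p1
  intro i j
  rw [key, hf]

include hF hω in
/-- A hyperbolic basis starting with a given isotropic vector. -/
theorem exists_hyp {v : Fin 6 → F} (hv : v ≠ 0) (hvv : hermForm 6 F 2 v v = 0) :
    ∃ f : Fin 6 → (Fin 6 → F), IsHypBasis f ∧ f 0 = v := by
  have h2 := two_eq_zero hF
  have h3 : ω ^ 3 = 1 := by linear_combination (ω - 1) * hω
  obtain ⟨e, g, f, hspan, hee, heg, hef, hgg, hgf, hff⟩ :=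
    ClassicalGeometry.HermFrame.exists_frame hF (n := 6) (k := 1) (m := 4) rfl
      (W := Submodule.span F {v}) (finrank_span_singleton hv) (by
        intro u hu w hw
        obtain ⟨a, rfl⟩ := Submodule.mem_span_singleton.1 hu
        obtain ⟨c, rfl⟩ := Submodule.mem_span_singleton.1 hw
        rw [herm_smul_left, herm_smul_right, hvv, mul_zero, mul_zero])
  have he0 : e 0 ∈ Submodule.span F {v} := by
    rw [← hspan]; exact Submodule.subset_span ⟨0, rfl⟩
  obtain ⟨a, ha⟩ := Submodule.mem_span_singleton.1 he0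
  have ha0 : a ≠ 0 := by
    rintro rfl
    have h1 := hef 0 0
    rw [← ha, zero_smul, herm_zero_left] at h1
    simp at h1
  have a3 := pow_three hF ha0
  have ef : hermForm 6 F 2 (e 0) (f 0) = 1 := by rw [hef, if_pos rfl]
  have fe : hermForm 6 F 2 (f 0) (e 0) = 1 := by rw [herm_swap hF, ef, one_pow]
  have ee := hee 0 0
  have ff := hff 0 0
  have eg : ∀ j, hermForm 6 F 2 (e 0) (g j) = 0 := fun j => heg 0 j
  have ge : ∀ j, hermForm 6 F 2 (g j) (e 0) = 0 := fun j => herm_eq_zero_swap hF (heg 0 j)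
  have gf : ∀ j, hermForm 6 F 2 (g j) (f 0) = 0 := fun j => hgf j 0
  have fg : ∀ j, hermForm 6 F 2 (f 0) (g j) = 0 := fun j => herm_eq_zero_swap hF (hgf j 0)
  have g00 : hermForm 6 F 2 (g 0) (g 0) = 1 := by rw [hgg, if_pos rfl]
  have g11 : hermForm 6 F 2 (g 1) (g 1) = 1 := by rw [hgg, if_pos rfl]
  have g22 : hermForm 6 F 2 (g 2) (g 2) = 1 := by rw [hgg, if_pos rfl]
  have g33 : hermForm 6 F 2 (g 3) (g 3) = 1 := by rw [hgg, if_pos rfl]
  have gne : ∀ i j, i ≠ j → hermForm 6 F 2 (g i) (g j) = 0 := fun i j hij => by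
    rw [hgg, if_neg hij]
  have g01 := gne 0 1 (by decide)
  have g02 := gne 0 2 (by decide)
  have g03 := gne 0 3 (by decide)
  have g10 := gne 1 0 (by decide)
  have g12 := gne 1 2 (by decide)
  have g13 := gne 1 3 (by decide)
  have g20 := gne 2 0 (by decide)
  have g21 := gne 2 1 (by decide)
  have g23 := gne 2 3 (by decide)
  have g30 := gne 3 0 (by decide)
  have g31 := gne 3 1 (by decide)
  have g32 := gne 3 2 (by decide)
  set f' : Fin 6 → (Fin 6 → F) := ![e 0, g 0 + g 1, g 2 + g 3, ω • g 2 + ω ^ 2 • g 3,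
    ω • g 0 + ω ^ 2 • g 1, f 0] with hf'
  have z1 : (1 : F) + 1 = 0 := by linear_combination h2
  have z2 : ω ^ 2 + (ω ^ 2) ^ 2 = 1 := by linear_combination hω + ω * h3 - h2
  have z3 : ω + ω ^ 2 = 1 := by linear_combination hω - h2
  have z4 : ω ^ 2 * ω + (ω ^ 2) ^ 2 * ω ^ 2 = 0 := by
    linear_combination (2 + ω ^ 3) * h3 + h2
  have hyp : IsHypBasis f' := by
    intro i j
    fin_cases i <;> fin_cases j <;>
    simp only [hf', Fin.reduceFinMk, Fin.isValue, Fin.zero_eta, Fin.mk_one,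
      Matrix.cons_val, herm_add_left, herm_add_right hF, herm_smul_left, herm_smul_right, ef, fe,
      ee, ff, eg, ge, gf, fg, g00, g11, g22, g33, g01, g02, g03, g10, g12, g13, g20, g21, g23, g30,
      g31, g32, mul_zero, add_zero, zero_add, mul_one]
    all_goals first | rfl | exact z1 | exact z2 | exact z3 | exact z4
  refine ⟨rescale f' a⁻¹, rescale_hyp hF hyp (inv_ne_zero ha0), ?_⟩
  show a⁻¹ • e 0 = v
  rw [← ha, inv_smul_smul₀ ha0]


end change

section hyperoval

variable {F : Type*} [Field F] [Fintype F] (hF : Fintype.card F = 2 ^ 2) {ω : F}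
  (hω : ω ^ 2 + ω + 1 = 0)

/-- A set of isotropic vectors meeting every totally isotropic line in `0` or `2` points and closed
under third points of hyperbolic lines. -/
structure VHyp (ω : F) (M : Set (Fin 6 → F)) : Prop where
  smul : ∀ v, v ≠ 0 → hermForm 6 F 2 v v = 0 → ∀ x : F, x ≠ 0 → v ∈ M → x • v ∈ M
  third : ∀ u v, u ≠ 0 → v ≠ 0 → hermForm 6 F 2 u u = 0 → hermForm 6 F 2 v v = 0 →
    hermForm 6 F 2 u v = 1 → u ∈ M → v ∈ M → u + v ∈ M
  line : ∀ u v, u ≠ 0 → v ≠ 0 → hermForm 6 F 2 u u = 0 → hermForm 6 F 2 v v = 0 →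
    hermForm 6 F 2 u v = 0 → (∀ x : F, v ≠ x • u) → u ∈ M →
    (v ∈ M ∧ u + v ∉ M ∧ u + ω • v ∉ M ∧ u + ω ^ 2 • v ∉ M) ∨
    (v ∉ M ∧ u + v ∈ M ∧ u + ω • v ∉ M ∧ u + ω ^ 2 • v ∉ M) ∨
    (v ∉ M ∧ u + v ∉ M ∧ u + ω • v ∈ M ∧ u + ω ^ 2 • v ∉ M) ∨
    (v ∉ M ∧ u + v ∉ M ∧ u + ω • v ∉ M ∧ u + ω ^ 2 • v ∈ M)

variable {M : Set (Fin 6 → F)}

include hF hω in
theorem VHyp.hyp (hM : VHyp ω M) {b : Fin 6 → (Fin 6 → F)} (hb : IsHypBasis b) :
    Hyp (fun c => dec b ω c ∈ M) := by
  refine ⟨fun a ha hS => ?_, fun a c ha hc h1 hSa hSc => ?_, fun a c ha hc h1 h2 hS => ?_⟩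
  · obtain ⟨a1, a2, a3⟩ := (isPt_iff_dec hF hω hb).1 ha
    simp only [dec_w hF hω]
    exact hM.smul _ a2 a3 ω (omega_ne_zero hω) hS
  · obtain ⟨a1, a2, a3⟩ := (isPt_iff_dec hF hω hb).1 ha
    obtain ⟨c1, c2, c3⟩ := (isPt_iff_dec hF hω hb).1 hc
    simp only [dec_xor hF]
    exact hM.third _ _ a2 c2 a3 c3 ((hOne_iff hF hω hb a1 c).1 h1) hSa hSc
  · obtain ⟨a1, a2, a3⟩ := (isPt_iff_dec hF hω hb).1 ha
    obtain ⟨c1, c2, c3⟩ := (isPt_iff_dec hF hω hb).1 hc
    simp only [dec_xor hF, dec_ww hF hω, dec_w hF hω]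
    refine hM.line _ _ a2 c2 a3 c3 ((orth_iff hF hω hb a1 c).1 h1) (fun x hx => ?_) hS
    have := (mult_iff hF hω hb a1 c1 c2).2 ⟨x, hx⟩
    rw [this] at h2
    exact absurd h2 (by simp)

include hF hω in
/-- On a totally isotropic line through a member there is another member. -/
theorem VHyp.exists_on_line (hM : VHyp ω M) {u v : Fin 6 → F} (hu : u ≠ 0) (hv : v ≠ 0)
    (huu : hermForm 6 F 2 u u = 0) (hvv : hermForm 6 F 2 v v = 0) (huv : hermForm 6 F 2 u v = 0)
    (hne : ∀ x : F, v ≠ x • u) (huM : u ∈ M) : ∃ x : F, v + x • u ∈ M := by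
  have h3 : ω ^ 3 = 1 := by linear_combination (ω - 1) * hω
  have hω0 := omega_ne_zero hω
  have hin : ∀ x : F, v + x • u ≠ 0 := by
    intro x hx
    apply hne (-x)
    rw [neg_smul]
    exact eq_neg_of_add_eq_zero_left hx
  have hiso : ∀ x : F, hermForm 6 F 2 (u + x • v) (u + x • v) = 0 := by
    intro x
    have hvu := herm_eq_zero_swap hF huv
    simp only [herm_add_left, herm_add_right hF, herm_smul_left, herm_smul_right, huu, hvv, huv,
      hvu, mul_zero, add_zero]
  have hnz : ∀ x : F, u + x • v ≠ 0 := by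
    intro x hx
    by_cases hx0 : x = 0
    · rw [hx0, zero_smul, add_zero] at hx
      exact hu hx
    · apply hne (-x⁻¹)
      have h4 : u = -(x • v) := eq_neg_of_add_eq_zero_left hx
      rw [h4, smul_neg, neg_smul, neg_neg, inv_smul_smul₀ hx0]
  rcases hM.line u v hu hv huu hvv huv hne huM with h | h | h | h
  · exact ⟨0, by rw [zero_smul, add_zero]; exact h.1⟩
  · exact ⟨1, by rw [one_smul, add_comm]; exact h.2.1⟩
  · refine ⟨ω ^ 2, ?_⟩
    have := hM.smul _ (hnz ω) (hiso ω) (ω ^ 2) (pow_ne_zero 2 hω0) h.2.2.1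
    rw [smul_add, smul_smul, ← pow_succ, h3, one_smul] at this
    rwa [add_comm]
  · refine ⟨ω, ?_⟩
    have := hM.smul _ (hnz (ω ^ 2)) (hiso (ω ^ 2)) ω hω0 h.2.2.2
    rw [smul_add, smul_smul, ← pow_succ', h3, one_smul] at this
    rwa [add_comm]

theorem dec_basis (b : Fin 6 → (Fin 6 → F)) (ω : F) : dec b ω 1 = b 0 ∧ dec b ω 4 = b 1 ∧
    dec b ω 16 = b 2 ∧ dec b ω 64 = b 3 ∧ dec b ω 256 = b 4 ∧ dec b ω 1024 = b 5 ∧
    dec b ω 21 = b 0 + b 1 + b 2 := by
  refine ⟨?_, ?_, ?_, ?_, ?_, ?_, ?_⟩ <;>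
  simp [dec, co, Fin.sum_univ_six, bitF, bI, Nat.testBit]

include hF hω in
theorem VHyp.of_six (hM : VHyp ω M) {b : Fin 6 → (Fin 6 → F)} (hb : IsHypBasis b)
    (m0 : b 0 ∈ M) (m1 : b 1 ∈ M) (m2 : b 2 ∈ M) (m3 : b 3 ∈ M) (m4 : b 4 ∈ M)
    (m5 : b 0 + b 1 + b 2 ∈ M) {c : ℕ} (hc : isPt c = true) :
    dec b ω c ∈ M ↔ tb M0mask c = true := by
  obtain ⟨k0, k1, k2, k3, k4, -, k5⟩ := dec_basis b ω
  rw [← k0] at m0
  rw [← k1] at m1
  rw [← k2] at m2
  rw [← k3] at m3
  rw [← k4] at m4
  rw [← k5] at m5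
  exact HermCode.unique (hM.hyp hF hω hb) m0 m1 m2 m3 m4 m5 hc

include hF hω in
/-- Normal form of a hyperoval closed under third points. -/
theorem VHyp.normal (hM : VHyp ω M) {v : Fin 6 → F} (hv : v ≠ 0)
    (hvv : hermForm 6 F 2 v v = 0) (hvM : v ∈ M) :
    ∃ b : Fin 6 → (Fin 6 → F), IsHypBasis b ∧ (∃ x : F, x ≠ 0 ∧ b 0 = x • v) ∧
      ∀ c, isPt c = true → (dec b ω c ∈ M ↔ tb M0mask c = true) := by
  have h2 := two_eq_zero hF
  have h3 : ω ^ 3 = 1 := by linear_combination (ω - 1) * hω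
  have hω0 := omega_ne_zero hω
  obtain ⟨f, hf, hf0⟩ := exists_hyp hF hω hv hvv
  have hne0 : ∀ {g : Fin 6 → (Fin 6 → F)}, IsHypBasis g → ∀ i, g i ≠ 0 := by
    intro g hg i h
    have h1 := hg i i.rev
    rw [if_pos rfl, h, herm_zero_left] at h1
    exact zero_ne_one h1
  have hne : ∀ {g : Fin 6 → (Fin 6 → F)}, IsHypBasis g → ∀ i j, i ≠ j → ∀ x : F, g i ≠ x • g j := by
    intro g hg i j hij x h
    have h1 := hg i i.rev
    rw [if_pos rfl, h, herm_smul_left, hg, if_neg, mul_zero] at h1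
    · exact zero_ne_one h1
    · intro h4
      exact hij (Fin.rev_injective h4).symm
  have step1 : ∀ i : Fin 6, i ≠ 0 → i ≠ 5 → ∃ x : F, f i + x • f 0 ∈ M := by
    intro i hi hi5
    apply hM.exists_on_line hF hω (hne0 hf 0) (hne0 hf i)
    · rw [hf]; rfl
    · rw [hf, if_neg]
      intro h
      have := congrArg Fin.val h
      simp only [Fin.val_rev] at this
      omega
    · rw [hf, if_neg]
      intro h
      exact hi5 h.symm
    · exact hne hf i 0 hi
    · rw [hf0]; exact hvM
  obtain ⟨x1, hx1⟩ := step1 1 (by decide) (by decide)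
  obtain ⟨x2, hx2⟩ := step1 2 (by decide) (by decide)
  obtain ⟨x3, hx3⟩ := step1 3 (by decide) (by decide)
  obtain ⟨x4, hx4⟩ := step1 4 (by decide) (by decide)
  obtain ⟨g, hgb, g0, g1, g2, g3, g4⟩ : ∃ g : Fin 6 → (Fin 6 → F), IsHypBasis g ∧ g 0 = v ∧
      g 1 ∈ M ∧ g 2 ∈ M ∧ g 3 ∈ M ∧ g 4 ∈ M :=
    ⟨siegel f x1 x2 x3 x4, siegel_hyp hF hf x1 x2 x3 x4, hf0, hx1, hx2, hx3, hx4⟩
  have g0M : g 0 ∈ M := by rw [g0]; exact hvM
  -- the sixth point
  obtain ⟨⟨a00, a01, a02, a03, a04, a05⟩, ⟨a10, a11, a12, a13, a14, a15⟩,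
    ⟨a20, a21, a22, a23, a24, a25⟩, -⟩ := hgb.vals
  have hs0 : g 1 + g 2 ≠ 0 := by
    intro h
    apply hne hgb 1 2 (by decide) (-1)
    rw [neg_smul, one_smul]
    exact eq_neg_of_add_eq_zero_left h
  have hss : hermForm 6 F 2 (g 1 + g 2) (g 1 + g 2) = 0 := by
    simp only [herm_add_left, herm_add_right hF, a11, a12, a21, a22, add_zero]
  obtain ⟨y, hy⟩ : ∃ y : F, (g 1 + g 2) + y • g 0 ∈ M := by
    apply hM.exists_on_line hF hω (hne0 hgb 0) hs0 a00 hss
    · rw [herm_add_right hF, a01, a02, add_zero]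
    · intro x h
      have h5 := hgb 4 1
      rw [if_pos (by decide)] at h5
      have h6 : hermForm 6 F 2 (g 4) (g 1 + g 2) = 1 := by
        rw [herm_add_right hF, h5, hgb 4 2, if_neg (by decide), add_zero]
      rw [h, herm_smul_right, hgb 4 0, if_neg (by decide), mul_zero] at h6
      exact zero_ne_one h6
    · exact g0M
  have hy0 : y ≠ 0 := by
    rintro rfl
    rw [zero_smul, add_zero] at hy
    rcases hM.line (g 1) (g 2) (hne0 hgb 1) (hne0 hgb 2) a11 a22 a12
      (hne hgb 2 1 (by decide)) g1 with h | h | h | h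
    · exact h.2.1 hy
    · exact h.1 g2
    · exact h.1 g2
    · exact h.1 g2
  refine ⟨rescale g y, rescale_hyp hF hgb hy0, ⟨y, hy0, ?_⟩, fun c hc => ?_⟩
  · rw [← g0]; rfl
  · refine hM.of_six hF hω (rescale_hyp hF hgb hy0) ?_ g1 g2 g3 g4 ?_ hc
    · show y • g 0 ∈ M
      rw [g0]
      exact hM.smul v hv hvv y hy0 hvM
    · have : rescale g y 0 + rescale g y 1 + rescale g y 2 = g 1 + g 2 + y • g 0 := by
        show y • g 0 + g 1 + g 2 = _
        rw [add_assoc, add_comm]
      rw [this]; exact hy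

end hyperoval

end Cfsg.Agent.R01.HermSix
end
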