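import Cfsg.Agent.R01.Assembly2
import Cfsg.Agent.R01.IdentMain
import Cfsg.Agent.R01.Fi22Facts
import Cfsg.Agent.R01.FiLocal_mg
import Cfsg.Agent.R01.GeoOfFacts
set_option linter.all false

/-!
The strong form of S1713: every isomorphism to the presented `Fi22` maps the involution `d` into the class of
transpositions; an involution of `Fi22` whose conjugates have products of order at most 3 is a transposition.
-/

set_option autoImplicit false

namespace Cfsg.Agent.R01.Strong

open Cfsg Cfsg.Agent.R01.Lifts Cfsg.Agent.R01.PSUSix Cfsg.Agent.R01.Label Cfsg.Agent.R01.Start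
open Cfsg.Agent.R01.Loc Cfsg.Agent.R01.Closing Cfsg.Agent.R01.Assembly Cfsg.Agent.R01.Assembly2

universe u v

/-- The recognition theorem, with the 3-transposition property. -/
theorem iso_three {G : Type u} [Group G] [Finite G] (d : G)
    (hd : orderOf d = 2) (hq : IsQuasisimple (Subgroup.centralizer ({d} : Set G)))
    [((Subgroup.zpowers d).subgroupOf (Subgroup.centralizer ({d} : Set G))).Normal]
    (K : Type v) [Field K] [Fintype K] (hK : Fintype.card K = 4)
    (e : (Subgroup.centralizer ({d} : Set G)) ⧸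
      (Subgroup.zpowers d).subgroupOf (Subgroup.centralizer ({d} : Set G)) ≃* PSU 6 K 2)
    (hnwc : ∃ g : G, g * d * g⁻¹ ∈ Subgroup.centralizer ({d} : Set G) ∧ g * d * g⁻¹ ≠ d) :
    Spor.IsoFi22 G ∧
      ∀ a ∈ conjugatesOf d, ∀ b ∈ conjugatesOf d, a * b = b * a ∨ (a * b) ^ 3 = 1 := by
  have hF : Fintype.card K = 2 ^ 2 := hK
  obtain ⟨lift, L⟩ := exists_lab d hd hq K hF e (ε := zel d) (Or.inr rfl)
  have hloc : LocAt hF (conjugatesOf d) d :=
    ⟨proj d e, lift, L, fusionSt G d K hF (proj d e) lift L hnwc⟩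
  have hLoc : Loc hF (conjugatesOf d) := loc_of_locAt hloc
  obtain ⟨h3, hcard⟩ := componentSt G d K hF hLoc
  have hall := bridgeSt G d K hF hLoc h3 hcard
  have hdD : d ∈ conjugatesOf d := mem_conjugatesOf_self
  have hconn : ∀ b : G, Conn (conjugatesOf d) d b ↔ b ∈ conjugatesOf d := fun b =>
    ⟨fun h => h.mem hdD, fun h => hall.conn zstar hdD h⟩
  have hD : (conjugatesOf d).ncard = 3510 := by
    rw [← hcard d hdD]
    exact Nat.card_congr (Equiv.subtypeEquivRight fun b => (hconn b).symm)
  have hG : Nat.card G = 64561751654400 := by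
    rw [hall.card_eq zstar hdD, card_centralizer hF L.ext, Nat.card_coe_set_eq, hD]
  have h3' : ∀ a ∈ conjugatesOf d, ∀ b ∈ conjugatesOf d, a * b = b * a ∨ (a * b) ^ 3 = 1 :=
    fun a ha b hb => hall.isThreeTrans zstar ha hb
  exact ⟨IdentMain.ident G d K hF hLoc h3' hG, h3'⟩

open Fi22Facts in
/-- The facts on the class of transpositions of `Fi22`. -/
theorem tFacts : FiFacts.TFacts Fi22Facts.T :=
  FiLocal.tFacts_of_loc isThreeTranspositionClass_T loc

theorem geo : Loc23.Geo Fi22Facts.T := Loc23.geo_of_facts tFacts Fi22Facts.loc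

theorem perf : commutator Spor.Fi22 = ⊤ := by
  rcases Fi22Facts.isSimple.eq_bot_or_eq_top_of_normal (commutator Spor.Fi22) inferInstance with
    h | h
  · exfalso
    rw [commutator_eq_bot_iff_center_eq_top] at h
    obtain ⟨a, ha⟩ := geo.nonempty
    obtain ⟨b, c, ht⟩ := geo.exists_tri ha
    obtain ⟨e, he, f, hf, h0, -⟩ := geo.noncomm a b c ht
    apply h0
    have h2 : e ∈ Subgroup.center Spor.Fi22 := by rw [h]; trivial
    exact (Subgroup.mem_center_iff.1 h2 f).symm
  · exact h

theorem base : KeyFi22.Base Spor.Fi22 Fischer.Unit22.hF Fi22Facts.T where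
  conj := tFacts.conj
  perf := perf
  card := by
    left
    rw [Nat.card_coe_set_eq, Fi22Facts.ncard_T]
  loc := Fi22Facts.loc

theorem allInv : Loc23.AllInv Fi22Facts.T := base.allInv

theorem exists_commute {s : Spor.Fi22} (hs : s * s = 1) : ∃ t ∈ Fi22Facts.T, s * t = t * s :=
  base.exists_commute hs

/-- The order six argument. -/
theorem not_three {G : Type*} [Group G] {e f q : G} (h1 : e * f ≠ f * e)
    (h3 : (e * f) ^ 3 = 1) (heq : e * q = q * e) (hfq : f * q = q * f) (hqq : q * q = 1)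
    (hq : q ≠ 1) {a b : G} (hab : a * b = e * f * q) (hba : b * a = f * e * q) :
    ¬ (a * b = b * a ∨ (a * b) ^ 3 = 1) := by
  rintro (h | h)
  · apply h1
    rw [hab, hba] at h
    exact mul_right_cancel h
  · apply hq
    have hc : Commute (e * f) q := Commute.mul_left heq hfq
    rw [hab, hc.mul_pow, h3, one_mul] at h
    calc q = q * q * q := by rw [hqq, one_mul]
      _ = q ^ 3 := by rw [pow_succ, pow_two]
      _ = 1 := h

/-- An involution of `Fi22` whose conjugates have products of order at most 3 is a transposition. -/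
theorem mem_T_of_three {s : Spor.Fi22} (hs : s * s = 1) (hs1 : s ≠ 1)
    (h3 : ∀ a ∈ conjugatesOf s, ∀ b ∈ conjugatesOf s, a * b = b * a ∨ (a * b) ^ 3 = 1) :
    s ∈ Fi22Facts.T := by
  have hF := tFacts
  obtain ⟨x, y, w, ht, hf⟩ := allInv s hs hs1
  obtain ⟨e, he, f, hf', h0, ex, ey, ew, fx, fy, fw⟩ := geo.noncomm x y w ht
  have h33 : (e * f) ^ 3 = 1 := by
    rcases Fi22Facts.isThreeTranspositionClass_T.1.2 e he f hf' with h | h
    · exfalso
      apply h0
      have se := hF.sq e he
      have sf := hF.sq f hf'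
      have h5 : (e * f)⁻¹ = e * f := inv_eq_of_mul_eq_one_left (by rw [← pow_two, h])
      rw [mul_inv_rev, inv_eq_of_mul_eq_one_left se, inv_eq_of_mul_eq_one_left sf] at h5
      exact h5.symm
    · exact h
  have sx := hF.sq x ht.ha
  have sy := hF.sq y ht.hb
  have sw := hF.sq w ht.hc
  have cxy := ht.cab
  have cxw := ht.cac
  have cyw := ht.cbc
  -- different elements
  have nex : e ≠ x := by rintro rfl; exact h0 fx.symm
  have ney : e ≠ y := by rintro rfl; exact h0 fy.symm
  have new : e ≠ w := by rintro rfl; exact h0 fw.symm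
  have nfx : f ≠ x := by rintro rfl; exact h0 ex
  have nfy : f ≠ y := by rintro rfl; exact h0 ey
  have nfw : f ≠ w := by rintro rfl; exact h0 ew
  have mul_ne : ∀ {p q : Spor.Fi22}, p * p = 1 → p ≠ q → p * q ≠ 1 := by
    intro p q hp hpq h5
    apply hpq
    calc p = p * (p * q) := by rw [h5, mul_one]
      _ = (p * p) * q := by group
      _ = q := by rw [hp, one_mul]
  have sqp : ∀ {p q : Spor.Fi22}, p * p = 1 → q * q = 1 → p * q = q * p → p * q * (p * q) = 1 := by
    intro p q hp hq hpq
    calc p * q * (p * q) = p * (q * p) * q := by group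
      _ = p * (p * q) * q := by rw [hpq]
      _ = (p * p) * (q * q) := by group
      _ = 1 := by rw [hp, hq, one_mul]
  rcases hf with rfl | rfl | rfl
  · exact ht.ha
  · exfalso
    -- `s = x y`
    obtain ⟨g, g1, g2, -⟩ := hF.tri x y w e x y ht.to
      ⟨he, ht.ha, ht.hb, nex, ney, ht.ab, ex, ey, cxy⟩
    obtain ⟨k, k1, k2, -⟩ := hF.tri x y w f y x ht.to
      ⟨hf', ht.hb, ht.ha, nfy, nfx, ht.ab.symm, fy, fx, cxy.symm⟩
    have m1 : e * x ∈ conjugatesOf (x * y) := isConj_iff.2 ⟨g, by
      calc g * (x * y) * g⁻¹ = (g * x * g⁻¹) * (g * y * g⁻¹) := by group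
        _ = e * x := by rw [g1, g2]⟩
    have m2 : f * y ∈ conjugatesOf (x * y) := isConj_iff.2 ⟨k, by
      calc k * (x * y) * k⁻¹ = (k * x * k⁻¹) * (k * y * k⁻¹) := by group
        _ = f * y := by rw [k1, k2]⟩
    refine not_three (e := e) (f := f) (q := x * y) h0 h33 ?_ ?_ (sqp sx sy cxy)
      (mul_ne sx ht.ab) ?_ ?_ (h3 _ m1 _ m2)
    · rw [← mul_assoc, ex, mul_assoc, ey, mul_assoc]
    · rw [← mul_assoc, fx, mul_assoc, fy, mul_assoc]
    · calc e * x * (f * y) = e * (x * f) * y := by group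
        _ = e * (f * x) * y := by rw [fx]
        _ = e * f * (x * y) := by group
    · calc f * y * (e * x) = f * (y * e) * x := by group
        _ = f * (e * y) * x := by rw [ey]
        _ = f * e * (y * x) := by group
        _ = f * e * (x * y) := by rw [cxy]
  · exfalso
    -- `s = x y w`
    obtain ⟨g, g1, g2, g3⟩ := hF.tri x y w e x y ht.to
      ⟨he, ht.ha, ht.hb, nex, ney, ht.ab, ex, ey, cxy⟩
    obtain ⟨k, k1, k2, k3⟩ := hF.tri x y w f x w ht.to
      ⟨hf', ht.ha, ht.hc, nfx, nfw, ht.ac, fx, fw, cxw⟩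
    have m1 : e * x * y ∈ conjugatesOf (x * y * w) := isConj_iff.2 ⟨g, by
      calc g * (x * y * w) * g⁻¹ = (g * x * g⁻¹) * (g * y * g⁻¹) * (g * w * g⁻¹) := by group
        _ = e * x * y := by rw [g1, g2, g3]⟩
    have m2 : f * x * w ∈ conjugatesOf (x * y * w) := isConj_iff.2 ⟨k, by
      calc k * (x * y * w) * k⁻¹ = (k * x * k⁻¹) * (k * y * k⁻¹) * (k * w * k⁻¹) := by group
        _ = f * x * w := by rw [k1, k2, k3]⟩
    refine not_three (e := e) (f := f) (q := y * w) h0 h33 ?_ ?_ (sqp sy sw cyw)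
      (mul_ne sy ht.bc) ?_ ?_ (h3 _ m1 _ m2)
    · rw [← mul_assoc, ey, mul_assoc, ew, mul_assoc]
    · rw [← mul_assoc, fy, mul_assoc, fw, mul_assoc]
    · calc e * x * y * (f * x * w) = e * x * (y * f) * x * w := by group
        _ = e * x * (f * y) * x * w := by rw [fy]
        _ = e * (x * f) * y * x * w := by group
        _ = e * (f * x) * y * x * w := by rw [fx]
        _ = e * f * x * (y * x) * w := by group
        _ = e * f * x * (x * y) * w := by rw [cxy]
        _ = e * f * (x * x) * (y * w) := by group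
        _ = e * f * (y * w) := by rw [sx, mul_one]
    · calc f * x * w * (e * x * y) = f * x * (w * e) * x * y := by group
        _ = f * x * (e * w) * x * y := by rw [ew]
        _ = f * (x * e) * w * x * y := by group
        _ = f * (e * x) * w * x * y := by rw [ex]
        _ = f * e * x * (w * x) * y := by group
        _ = f * e * x * (x * w) * y := by rw [cxw]
        _ = f * e * (x * x) * (w * y) := by group
        _ = f * e * (y * w) := by rw [sx, mul_one, cyw]

/-- **The strong form of S1713.** -/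
theorem strong {G : Type u} [Group G] [Finite G] (d : G)
    (hd : orderOf d = 2) (hq : IsQuasisimple (Subgroup.centralizer ({d} : Set G)))
    [((Subgroup.zpowers d).subgroupOf (Subgroup.centralizer ({d} : Set G))).Normal]
    (K : Type v) [Field K] [Fintype K] (hK : Fintype.card K = 4)
    (e : (Subgroup.centralizer ({d} : Set G)) ⧸
      (Subgroup.zpowers d).subgroupOf (Subgroup.centralizer ({d} : Set G)) ≃* PSU 6 K 2)
    (hnwc : ∃ g : G, g * d * g⁻¹ ∈ Subgroup.centralizer ({d} : Set G) ∧ g * d * g⁻¹ ≠ d) :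
    ∃ f : G ≃* Spor.Fi22, f d ∈ Fi22Facts.T := by
  obtain ⟨⟨f⟩, h3⟩ := iso_three d hd hq K hK e hnwc
  refine ⟨f, mem_T_of_three ?_ ?_ ?_⟩
  · rw [← map_mul, ← pow_two, ← hd, pow_orderOf_eq_one, map_one]
  · intro h
    have h1 : d = 1 := by
      apply f.injective
      rw [h, map_one]
    rw [h1, orderOf_one] at hd
    exact absurd hd (by norm_num)
  · intro a ha b hb
    obtain ⟨g, rfl⟩ := isConj_iff.1 (show IsConj (f d) a from ha)
    obtain ⟨k, rfl⟩ := isConj_iff.1 (show IsConj (f d) b from hb)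
    obtain ⟨g, rfl⟩ := f.surjective g
    obtain ⟨k, rfl⟩ := f.surjective k
    rw [← map_inv, ← map_mul, ← map_mul, ← map_inv, ← map_mul, ← map_mul, ← map_mul, ← map_mul,
      ← map_pow, f.injective.eq_iff, map_eq_one_iff f f.injective]
    exact h3 _ (isConj_iff.2 ⟨g, rfl⟩) _ (isConj_iff.2 ⟨k, rfl⟩)

end Cfsg.Agent.R01.Strong
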