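import Cfsg.Agent.R01.LiftsLoc
import Cfsg.Agent.R01.Assembly2
set_option linter.all false

/-!
The lifting theorem of `LiftsLoc` with the odd relation supplied by the Baer subplanes.
-/

set_option autoImplicit false

namespace Cfsg.Agent.R01.LiftsLoc2

open Cfsg Cfsg.Agent.R01.Lifts Cfsg.Agent.R01.Start Cfsg.Agent.R01.Loc Cfsg.Agent.R01.IsLabel
open Cfsg.Agent.R01.Label Cfsg.Agent.R01.LiftsLoc Cfsg.Agent.R01.Assembly2

universe u v

variable {P : Type u} [Group P] [Finite P] {F : Type v} [Field F] [Fintype F]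
  {hF : Fintype.card F = 2 ^ 2} {T : Set P}

/-- The odd relation: seven commuting members with product one, commuting with a further member. -/
theorem exists_odd (hL : Loc hF T) {r : P} (hr : r ∈ T) :
    ∃ l : List P, Odd l.length ∧ (∀ x ∈ l, x ∈ T) ∧ l.Pairwise Commute ∧ l.prod = 1 ∧
      ∀ x ∈ l, r ≠ x ∧ Commute r x := by
  obtain ⟨π, lift, L, hiff⟩ := hL r hr
  obtain ⟨b, hb⟩ := AllOfLab.exists_mem L
  obtain ⟨l, hodd, hlD, hlc, -, hprod⟩ := AllOfLab.exists_odd_list L (hasBaer L) hb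
  refine ⟨l.map Subtype.val, ?_, ?_, ?_, ?_, ?_⟩
  · rw [List.length_map]; exact hodd
  · intro x hx
    obtain ⟨y, hy, rfl⟩ := List.mem_map.mp hx
    exact (hiff y).mpr (Or.inr (hlD y hy))
  · rw [List.pairwise_map, List.pairwise_iff_forall_sublist]
    intro x y hxy
    have hx : x ∈ l := hxy.subset (by simp)
    have hy : y ∈ l := hxy.subset (by simp)
    exact congrArg Subtype.val (hlc x hx y hy)
  · have h1 : (l.map (Subtype.val)).prod = ((l.prod : Subgroup.centralizer ({r} : Set P)) : P) := by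
      have := map_list_prod (Subgroup.centralizer ({r} : Set P)).subtype l
      simp
    rw [h1, hprod]; rfl
  · intro x hx
    obtain ⟨y, hy, rfl⟩ := List.mem_map.mp hx
    refine ⟨fun h => ?_, ?_⟩
    · apply L.z_notMem
      have h1 : zel r = y := Subtype.ext h
      rw [h1]
      exact hlD y hy
    · exact (Subgroup.mem_centralizer_singleton_iff.1 y.2).symm

/-- The lifting theorem for a finite group with the local hypothesis. -/
theorem lifts {C : Type*} [Group C] {π : C →* P} {z : C} (h : Ext π z)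
    (hperf : commutator C = ⊤) (hT : IsThreeTranspositionClass T) (hL : Loc hF T) :
    ∃ D : Set C, IsThreeTranspositionClass D ∧ Set.BijOn π D T ∧
      (∀ c, π c ∈ T → c ∈ D ∨ c * z ∈ D) ∧ (∀ c ∈ D, c * z ∉ D) ∧
      (∀ a b, π a ∈ T → π b ∈ T → Commute (π a) (π b) → Commute a b) ∧
      (∀ a, π a ∈ T → orderOf a = 2) ∧
      (∀ a g, π a ∈ T → Commute (π g) (π a) → Commute g a) := by
  obtain ⟨r, hr, -⟩ := hT.2.1
  obtain ⟨l, h1, h2, h3, h4, h5⟩ := exists_odd hL hr
  exact lifts_of_loc h hperf hT hL ⟨l, h1, h2, h3, h4, r, hr, h5⟩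

end Cfsg.Agent.R01.LiftsLoc2
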