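import Cfsg.Agent.R01.HermSix
set_option linter.all false

/-!
# Labellings of commuting sets by the points of `H(5,4)`

For a conjugation closed set `D` of involutions and `x ∈ D`, a labelling of the elements of `D \ {x}`
commuting with `x` by the isotropic points of `F₄⁶`.
-/

set_option autoImplicit false
set_option linter.unusedSectionVars false

namespace Cfsg.Agent.R01.ComLabel

open Cfsg Cfsg.Agent.LieClassical.HermBasic Cfsg.Agent.R01.HermCode Cfsg.Agent.R01.HermSix
open Cfsg.Agent.SporadicStructure.UnitTwo (two_eq_zero add_self neg_eq eq_of_add_eq_zero pow_three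
  pow_four exists_omega zero_or_one_of_fixed vadd_self)

variable {G : Type*} [Group G]

/-- The non-zero isotropic vectors. -/
def Iso (F : Type*) [Field F] (v : Fin 6 → F) : Prop := v ≠ 0 ∧ hermForm 6 F 2 v v = 0

/-- A labelling of the elements of `D` commuting with `x` by the isotropic points. -/
structure IsLabel (F : Type*) [Field F] (D : Set G) (x : G) (τ : (Fin 6 → F) → G) : Prop where
  mem : ∀ v, Iso F v → τ v ∈ D ∧ τ v ≠ x ∧ Commute (τ v) x
  surj : ∀ a ∈ D, a ≠ x → Commute a x → ∃ v, Iso F v ∧ τ v = a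
  smul : ∀ v, Iso F v → ∀ c : F, c ≠ 0 → τ (c • v) = τ v
  inj : ∀ u v, Iso F u → Iso F v → τ u = τ v → ∃ c : F, v = c • u
  conj : ∀ u v, Iso F u → Iso F v → τ u * τ v * (τ u)⁻¹ = τ (v + hermForm 6 F 2 v u • u)

variable {F : Type*} [Field F] [Fintype F] (hF : Fintype.card F = 2 ^ 2) {ω : F}
  (hω : ω ^ 2 + ω + 1 = 0)

omit [Fintype F] in
theorem Iso.smul {v : Fin 6 → F} (hv : Iso F v) {c : F} (hc : c ≠ 0) : Iso F (c • v) := by
  refine ⟨smul_ne_zero hc hv.1, ?_⟩
  rw [herm_smul_left, herm_smul_right, hv.2, mul_zero, mul_zero]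

include hF in
theorem herm_add_self {u v : Fin 6 → F} (huu : hermForm 6 F 2 u u = 0)
    (hvv : hermForm 6 F 2 v v = 0) (x : F) :
    hermForm 6 F 2 (u + x • v) (u + x • v) =
      x ^ 2 * hermForm 6 F 2 u v + x * hermForm 6 F 2 u v ^ 2 := by
  rw [herm_add_left, herm_add_right hF, herm_add_right hF, herm_smul_left, herm_smul_left,
    herm_smul_right, herm_smul_right, huu, hvv, herm_swap hF u v]
  ring

include hF in
/-- Independence of non-perpendicular isotropic vectors. -/
theorem ne_smul_of_herm_ne {u v : Fin 6 → F} (huu : hermForm 6 F 2 u u = 0)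
    (huv : hermForm 6 F 2 u v ≠ 0) (x : F) : v ≠ x • u := by
  rintro rfl
  rw [herm_smul_right, huu, mul_zero] at huv
  exact huv rfl

include hF in
theorem iso_add_of_orth {u v : Fin 6 → F} (hu : Iso F u) (hv : Iso F v)
    (huv : hermForm 6 F 2 u v = 0) (hne : ∀ x : F, v ≠ x • u) (x : F) : Iso F (u + x • v) := by
  refine ⟨fun h => ?_, ?_⟩
  · by_cases hx : x = 0
    · rw [hx, zero_smul, add_zero] at h
      exact hu.1 h
    · apply hne (-x⁻¹)
      have h4 : u = -(x • v) := eq_neg_of_add_eq_zero_left h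
      rw [h4, smul_neg, neg_smul, neg_neg, inv_smul_smul₀ hx]
  · rw [herm_add_self hF hu.2 hv.2, huv]
    ring

include hF in
theorem iso_add_of_one {u v : Fin 6 → F} (hu : Iso F u) (hv : Iso F v)
    (huv : hermForm 6 F 2 u v = 1) : Iso F (u + v) := by
  refine ⟨fun h => ?_, ?_⟩
  · have h1 : v = -u := eq_neg_of_add_eq_zero_right h
    rw [h1, ← neg_one_smul F, herm_smul_right, hu.2, mul_zero] at huv
    exact zero_ne_one huv
  · have := herm_add_self hF hu.2 hv.2 1
    rw [one_smul] at this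
    rw [this, huv]
    linear_combination two_eq_zero hF

section label

variable {D : Set G} {x : G} {τ : (Fin 6 → F) → G} (hτ : IsLabel F D x τ)

include hF hτ in
theorem IsLabel.commute_iff {u v : Fin 6 → F} (hu : Iso F u) (hv : Iso F v) :
    Commute (τ u) (τ v) ↔ hermForm 6 F 2 u v = 0 := by
  constructor
  · intro h
    by_contra hne
    have hvu : hermForm 6 F 2 v u ≠ 0 := fun h0 => hne (herm_eq_zero_swap hF h0)
    have h1 := hτ.conj u v hu hv
    rw [h.eq, mul_inv_cancel_right] at h1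
    have hiso : Iso F (v + hermForm 6 F 2 v u • u) := by
      refine ⟨fun h0 => ?_, ?_⟩
      · apply ne_smul_of_herm_ne hF hu.2 hne (-hermForm 6 F 2 v u)
        rw [neg_smul]
        exact eq_neg_of_add_eq_zero_left h0
      · rw [herm_add_self hF hv.2 hu.2]
        have h4 := pow_four hF (hermForm 6 F 2 v u)
        linear_combination (hermForm 6 F 2 v u) ^ 3 * two_eq_zero hF
    obtain ⟨c, hc⟩ := hτ.inj _ _ hv hiso h1
    have h2 : hermForm 6 F 2 v u • u = (c - 1) • v := by
      rw [sub_smul, one_smul, ← hc]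
      abel
    have h3 : u = ((hermForm 6 F 2 v u)⁻¹ * (c - 1)) • v := by
      rw [mul_smul, ← h2, inv_smul_smul₀ hvu]
    apply hvu
    rw [h3, herm_smul_right, hv.2, mul_zero]
  · intro h
    have h1 := hτ.conj u v hu hv
    rw [herm_eq_zero_swap hF h, zero_smul, add_zero] at h1
    exact mul_inv_eq_iff_eq_mul.1 h1

include hF hτ in
theorem IsLabel.third {u v : Fin 6 → F} (hu : Iso F u) (hv : Iso F v)
    (h : hermForm 6 F 2 u v = 1) : τ u * τ v * (τ u)⁻¹ = τ (u + v) := by
  rw [hτ.conj u v hu hv, herm_swap hF u v, h, one_pow, one_smul, add_comm]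

include hτ in
/-- Conjugation of labellings. -/
theorem IsLabel.conjugate (hD : ∀ a ∈ D, ∀ g : G, g * a * g⁻¹ ∈ D) (g : G) :
    IsLabel F D (g * x * g⁻¹) (fun v => g * τ v * g⁻¹) := by
  refine ⟨fun v hv => ?_, fun a ha hne hc => ?_, fun v hv c hc => ?_, fun u v hu hv h => ?_,
    fun u v hu hv => ?_⟩
  · obtain ⟨h1, h2, h3⟩ := hτ.mem v hv
    refine ⟨hD _ h1 g, fun h => h2 ?_, ?_⟩
    · exact mul_left_cancel (mul_right_cancel h)
    · exact (Commute.conj_iff g).2 h3
  · obtain ⟨v, hv, h⟩ := hτ.surj (g⁻¹ * a * g⁻¹⁻¹) (hD a ha g⁻¹) (by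
      intro h; apply hne; rw [← h]; group) (by
      have : x = g⁻¹ * (g * x * g⁻¹) * g⁻¹⁻¹ := by group
      rw [this]
      exact (Commute.conj_iff g⁻¹).2 hc)
    exact ⟨v, hv, by rw [h]; group⟩
  · rw [hτ.smul v hv c hc]
  · exact hτ.inj u v hu hv (mul_left_cancel (mul_right_cancel h))
  · rw [← hτ.conj u v hu hv]
    group

end label

/-! ### Linear algebra -/

section linear

include hF hω in
/-- Expansion in a hyperbolic basis. -/
theorem expand {b : Fin 6 → (Fin 6 → F)} (hb : IsHypBasis b) (v : Fin 6 → F) :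
    v = ∑ i : Fin 6, hermForm 6 F 2 v (b i.rev) • b i := by
  obtain ⟨c, -, rfl⟩ := dec_surj hF hω hb v
  conv_lhs => rw [dec]
  refine Finset.sum_congr rfl fun i _ => ?_
  rw [herm_dec_basis hF hb, Fin.rev_rev]

include hF hω in
/-- A vector perpendicular to all isotropic vectors of the perp of a totally isotropic line lies in
the line. -/
theorem mem_line {u v t : Fin 6 → F} (hu : Iso F u) (hv : Iso F v)
    (huv : hermForm 6 F 2 u v = 0) (hne : ∀ x : F, v ≠ x • u)
    (ht : ∀ s, Iso F s → hermForm 6 F 2 s u = 0 → hermForm 6 F 2 s v = 0 →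
      hermForm 6 F 2 t s = 0) : ∃ α β : F, t = α • u + β • v := by
  have h2 := two_eq_zero hF
  have hli : LinearIndependent F ![u, v] := by
    rw [LinearIndependent.pair_iff]
    intro s t hst
    by_cases ht : t = 0
    · subst ht
      rw [zero_smul, add_zero] at hst
      exact ⟨(smul_eq_zero.1 hst).resolve_right hu.1, rfl⟩
    · exfalso
      apply hne (-(t⁻¹ * s))
      have h1 : t • v = -(s • u) := eq_neg_of_add_eq_zero_right hst
      have h3 : v = t⁻¹ • (t • v) := (inv_smul_smul₀ ht v).symm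
      rw [h3, h1, smul_neg, smul_smul, neg_smul]
  have hrank : Module.finrank F (Submodule.span F {u, v}) = 2 := by
    have h5 := finrank_span_eq_card hli
    rw [Matrix.range_cons_cons_empty, Fintype.card_fin] at h5
    exact h5
  have hvu := herm_eq_zero_swap hF huv
  obtain ⟨e, g, f, hspan, hee, heg, hef, hgg, hgf, hff⟩ :=
    ClassicalGeometry.HermFrame.exists_frame hF (n := 6) (k := 2) (m := 2) rfl
      (W := Submodule.span F {u, v}) hrank (by
        intro a ha b hb
        obtain ⟨a1, a2, rfl⟩ := Submodule.mem_span_pair.1 ha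
        obtain ⟨b1, b2, rfl⟩ := Submodule.mem_span_pair.1 hb
        simp only [herm_add_left, herm_add_right hF, herm_smul_left, herm_smul_right, hu.2, hv.2,
          huv, hvu, mul_zero, add_zero])
  -- `e i` are in the line
  have heW : ∀ i, ∃ α β : F, e i = α • u + β • v := by
    intro i
    have : e i ∈ Submodule.span F {u, v} := by
      rw [← hspan]; exact Submodule.subset_span ⟨i, rfl⟩
    obtain ⟨α, β, h⟩ := Submodule.mem_span_pair.1 this
    exact ⟨α, β, h.symm⟩
  have huW : ∀ s, (∀ i, hermForm 6 F 2 s (e i) = 0) →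
      hermForm 6 F 2 s u = 0 ∧ hermForm 6 F 2 s v = 0 := by
    intro s hs
    have key : ∀ y ∈ Submodule.span F (Set.range e), hermForm 6 F 2 s y = 0 := by
      intro y hy
      refine Submodule.span_induction ?_ ?_ ?_ ?_ hy
      · rintro _ ⟨i, rfl⟩; exact hs i
      · exact herm_zero_right hF _
      · intro a b _ _ ha hb; rw [herm_add_right hF, ha, hb, add_zero]
      · intro a b _ hb; rw [herm_smul_right, hb, mul_zero]
    rw [hspan] at key
    exact ⟨key u (Submodule.subset_span (by simp)), key v (Submodule.subset_span (by simp))⟩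
  have ge : ∀ i j, hermForm 6 F 2 (g i) (e j) = 0 := fun i j => herm_eq_zero_swap hF (heg j i)
  have hte : ∀ i, hermForm 6 F 2 t (e i) = 0 := by
    intro i
    apply ht
    · refine ⟨fun h => ?_, hee i i⟩
      have := hef i i
      rw [h, herm_zero_left, if_pos rfl] at this
      exact zero_ne_one this
    · exact (huW _ fun j => hee i j).1
    · exact (huW _ fun j => hee i j).2
  have g00 : hermForm 6 F 2 (g 0) (g 0) = 1 := by rw [hgg, if_pos rfl]
  have g11 : hermForm 6 F 2 (g 1) (g 1) = 1 := by rw [hgg, if_pos rfl]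
  have g01 : hermForm 6 F 2 (g 0) (g 1) = 0 := by rw [hgg, if_neg (by decide)]
  have g10 : hermForm 6 F 2 (g 1) (g 0) = 0 := by rw [hgg, if_neg (by decide)]
  have hgiso : ∀ x : F, x ≠ 0 → Iso F (g 0 + x • g 1) := by
    intro x hx
    have h3 := pow_three hF hx
    refine ⟨fun h => ?_, ?_⟩
    · have h5 : hermForm 6 F 2 (g 0) (g 0 + x • g 1) = 1 := by
        rw [herm_add_right hF, herm_smul_right, g00, g01, mul_zero, add_zero]
      rw [h, herm_zero_right hF] at h5
      exact zero_ne_one h5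
    · simp only [herm_add_left, herm_add_right hF, herm_smul_left, herm_smul_right, g00, g01, g10,
        g11, mul_zero, add_zero, zero_add, mul_one]
      linear_combination h3 + h2
  have htg' : ∀ x : F, x ≠ 0 → hermForm 6 F 2 t (g 0) + x ^ 2 * hermForm 6 F 2 t (g 1) = 0 := by
    intro x hx
    have h5 : ∀ j, hermForm 6 F 2 (g 0 + x • g 1) (e j) = 0 := by
      intro j
      rw [herm_add_left, herm_smul_left, ge, ge, mul_zero, add_zero]
    have := ht _ (hgiso x hx) (huW _ h5).1 (huW _ h5).2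
    rwa [herm_add_right hF, herm_smul_right] at this
  have h1 := htg' 1 one_ne_zero
  have hω0 := omega_ne_zero hω
  have h3 : ω ^ 3 = 1 := by linear_combination (ω - 1) * hω
  have h4 := htg' ω hω0
  have htg1 : hermForm 6 F 2 t (g 1) = 0 := by
    have : ω * hermForm 6 F 2 t (g 1) = 0 := by
      linear_combination h1 - h4 - hermForm 6 F 2 t (g 1) * h2 + hermForm 6 F 2 t (g 1) * hω
    exact (mul_eq_zero.1 this).resolve_left hω0
  have htg0 : hermForm 6 F 2 t (g 0) = 0 := by
    rw [htg1, mul_zero, add_zero] at h1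
    exact h1
  -- the remainder
  have fe : ∀ i j, hermForm 6 F 2 (f i) (e j) = if i = j then 1 else 0 := by
    intro i j
    rw [herm_swap hF (e j) (f i), hef]
    split_ifs with a b b
    · exact one_pow 2
    · exact absurd a.symm b
    · exact absurd b.symm a
    · exact zero_pow two_ne_zero
  -- a hyperbolic basis
  obtain ⟨r, hr⟩ : ∃ r : Fin 6 → (Fin 6 → F), r = ![e 0, e 1, g 0 + g 1, ω • g 0 + ω ^ 2 • g 1,
    f 1, f 0] := ⟨_, rfl⟩
  have ee00 := hee 0 0
  have ee01 := hee 0 1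
  have ee10 := hee 1 0
  have ee11 := hee 1 1
  have ff00 := hff 0 0
  have ff01 := hff 0 1
  have ff10 := hff 1 0
  have ff11 := hff 1 1
  have gf : ∀ i j, hermForm 6 F 2 (g i) (f j) = 0 := hgf
  have fg : ∀ i j, hermForm 6 F 2 (f i) (g j) = 0 := fun i j => herm_eq_zero_swap hF (hgf j i)
  have ef00 : hermForm 6 F 2 (e 0) (f 0) = 1 := by rw [hef, if_pos rfl]
  have ef11 : hermForm 6 F 2 (e 1) (f 1) = 1 := by rw [hef, if_pos rfl]
  have ef01 : hermForm 6 F 2 (e 0) (f 1) = 0 := by rw [hef, if_neg (by decide)]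
  have ef10 : hermForm 6 F 2 (e 1) (f 0) = 0 := by rw [hef, if_neg (by decide)]
  have fe00 : hermForm 6 F 2 (f 0) (e 0) = 1 := by rw [fe, if_pos rfl]
  have fe11 : hermForm 6 F 2 (f 1) (e 1) = 1 := by rw [fe, if_pos rfl]
  have fe01 : hermForm 6 F 2 (f 0) (e 1) = 0 := by rw [fe, if_neg (by decide)]
  have fe10 : hermForm 6 F 2 (f 1) (e 0) = 0 := by rw [fe, if_neg (by decide)]
  have z1 : (1 : F) + 1 = 0 := by linear_combination h2
  have z2 : ω ^ 2 + (ω ^ 2) ^ 2 = 1 := by linear_combination hω + ω * h3 - h2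
  have z3 : ω + ω ^ 2 = 1 := by linear_combination hω - h2
  have z4 : ω ^ 2 * ω + (ω ^ 2) ^ 2 * ω ^ 2 = 0 := by
    linear_combination (2 + ω ^ 3) * h3 + h2
  have hyp : IsHypBasis r := by
    intro i j
    fin_cases i <;> fin_cases j <;>
    simp only [hr, Fin.reduceFinMk, Fin.isValue, Fin.zero_eta, Fin.mk_one,
      Matrix.cons_val, herm_add_left, herm_add_right hF, herm_smul_left, herm_smul_right, ee00,
      ee01, ee10, ee11, ff00, ff01, ff10, ff11, gf, fg, ge, heg, ef00, ef11, ef01, ef10, fe00,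
      fe11, fe01, fe10, g00, g01, g10, g11, mul_zero, add_zero, zero_add, mul_one]
    all_goals first | rfl | exact z1 | exact z2 | exact z3 | exact z4
  have hexp := expand hF hω hyp t
  rw [Fin.sum_univ_six] at hexp
  have r0 : r 0 = e 0 := by rw [hr]; rfl
  have r1 : r 1 = e 1 := by rw [hr]; rfl
  have r2 : r 2 = g 0 + g 1 := by rw [hr]; rfl
  have r3 : r 3 = ω • g 0 + ω ^ 2 • g 1 := by rw [hr]; rfl
  have w2 : hermForm 6 F 2 t (r (Fin.rev 2)) = 0 := by
    show hermForm 6 F 2 t (r 3) = 0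
    rw [r3, herm_add_right hF, herm_smul_right, herm_smul_right, htg0, htg1, mul_zero, mul_zero,
      add_zero]
  have w3 : hermForm 6 F 2 t (r (Fin.rev 3)) = 0 := by
    show hermForm 6 F 2 t (r 2) = 0
    rw [r2, herm_add_right hF, htg0, htg1, add_zero]
  have w4 : hermForm 6 F 2 t (r (Fin.rev 4)) = 0 := by
    show hermForm 6 F 2 t (r 1) = 0
    rw [r1, hte]
  have w5 : hermForm 6 F 2 t (r (Fin.rev 5)) = 0 := by
    show hermForm 6 F 2 t (r 0) = 0
    rw [r0, hte]
  rw [w2, w3, w4, w5, zero_smul, zero_smul, zero_smul, zero_smul, add_zero, add_zero, add_zero,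
    add_zero, r0, r1] at hexp
  obtain ⟨α0, β0, h0⟩ := heW 0
  obtain ⟨α1, β1, h1⟩ := heW 1
  rw [h0, h1] at hexp
  refine ⟨hermForm 6 F 2 t (r (Fin.rev 0)) * α0 + hermForm 6 F 2 t (r (Fin.rev 1)) * α1,
    hermForm 6 F 2 t (r (Fin.rev 0)) * β0 + hermForm 6 F 2 t (r (Fin.rev 1)) * β1, ?_⟩
  conv_lhs => rw [hexp]
  simp only [smul_add, add_smul, smul_smul]
  abel

end linear

/-! ### Hexads -/

section hexad

variable {D : Set G} {x : G} {τ : (Fin 6 → F) → G}

/-- The points of the line through `u`, `v` other than that of `u`. -/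
def rest (ω : F) (τ : (Fin 6 → F) → G) (u v : Fin 6 → F) : Set G :=
  {τ v, τ (u + v), τ (u + ω • v), τ (u + ω ^ 2 • v)}

/-- The elements of `D` commuting with everything that commutes with `a, b, c`. -/
def hexad (D : Set G) (a b c : G) : Set G :=
  {y | y ∈ D ∧ ∀ z ∈ D, Commute z a → Commute z b → Commute z c → Commute z y}

omit [Fintype F] in
theorem hexad_comm (a b c : G) : hexad D a b c = hexad D b a c := by
  ext y
  simp only [hexad, Set.mem_ofPred_eq]
  constructor <;> rintro ⟨h1, h2⟩ <;> exact ⟨h1, fun z hz ha hb hc => h2 z hz hb ha hc⟩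

include hF hω in
theorem IsLabel.hexad_eq (hτ : IsLabel F D x τ) (hx : x ∈ D) {u v : Fin 6 → F} (hu : Iso F u)
    (hv : Iso F v) (huv : hermForm 6 F 2 u v = 0) (hne : ∀ y : F, v ≠ y • u) :
    hexad D x (τ u) (τ v) = insert x (insert (τ u) (rest ω τ u v)) := by
  have hadd := iso_add_of_orth hF hu hv huv hne
  have hvu := herm_eq_zero_swap hF huv
  ext y
  simp only [hexad, rest, Set.mem_ofPred_eq, Set.mem_insert_iff, Set.mem_singleton_iff]
  constructor
  · rintro ⟨hyD, hy⟩
    by_cases hyx : y = x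
    · exact Or.inl hyx
    right
    have hc : Commute x y := hy x hx (Commute.refl x) (hτ.mem u hu).2.2.symm
      (hτ.mem v hv).2.2.symm
    obtain ⟨t, ht, rfl⟩ := hτ.surj y hyD hyx hc.symm
    obtain ⟨α, β, hαβ⟩ := mem_line hF hω hu hv huv hne (t := t) (by
      intro s hs hsu hsv
      have h1 := hy (τ s) (hτ.mem s hs).1 (hτ.mem s hs).2.2
        ((hτ.commute_iff hF hs hu).2 hsu) ((hτ.commute_iff hF hs hv).2 hsv)
      exact herm_eq_zero_swap hF ((hτ.commute_iff hF hs ht).1 h1))
    by_cases hα : α = 0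
    · right; left
      rw [hα, zero_smul, zero_add] at hαβ
      have hβ : β ≠ 0 := by
        rintro rfl
        rw [zero_smul] at hαβ
        exact ht.1 hαβ
      rw [hαβ, hτ.smul v hv β hβ]
    · have h1 : t = α • (u + (α⁻¹ * β) • v) := by
        rw [smul_add, smul_smul, mul_inv_cancel_left₀ hα, hαβ]
      rw [h1, hτ.smul _ (hadd _) α hα]
      obtain ⟨p, q, hpq⟩ := exists_bitF hF hω (α⁻¹ * β)
      rw [hpq]
      cases p <;> cases q
      · left
        rw [bitF_one_zero, zero_smul, add_zero]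
      · right; right; left
        rw [bitF_one_one, one_smul]
      · right; right; right; left
        congr 3
        simp [bitF, bI]
      · right; right; right; right
        congr 3
        simp only [bitF, bI, cond_true]
        linear_combination -hω + (ω + 1) * two_eq_zero hF
  · intro h
    have hD : ∀ s, Iso F s → τ s ∈ D := fun s hs => (hτ.mem s hs).1
    have key : ∀ s, Iso F s → (∀ r, hermForm 6 F 2 r u = 0 → hermForm 6 F 2 r v = 0 →
        hermForm 6 F 2 r s = 0) → ∀ z ∈ D, Commute z x → Commute z (τ u) → Commute z (τ v) →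
        Commute z (τ s) := by
      intro s hs hrs z hz hzx hzu hzv
      by_cases hzx' : z = x
      · rw [hzx']; exact (hτ.mem s hs).2.2.symm
      · obtain ⟨r, hr, rfl⟩ := hτ.surj z hz hzx' hzx
        exact (hτ.commute_iff hF hr hs).2 (hrs r ((hτ.commute_iff hF hr hu).1 hzu)
          ((hτ.commute_iff hF hr hv).1 hzv))
    rcases h with rfl | rfl | rfl | rfl | rfl | rfl
    · exact ⟨hx, fun z _ h _ _ => h⟩
    · exact ⟨hD u hu, fun z _ _ h _ => h⟩
    · exact ⟨hD v hv, fun z _ _ _ h => h⟩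
    · have h1 := hadd 1
      rw [one_smul] at h1
      refine ⟨hD _ h1, key _ h1 fun r h2 h3 => ?_⟩
      rw [herm_add_right hF, h2, h3, add_zero]
    · refine ⟨hD _ (hadd ω), key _ (hadd ω) fun r h2 h3 => ?_⟩
      rw [herm_add_right hF, herm_smul_right, h2, h3, mul_zero, add_zero]
    · refine ⟨hD _ (hadd (ω ^ 2)), key _ (hadd (ω ^ 2)) fun r h2 h3 => ?_⟩
      rw [herm_add_right hF, herm_smul_right, h2, h3, mul_zero, add_zero]

omit [Fintype F] in
/-- Independence. -/
theorem indep {u v : Fin 6 → F} (hu : u ≠ 0) (hne : ∀ y : F, v ≠ y • u) {α β : F}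
    (h : α • u + β • v = 0) : α = 0 ∧ β = 0 := by
  by_cases hβ : β = 0
  · subst hβ
    rw [zero_smul, add_zero] at h
    exact ⟨(smul_eq_zero.1 h).resolve_right hu, rfl⟩
  · exfalso
    apply hne (-(β⁻¹ * α))
    have h1 : β • v = -(α • u) := eq_neg_of_add_eq_zero_right h
    have h3 : v = β⁻¹ • (β • v) := (inv_smul_smul₀ hβ v).symm
    rw [h3, h1, smul_neg, smul_smul, neg_smul]

include hF hω in
theorem mem_rest {τ : (Fin 6 → F) → G} {u v : Fin 6 → F} {g : G} :
    g ∈ rest ω τ u v ↔ g = τ v ∨ ∃ y : F, y ≠ 0 ∧ g = τ (u + y • v) := by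
  simp only [rest, Set.mem_insert_iff, Set.mem_singleton_iff]
  constructor
  · rintro (h | h | h | h)
    · exact Or.inl h
    · exact Or.inr ⟨1, one_ne_zero, by rw [one_smul]; exact h⟩
    · exact Or.inr ⟨ω, omega_ne_zero hω, h⟩
    · exact Or.inr ⟨ω ^ 2, pow_ne_zero 2 (omega_ne_zero hω), h⟩
  · rintro (h | ⟨y, hy, h⟩)
    · exact Or.inl h
    right
    obtain ⟨p, q, hpq⟩ := exists_bitF hF hω y
    rw [hpq] at h hy
    cases p <;> cases q
    · exact absurd bitF_one_zero hy
    · left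
      rw [bitF_one_one, one_smul] at h
      exact h
    · right; left
      rw [h]
      congr 3
      simp [bitF, bI]
    · right; right
      rw [h]
      congr 3
      simp only [bitF, bI, cond_true]
      linear_combination -hω + (ω + 1) * two_eq_zero hF

include hF in
theorem IsLabel.ne_of_line (hτ : IsLabel F D x τ) {u v : Fin 6 → F} (hu : Iso F u)
    (hv : Iso F v) (huv : hermForm 6 F 2 u v = 0) (hne : ∀ y : F, v ≠ y • u) :
    (∀ y : F, τ v ≠ τ (u + y • v)) ∧ (∀ y z : F, τ (u + y • v) = τ (u + z • v) → y = z) := by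
  have hadd := iso_add_of_orth hF hu hv huv hne
  constructor
  · intro y h
    obtain ⟨c, hc⟩ := hτ.inj _ _ hv (hadd y) h
    have h1 : (1 : F) • u + (y - c) • v = 0 := by
      rw [one_smul, sub_smul, ← hc]; abel
    exact one_ne_zero (indep hu.1 hne h1).1
  · intro y z h
    obtain ⟨c, hc⟩ := hτ.inj _ _ (hadd y) (hadd z) h
    have h1 : (1 - c) • u + (z - c * y) • v = 0 := by
      rw [sub_smul, sub_smul, one_smul, mul_smul]
      rw [smul_add] at hc
      calc u - c • u + (z • v - c • y • v) = (u + z • v) - (c • u + c • y • v) := by abel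
        _ = 0 := by rw [hc, sub_self]
    obtain ⟨h2, h3⟩ := indep hu.1 hne h1
    have h4 : c = 1 := by linear_combination -h2
    rw [h4, one_mul] at h3
    exact (sub_eq_zero.1 h3).symm

include hF hω in
/-- One-or-all: a point not collinear with a point of a line is collinear with exactly one of the
others. -/
theorem IsLabel.existsUnique (hτ : IsLabel F D x τ) {u v t : Fin 6 → F} (hu : Iso F u)
    (hv : Iso F v) (ht : Iso F t) (huv : hermForm 6 F 2 u v = 0) (hne : ∀ y : F, v ≠ y • u)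
    (hut : hermForm 6 F 2 u t ≠ 0) : ∃! y, y ∈ rest ω τ u v ∧ Commute y (τ t) := by
  have hadd := iso_add_of_orth hF hu hv huv hne
  have h2 := two_eq_zero hF
  by_cases hvt : hermForm 6 F 2 v t = 0
  · refine ⟨τ v, ⟨(mem_rest hF hω).2 (Or.inl rfl), (hτ.commute_iff hF hv ht).2 hvt⟩, ?_⟩
    rintro g ⟨hg, hc⟩
    rcases (mem_rest hF hω).1 hg with h | ⟨y, hy, rfl⟩
    · exact h
    · exfalso
      have := (hτ.commute_iff hF (hadd y) ht).1 hc
      rw [herm_add_left, herm_smul_left, hvt, mul_zero, add_zero] at this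
      exact hut this
  · set y0 := hermForm 6 F 2 u t / hermForm 6 F 2 v t with hy0
    have hy0' : y0 ≠ 0 := div_ne_zero hut hvt
    have hmul : y0 * hermForm 6 F 2 v t = hermForm 6 F 2 u t := div_mul_cancel₀ _ hvt
    refine ⟨τ (u + y0 • v), ⟨(mem_rest hF hω).2 (Or.inr ⟨y0, hy0', rfl⟩),
      (hτ.commute_iff hF (hadd y0) ht).2 ?_⟩, ?_⟩
    · rw [herm_add_left, herm_smul_left, hmul]
      exact add_self hF _
    · rintro g ⟨hg, hc⟩
      rcases (mem_rest hF hω).1 hg with rfl | ⟨y, hy, rfl⟩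
      · exact absurd ((hτ.commute_iff hF hv ht).1 hc) hvt
      · have h3 := (hτ.commute_iff hF (hadd y) ht).1 hc
        rw [herm_add_left, herm_smul_left] at h3
        have h4 : (y0 - y) * hermForm 6 F 2 v t = 0 := by
          linear_combination hmul + h3 - y * hermForm 6 F 2 v t * h2
        have h5 := (mul_eq_zero.1 h4).resolve_right hvt
        rw [← sub_eq_zero.1 h5]

include hF hω in
theorem IsLabel.rest_eq (hτ : IsLabel F D x τ) (hx : x ∈ D) {u v : Fin 6 → F} (hu : Iso F u)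
    (hv : Iso F v) (huv : hermForm 6 F 2 u v = 0) (hne : ∀ y : F, v ≠ y • u) (g : G) :
    g ∈ rest ω τ u v ↔ g ∈ hexad D x (τ u) (τ v) ∧ g ≠ x ∧ g ≠ τ u := by
  have hadd := iso_add_of_orth hF hu hv huv hne
  obtain ⟨d1, d2⟩ := hτ.ne_of_line hF hu hv huv hne
  rw [hτ.hexad_eq hF hω hx hu hv huv hne]
  simp only [Set.mem_insert_iff]
  constructor
  · intro h
    refine ⟨Or.inr (Or.inr h), ?_, ?_⟩
    · rcases (mem_rest hF hω).1 h with rfl | ⟨y, hy, rfl⟩
      · exact (hτ.mem v hv).2.1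
      · exact (hτ.mem _ (hadd y)).2.1
    · rcases (mem_rest hF hω).1 h with rfl | ⟨y, hy, rfl⟩
      · have := d1 0
        rwa [zero_smul, add_zero] at this
      · intro h1
        have := d2 y 0 (by rw [zero_smul, add_zero]; exact h1)
        exact hy this
  · rintro ⟨h | h | h, h1, h2⟩
    · exact absurd h h1
    · exact absurd h h2
    · exact h

include hF hω in
/-- The key property of the common neighbours: through each common neighbour `m` of `d`, `e` every
line of the polar space of `e` has exactly one further point commuting with `d`. -/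
theorem line_property (hlab : ∀ y ∈ D, ∃ σ : (Fin 6 → F) → G, IsLabel F D y σ) {e d : G}
    (he : e ∈ D) (hd : d ∈ D) (hτ : IsLabel F D e τ) {u v : Fin 6 → F} (hu : Iso F u)
    (hv : Iso F v) (huv : hermForm 6 F 2 u v = 0) (hne : ∀ y : F, v ≠ y • u)
    (hdm : Commute d (τ u)) (hde : ¬ Commute d e) :
    ∃! y, y ∈ rest ω τ u v ∧ Commute y d := by
  obtain ⟨hmD, hme, hmc⟩ := hτ.mem u hu
  obtain ⟨hbD, hbe, hbc⟩ := hτ.mem v hv
  have hmb : Commute (τ u) (τ v) := (hτ.commute_iff hF hu hv).2 huv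
  have hbm : τ v ≠ τ u := by
    have := (hτ.ne_of_line hF hu hv huv hne).1 0
    rwa [zero_smul, add_zero] at this
  obtain ⟨σ, hσ⟩ := hlab (τ u) hmD
  obtain ⟨u', hu', hu'e⟩ := hσ.surj e he hme.symm hmc.symm
  obtain ⟨v', hv', hv'b⟩ := hσ.surj (τ v) hbD hbm hmb.symm
  have hdm' : d ≠ τ u := by
    rintro rfl
    exact hde hmc
  obtain ⟨t', ht', ht'd⟩ := hσ.surj d hd hdm' hdm
  have huv' : hermForm 6 F 2 u' v' = 0 := by
    rw [← hσ.commute_iff hF hu' hv', hu'e, hv'b]
    exact hbc.symm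
  have hne' : ∀ y : F, v' ≠ y • u' := by
    rintro y rfl
    have hy : y ≠ 0 := by
      rintro rfl
      rw [zero_smul] at hv'
      exact hv'.1 rfl
    rw [hσ.smul u' hu' y hy, hu'e] at hv'b
    exact hbe hv'b.symm
  have hut' : hermForm 6 F 2 u' t' ≠ 0 := by
    rw [Ne, ← hσ.commute_iff hF hu' ht', hu'e, ht'd]
    exact fun h => hde h.symm
  have h1 := hσ.existsUnique hF hω hu' hv' ht' huv' hne' hut'
  rw [ht'd] at h1
  have h2 : ∀ g, g ∈ rest ω σ u' v' ↔ g ∈ rest ω τ u v := by
    intro g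
    rw [hσ.rest_eq hF hω hmD hu' hv' huv' hne', hτ.rest_eq hF hω he hu hv huv hne, hu'e, hv'b,
      hexad_comm]
    constructor
    · rintro ⟨a, b, c⟩; exact ⟨a, c, b⟩
    · rintro ⟨a, b, c⟩; exact ⟨a, c, b⟩
  simpa only [h2] using h1

include hF hω in
/-- The common neighbours of `d` and `e` form a hyperoval in the polar space of `e`. -/
theorem vhyp (hlab : ∀ y ∈ D, ∃ σ : (Fin 6 → F) → G, IsLabel F D y σ) {e d : G}
    (he : e ∈ D) (hd : d ∈ D) (hτ : IsLabel F D e τ) (hde : ¬ Commute d e) :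
    VHyp ω {v | Iso F v ∧ Commute (τ v) d} := by
  refine ⟨?_, ?_, ?_⟩
  · rintro v hv0 hvv y hy ⟨h1, h2⟩
    exact ⟨h1.smul hy, by rw [hτ.smul v h1 y hy]; exact h2⟩
  · rintro u v hu0 hv0 huu hvv huv ⟨h1, h2⟩ ⟨h3, h4⟩
    refine ⟨iso_add_of_one hF h1 h3 huv, ?_⟩
    rw [← hτ.third hF h1 h3 huv]
    exact (h2.mul_left h4).mul_left h2.inv_left
  · rintro u v hu0 hv0 huu hvv huv hne ⟨hu, hdm⟩
    have hv : Iso F v := ⟨hv0, hvv⟩
    have hadd := iso_add_of_orth hF hu hv huv hne
    obtain ⟨d1, d2⟩ := hτ.ne_of_line hF hu hv huv hne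
    obtain ⟨g, ⟨hg, hgd⟩, huniq⟩ := line_property hF hω hlab he hd hτ hu hv huv hne hdm.symm hde
    have hω0 := omega_ne_zero hω
    have hω1 : ω ≠ 1 := by
      rintro rfl
      have : (1 : F) = 0 := by linear_combination hω - two_eq_zero hF
      exact one_ne_zero this
    have hω2 : ω ^ 2 ≠ 1 := by
      intro h
      have : ω = 0 := by linear_combination hω - h - two_eq_zero hF
      exact hω0 this
    have hωω : ω ^ 2 ≠ ω := by
      intro h
      have : (ω - 1) * ω = 0 := by linear_combination h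
      rcases mul_eq_zero.1 this with h3 | h3
      · exact hω1 (sub_eq_zero.1 h3)
      · exact hω0 h3
    have e1 : u + v = u + (1 : F) • v := by rw [one_smul]
    have n1 : τ v ≠ τ (u + v) := by rw [e1]; exact d1 1
    have n2 : τ v ≠ τ (u + ω • v) := d1 ω
    have n3 : τ v ≠ τ (u + ω ^ 2 • v) := d1 (ω ^ 2)
    have n4 : τ (u + v) ≠ τ (u + ω • v) := by
      rw [e1]; intro h; exact hω1 (d2 _ _ h).symm
    have n5 : τ (u + v) ≠ τ (u + ω ^ 2 • v) := by
      rw [e1]; intro h; exact hω2 (d2 _ _ h).symm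
    have n6 : τ (u + ω • v) ≠ τ (u + ω ^ 2 • v) := by
      intro h; exact hωω (d2 _ _ h).symm
    have m0 : τ v ∈ rest ω τ u v := Or.inl rfl
    have m1 : τ (u + v) ∈ rest ω τ u v := Or.inr (Or.inl rfl)
    have m2 : τ (u + ω • v) ∈ rest ω τ u v := Or.inr (Or.inr (Or.inl rfl))
    have m3 : τ (u + ω ^ 2 • v) ∈ rest ω τ u v := Or.inr (Or.inr (Or.inr rfl))
    have hnot : ∀ {a s}, g = τ a → τ s ∈ rest ω τ u v → τ a ≠ τ s →
        s ∉ {v | Iso F v ∧ Commute (τ v) d} := by
      rintro a s ha hs hn ⟨-, hcs⟩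
      exact hn (by rw [← ha]; exact (huniq _ ⟨hs, hcs⟩).symm)
    have i1 : Iso F (u + v) := by rw [e1]; exact hadd 1
    rcases hg with rfl | rfl | rfl | rfl
    · exact Or.inl ⟨⟨hv, hgd⟩, hnot rfl m1 n1, hnot rfl m2 n2, hnot rfl m3 n3⟩
    · exact Or.inr (Or.inl ⟨hnot rfl m0 n1.symm, ⟨i1, hgd⟩, hnot rfl m2 n4, hnot rfl m3 n5⟩)
    · exact Or.inr (Or.inr (Or.inl ⟨hnot rfl m0 n2.symm, hnot rfl m1 n4.symm, ⟨hadd ω, hgd⟩,
        hnot rfl m3 n6⟩))
    · exact Or.inr (Or.inr (Or.inr ⟨hnot rfl m0 n3.symm, hnot rfl m1 n5.symm, hnot rfl m2 n6.symm,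
        ⟨hadd (ω ^ 2), hgd⟩⟩))

include hF hω in
/-- Normal form of the set of common neighbours of two elements at distance two. -/
theorem normal_form (hlab : ∀ y ∈ D, ∃ σ : (Fin 6 → F) → G, IsLabel F D y σ) {e d m : G}
    (he : e ∈ D) (hd : d ∈ D) (hτ : IsLabel F D e τ) (hde : ¬ Commute d e) (hm : m ∈ D)
    (hmd : Commute m d) (hme : Commute m e) :
    ∃ b : Fin 6 → (Fin 6 → F), IsHypBasis b ∧ τ (b 0) = m ∧
      ∀ c, isPt c = true → (Commute (τ (dec b ω c)) d ↔ tb M0mask c = true) := by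
  have hne : m ≠ e := by
    rintro rfl
    exact hde hmd.symm
  obtain ⟨v, hv, rfl⟩ := hτ.surj m hm hne hme
  obtain ⟨b, hb, ⟨y, hy, hb0⟩, h⟩ := (vhyp hF hω hlab he hd hτ hde).normal hF hω hv.1 hv.2
    ⟨hv, hmd⟩
  refine ⟨b, hb, by rw [hb0, hτ.smul v hv y hy], fun c hc => ?_⟩
  rw [← h c hc]
  have hiso : Iso F (dec b ω c) := ((isPt_iff_dec hF hω hb).1 hc).2
  exact ⟨fun h => ⟨hiso, h⟩, fun h => h.2⟩

end hexad

end Cfsg.Agent.R01.ComLabel
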