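import Cfsg.Agent.R01.Lifts
import Cfsg.Agent.R01.PSUSix
set_option linter.all false

/-!
Systems of lifts of the transvections of `PSU 6 F 2` (`F` the field with four elements) in a central
extension by a group of order two: definitions and first properties.
-/

set_option autoImplicit false
set_option linter.unusedSectionVars false

namespace Cfsg.Agent.R01.Lam

open Cfsg Cfsg.Agent.LieClassical.HermBasic Cfsg.Agent.ClassicalGeometry.UnitTransv
open Cfsg.Agent.SporadicStructure.UnitTwo Cfsg.Agent.R01.PSUSix Cfsg.Agent.R01.Lifts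
open Cfsg.Agent.ClassicalGeometry.UnitAutBasic (tau pr pr_surjective)

variable {F : Type*} [Field F] [Fintype F] (hF : Fintype.card F = 2 ^ 2)
variable {C : Type*} [Group C] (π : C →* PSU 6 F 2) (z : C) (lam : (Fin 6 → F) → C)

/-- The lifts of transvections, normalised so that the product over a totally isotropic line is 1. -/
structure LamSys : Prop where
  ext : Ext π z
  pi : ∀ v, hermForm 6 F 2 v v = 0 → π (lam v) = tau hF v
  conj : ∀ (c : C) (g : SU 6 F 2) (v : Fin 6 → F), hermForm 6 F 2 v v = 0 → π c = pr 6 F 2 g →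
    c * lam v * c⁻¹ = lam (act g v)
  zero : lam 0 = 1
  smul : ∀ (a : F) (v : Fin 6 → F), a ≠ 0 → hermForm 6 F 2 v v = 0 → lam (a • v) = lam v
  sq : ∀ v, hermForm 6 F 2 v v = 0 → lam v * lam v = 1
  line : ∀ (a b : Fin 6 → F) (ω : F), hermForm 6 F 2 a a = 0 → hermForm 6 F 2 b b = 0 →
    hermForm 6 F 2 a b = 0 → (∀ x y : F, x • a + y • b = 0 → x = 0 ∧ y = 0) → ω ^ 2 + ω + 1 = 0 →
    lam a * lam b * lam (a + b) * lam (ω • a + b) * lam (ω ^ 2 • a + b) = 1

/-- `c` acts on the lifts through the map `f`. -/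
def Acts (c : C) (f : (Fin 6 → F) → (Fin 6 → F)) : Prop :=
  ∀ v, hermForm 6 F 2 v v = 0 →
    hermForm 6 F 2 (f v) (f v) = 0 ∧ c * lam v * c⁻¹ = lam (f v)

variable {hF π z lam}

theorem Acts.mul {c c' : C} {f f' : (Fin 6 → F) → (Fin 6 → F)} (h : Acts lam c f)
    (h' : Acts lam c' f') : Acts lam (c * c') (fun v => f (f' v)) := by
  intro v hv
  obtain ⟨h1, h2⟩ := h' v hv
  obtain ⟨h3, h4⟩ := h _ h1
  refine ⟨h3, ?_⟩
  rw [← h4, ← h2]
  group

namespace LamSys

variable (S : LamSys hF π z lam)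
include S

theorem acts_lam {u : Fin 6 → F} (hu : hermForm 6 F 2 u u = 0) :
    Acts lam (lam u) (fun v => v + hermForm 6 F 2 v u • u) := by
  intro v hv
  refine ⟨?_, ?_⟩
  · show hermForm 6 F 2 (v + hermForm 6 F 2 v u • u) (v + hermForm 6 F 2 v u • u) = 0
    rw [← act_T hF u hu v, herm_act, hv]
  · have h1 := S.conj (lam u) (T hF u hu) v hv (by rw [S.pi u hu, tau_eq_pr hF hu])
    rw [h1, act_T]

theorem conj_lam {u v : Fin 6 → F} (hu : hermForm 6 F 2 u u = 0) (hv : hermForm 6 F 2 v v = 0) :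
    lam u * lam v * (lam u)⁻¹ = lam (v + hermForm 6 F 2 v u • u) := (S.acts_lam hu v hv).2

theorem inv_lam {u : Fin 6 → F} (hu : hermForm 6 F 2 u u = 0) : (lam u)⁻¹ = lam u :=
  inv_eq_of_mul_eq_one_left (S.sq u hu)

theorem comm {u v : Fin 6 → F} (hu : hermForm 6 F 2 u u = 0) (hv : hermForm 6 F 2 v v = 0)
    (h : hermForm 6 F 2 v u = 0) : Commute (lam u) (lam v) := by
  have h1 := S.conj_lam hu hv
  rw [h, zero_smul, add_zero, mul_inv_eq_iff_eq_mul] at h1
  exact h1

theorem comm' {u v : Fin 6 → F} (hu : hermForm 6 F 2 u u = 0) (hv : hermForm 6 F 2 v v = 0)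
    (h : hermForm 6 F 2 u v = 0) : Commute (lam u) (lam v) :=
  S.comm hu hv (herm_eq_zero_swap hF h)

/-- The points are separated by `lam`. -/
theorem eq_smul {u v : Fin 6 → F} (hu : hermForm 6 F 2 u u = 0) (hv : hermForm 6 F 2 v v = 0)
    (hu0 : u ≠ 0) (h : lam u = lam v ∨ lam u = lam v * z) : ∃ c : F, c ≠ 0 ∧ v = c • u := by
  rw [← tau_eq_iff hF (by norm_num) hu hv hu0, ← S.pi u hu, ← S.pi v hv]
  exact S.ext.map_eq.2 h

theorem z_ne_lam {u : Fin 6 → F} (hu : hermForm 6 F 2 u u = 0) (hu0 : u ≠ 0) :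
    lam u ≠ 1 ∧ lam u ≠ z := by
  have h := tau_ne_one hF (n := 6) (by norm_num) hu hu0
  rw [← S.pi u hu] at h
  constructor
  · rintro h1
    rw [h1, map_one] at h
    exact h rfl
  · intro h1
    rw [h1, S.ext.mapz] at h
    exact h rfl

/-- An element acting through `f` and being central forces `f` to fix all points. -/
theorem smul_of_central {c : C} {f : (Fin 6 → F) → (Fin 6 → F)} (h : Acts lam c f)
    (hc : ∀ x : C, c * x = x * c) {v : Fin 6 → F} (hv : hermForm 6 F 2 v v = 0) (hv0 : v ≠ 0) :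
    ∃ k : F, k ≠ 0 ∧ f v = k • v := by
  obtain ⟨h1, h2⟩ := h v hv
  rw [hc, mul_inv_cancel_right] at h2
  exact S.eq_smul hv h1 hv0 (Or.inl h2)

end LamSys

end Cfsg.Agent.R01.Lam
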